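import Cfsg.Agent.H28.FPFAut

/-!
A finite solvable group with a fixed-point-free automorphism of order dividing four has
nilpotent derived subgroup.
-/

set_option autoImplicit false
set_option linter.style.haveILetI false

universe u

namespace H28

theorem map_mem_commutator {A B : Type*} [Group A] [Group B] (f : A →* B) {x : A}
    (hx : x ∈ commutator A) : f x ∈ commutator B := by
  refine (Subgroup.map_le_iff_le_comap.mp ?_ : commutator A ≤ (commutator B).comap f) hx
  rw [commutator_def, commutator_def, Subgroup.map_commutator]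
  exact Subgroup.commutator_mono le_top le_top

theorem isNilpotent_commutator_of_fpf_four : ∀ (n : ℕ) {G : Type u} [Group G] [Finite G],
    Nat.card G ≤ n → Group.IsSolvable G → ∀ σ : MulAut G, σ ^ 4 = 1 → FPF σ →
    Group.IsNilpotent (commutator G) := by
  intro n
  induction n with
  | zero => intro G _ _ hn; exact absurd hn (by simpa using Nat.card_pos.ne')
  | succ n ih =>
    intro G _ _ hn hsol σ hσ hfpf
    classical
    haveI := hsol
    rcases subsingleton_or_nontrivial G with hG | hG
    · infer_instance
    let S : Set (Subgroup G) := {N | N.Normal ∧ (∀ x ∈ N, σ x ∈ N) ∧ N ≠ ⊥}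
    obtain ⟨N, ⟨hNn, hNσ, hN1⟩, hNmin⟩ : ∃ N, Minimal (· ∈ S) N :=
      (Set.toFinite S).exists_minimal ⟨⊤, inferInstance, fun x _ => Subgroup.mem_top _, top_ne_bot⟩
    haveI := hNn
    have hσinv : ∀ (M : Subgroup G), (∀ x ∈ M, σ x ∈ M) → ∀ x, σ x ∈ M → x ∈ M := by
      intro M hM x hx
      obtain ⟨y, hy, hyx⟩ := (map_eq_of_forall_mem σ M hM).symm ▸ hx
      exact σ.injective hyx ▸ hy
    have hNab : IsMulCommutative N := by
      have hlt : ⁅N, N⁆ < N := by
        exact Group.IsSolvable.commutator_lt_of_ne_bot hN1
      have hbot : ⁅N, N⁆ = ⊥ := by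
        by_contra hne
        refine hlt.not_ge (hNmin ⟨inferInstance, ?_, hne⟩ hlt.le)
        intro x hx
        have h1 : (⁅N, N⁆).map σ.toMonoidHom = ⁅N, N⁆ := by
          rw [Subgroup.map_commutator, map_eq_of_forall_mem σ N hNσ]
        exact h1 ▸ Subgroup.mem_map_of_mem σ.toMonoidHom hx
      refine ⟨⟨fun a b => Subtype.ext ?_⟩⟩
      have h1 := Subgroup.commutator_mem_commutator a.2 b.2
      rw [hbot, Subgroup.mem_bot] at h1
      exact commutatorElement_eq_one_iff_mul_comm.mp h1
    set C := Subgroup.centralizer (N : Set G) with hC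
    haveI hCn : C.Normal := inferInstance
    have hNC : N ≤ C := fun x hx => Subgroup.mem_centralizer_iff.mpr fun y hy =>
      congrArg Subtype.val (hNab.is_comm.comm ⟨y, hy⟩ ⟨x, hx⟩)
    have hCσ : ∀ x ∈ C, σ x ∈ C := by
      intro x hx
      rw [hC, Subgroup.mem_centralizer_iff]
      intro y hy
      obtain ⟨z, hz, rfl⟩ := (map_eq_of_forall_mem σ N hNσ).symm ▸ hy
      change σ z * σ x = σ x * σ z
      rw [← map_mul, ← map_mul, Subgroup.mem_centralizer_iff.mp hx z hz]
    have hlt : ∀ (M : Subgroup G) [M.Normal], M ≠ ⊥ → Nat.card (G ⧸ M) < Nat.card G := by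
      intro M _ hM
      haveI : Nontrivial M := (Subgroup.nontrivial_iff_ne_bot M).mpr hM
      rw [Subgroup.card_eq_card_quotient_mul_card_subgroup M]
      exact lt_mul_of_one_lt_right Nat.card_pos Finite.one_lt_card
    have hq4 : ∀ (M : Subgroup G) [M.Normal] (hM : ∀ x ∈ M, σ x ∈ M), quotAut σ M hM ^ 4 = 1 := by
      intro M _ hM
      refine MulEquiv.ext fun y => ?_
      obtain ⟨g, rfl⟩ := QuotientGroup.mk_surjective y
      rw [quotAut_pow_mk, hσ]; rfl
    haveI hnilN : Group.IsNilpotent (commutator (G ⧸ N)) :=
      ih (by have := hlt N hN1; omega) inferInstance (quotAut σ N hNσ) (hq4 N hNσ)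
        (fpf_quotAut hfpf N hNσ)
    -- the group acting on N
    let τ := quotAut σ C hCσ
    have hτ : τ ^ 4 = 1 := hq4 C hCσ
    have hτf : FPF τ := fpf_quotAut hfpf C hCσ
    haveI hnilH : Group.IsNilpotent (commutator (G ⧸ C)) :=
      ih (by have := hlt C (fun h => hN1 (eq_bot_iff.mpr (h ▸ hNC))); omega) inferInstance τ hτ hτf
    letI : CommGroup N := { (inferInstance : Group N) with mul_comm := hNab.is_comm.comm }
    let act : G →* AddMonoid.End (Additive N) :=
      { toFun := fun g => MonoidHom.toAdditive (MulAut.conjNormal g : MulAut N).toMonoidHom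
        map_one' := DFunLike.ext (F := AddMonoid.End (Additive N)) _ _ fun x => by
          change Additive.ofMul ((MulAut.conjNormal (1 : G) : MulAut N) x.toMul) = x
          simp
        map_mul' := fun a b => DFunLike.ext (F := AddMonoid.End (Additive N)) _ _ fun x => by
          change Additive.ofMul ((MulAut.conjNormal (a * b) : MulAut N) x.toMul) =
            Additive.ofMul ((MulAut.conjNormal a : MulAut N) ((MulAut.conjNormal b : MulAut N) x.toMul))
          simp }
    have hker : C ≤ act.ker := fun x hx => MonoidHom.mem_ker.mpr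
      (DFunLike.ext (F := AddMonoid.End (Additive N)) _ _ fun y => by
        change Additive.ofMul ((MulAut.conjNormal x : MulAut N) y.toMul) = y
        have : (MulAut.conjNormal x : MulAut N) y.toMul = y.toMul := Subtype.ext (by
          rw [MulAut.conjNormal_apply, ← Subgroup.mem_centralizer_iff.mp hx _ y.toMul.2,
            mul_inv_cancel_right])
        rw [this]; rfl)
    let ρ := QuotientGroup.lift C act hker
    have hρval : ∀ (g : G) (y : Additive N),
        (((ρ (QuotientGroup.mk g) y).toMul : N) : G) = g * (y.toMul : G) * g⁻¹ := fun g y => by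
      change (((MulAut.conjNormal g : MulAut N) y.toMul : N) : G) = _
      rw [MulAut.conjNormal_apply]
    let Sσ : AddMonoid.End (Additive N) := MonoidHom.toAdditive (subAut σ N hNσ).toMonoidHom
    have hSval : ∀ y : Additive N, (((Sσ y).toMul : N) : G) = σ (y.toMul : G) := fun y => rfl
    have hρinj : ∀ h : G ⧸ C, (∀ v, ρ h v = v) → h = 1 := by
      intro h
      obtain ⟨g, rfl⟩ := QuotientGroup.mk_surjective h
      intro hfix
      refine (QuotientGroup.eq_one_iff g).mpr (Subgroup.mem_centralizer_iff.mpr fun x hx => ?_)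
      have := hρval g (Additive.ofMul ⟨x, hx⟩)
      rw [hfix] at this
      simp only [toMul_ofMul] at this
      calc x * g = g * x * g⁻¹ * g := by rw [← this]
        _ = g * x := by group
    have hScompat : ∀ h v, Sσ (ρ h v) = ρ (τ h) (Sσ v) := by
      intro h v
      obtain ⟨g, rfl⟩ := QuotientGroup.mk_surjective h
      refine Additive.toMul.injective (Subtype.ext ?_)
      rw [quotAut_mk, hSval, hρval, hρval, hSval, map_mul, map_mul, map_inv]
    have hS4 : ∀ v, Sσ (Sσ (Sσ (Sσ v))) = v := fun v => by
      refine Additive.toMul.injective (Subtype.ext ?_)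
      rw [hSval, hSval, hSval, hSval]
      have := DFunLike.congr_fun hσ (v.toMul : G)
      simpa [pow_succ, MulAut.mul_apply] using this
    have hSfix : ∀ v, Sσ v = v → v = 0 := fun v hv =>
      Additive.toMul.injective (Subtype.ext (hfpf _ ((hSval v).symm.trans (by rw [hv]))))
    have hodd : Odd (Nat.card (Additive N)) :=
      (odd_card_of_fpf (k := 2) hσ hfpf).of_dvd_nat (Subgroup.card_subgroup_dvd_card N)
    -- nilpotent invariant normal subgroups of the acting group are fixed by τ²
    have key : ∀ U : Subgroup (G ⧸ C), U.Normal → Group.IsNilpotent U → (∀ x ∈ U, τ x ∈ U) →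
        ∀ x ∈ U, τ (τ x) = x := by
      intro U hUn hUnil hUτ x hx
      haveI := hUn
      haveI := hUnil
      have hcop : (Nat.card U).Coprime (Nat.card (Additive N)) := by
        refine Nat.coprime_of_dvd fun r hr h1 h2 => ?_
        haveI := Fact.mk hr
        obtain ⟨R⟩ : Nonempty (Sylow r U) := inferInstance
        haveI hRn : (R : Subgroup U).Normal := Sylow.normal_of_normalizerCondition
          (Group.normalizerCondition_of_isNilpotent) R
        haveI hRc : (R : Subgroup U).Characteristic := R.characteristic_of_normal inferInstance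
        set Rm := (R : Subgroup U).map U.subtype with hRm
        haveI : Rm.Normal := inferInstance
        have hRmτ : ∀ y ∈ Rm, τ y ∈ Rm := by
          rintro _ ⟨y, hy, rfl⟩
          exact ⟨subAut τ U hUτ y, char_apply_mem (subAut τ U hUτ) (R : Subgroup U) y hy, rfl⟩
        have hRm1 : Rm ≠ ⊥ := fun h => R.ne_bot_of_dvd_card h1
          ((Subgroup.map_eq_bot_iff_of_injective _ U.subtype_injective).mp h)
        -- fixed points
        let M : Subgroup G :=
          { carrier := {y | ∃ hy : y ∈ N, ∀ h ∈ Rm, ρ h (Additive.ofMul ⟨y, hy⟩) = Additive.ofMul ⟨y, hy⟩}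
            one_mem' := ⟨N.one_mem, fun h _ => map_zero (ρ h)⟩
            mul_mem' := by
              rintro a b ⟨ha, ha'⟩ ⟨hb, hb'⟩
              refine ⟨N.mul_mem ha hb, fun h hh => ?_⟩
              change ρ h (Additive.ofMul ⟨a, ha⟩ + Additive.ofMul ⟨b, hb⟩) = _
              rw [map_add, ha' h hh, hb' h hh]; rfl
            inv_mem' := by
              rintro a ⟨ha, ha'⟩
              refine ⟨N.inv_mem ha, fun h hh => ?_⟩
              change ρ h (-Additive.ofMul ⟨a, ha⟩) = _
              rw [map_neg, ha' h hh]; rfl }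
        have hMn : M.Normal := by
          constructor
          rintro y ⟨hy, hy'⟩ g
          refine ⟨hNn.conj_mem y hy g, fun h hh => ?_⟩
          have e : Additive.ofMul (⟨g * y * g⁻¹, hNn.conj_mem y hy g⟩ : N) =
              ρ (QuotientGroup.mk g) (Additive.ofMul ⟨y, hy⟩) :=
            Additive.toMul.injective (Subtype.ext (hρval g (Additive.ofMul ⟨y, hy⟩)).symm)
          have hh' : (QuotientGroup.mk g : G ⧸ C)⁻¹ * h * QuotientGroup.mk g ∈ Rm := by
            simpa using (inferInstance : Rm.Normal).conj_mem h hh (QuotientGroup.mk g : G ⧸ C)⁻¹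
          rw [e]
          conv_rhs => rw [← hy' _ hh']
          change (ρ h * ρ (QuotientGroup.mk g)) _ = (ρ (QuotientGroup.mk g) * ρ _) _
          rw [← map_mul, ← map_mul]
          congr 2
          group
        have hMσ : ∀ y ∈ M, σ y ∈ M := by
          rintro y ⟨hy, hy'⟩
          refine ⟨hNσ y hy, fun h hh => ?_⟩
          obtain ⟨h', hh', heq⟩ : h ∈ Rm.map τ.toMonoidHom := by
            rw [map_eq_of_forall_mem τ Rm hRmτ]; exact hh
          rw [← heq]
          have e : Additive.ofMul (⟨σ y, hNσ y hy⟩ : N) = Sσ (Additive.ofMul ⟨y, hy⟩) := rfl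
          rw [e]
          change ρ (τ h') _ = _
          rw [← hScompat, hy' h' hh']
        have hMne : M ≠ ⊥ := by
          letI : MulAction Rm (Additive N) :=
            { smul := fun h v => ρ (h : G ⧸ C) v
              one_smul := fun v => by change ρ (1 : G ⧸ C) v = v; rw [map_one]; rfl
              mul_smul := fun a b v => by
                change ρ ((a : G ⧸ C) * b) v = ρ (a : G ⧸ C) (ρ (b : G ⧸ C) v)
                rw [map_mul]; rfl }
          have hp : IsPGroup r Rm := R.isPGroup'.map U.subtype
          obtain ⟨b, hb, hb0⟩ := hp.exists_fixed_point_of_prime_dvd_card_of_fixed_point (α := Additive N) h2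
            (a := 0) (fun h => map_zero (ρ (h : G ⧸ C)))
          intro hbot
          have hbM : (b.toMul : G) ∈ M := ⟨b.toMul.2, fun h hh => hb ⟨h, hh⟩⟩
          rw [hbot, Subgroup.mem_bot] at hbM
          exact hb0.symm (Additive.toMul.injective (Subtype.ext hbM))
        have hMN : N ≤ M := hNmin ⟨hMn, hMσ, hMne⟩ (fun y hy => hy.1)
        refine hRm1 (eq_bot_iff.mpr fun h hh => Subgroup.mem_bot.mpr (hρinj h fun v => ?_))
        exact (hMN v.toMul.2).2 h hh
      have hU4 : subAut τ U hUτ ^ 4 = 1 := MulEquiv.ext fun y => Subtype.ext (by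
        rw [subAut_pow_coe, hτ]; rfl)
      have h1 := sq_fixes_of_fpf (Nat.card U) le_rfl hUnil (subAut τ U hUτ) hU4
        (fpf_subAut hτf U hUτ) (ρ.comp U.subtype) Sσ hS4 hSfix
        (fun u v => hScompat u v) hcop hodd ⟨x, hx⟩
      have h2 : x⁻¹ * τ (τ x) = 1 := hρinj _ fun v => by
        have h3 : ρ (τ (τ x)) v = ρ x v := h1 v
        rw [map_mul, AddMonoid.End.coe_mul, Function.comp_apply, h3]
        change (ρ x⁻¹ * ρ x) v = v
        rw [← map_mul, inv_mul_cancel, map_one]; rfl
      exact (inv_mul_eq_one.mp h2).symm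
    have hτcom : ∀ x ∈ commutator (G ⧸ C), τ x ∈ commutator (G ⧸ C) := char_apply_mem τ _
    set D := Subgroup.centralizer (commutator (G ⧸ C) : Set (G ⧸ C)) with hD
    have hAfix := key (commutator (G ⧸ C)) inferInstance hnilH hτcom
    haveI : D.Normal := inferInstance
    haveI hDnil : Group.IsNilpotent D := by
      haveI : Group.IsNilpotent ↥(commutator D) := by
        refine Subgroup.isNilpotent_of_ker_le_center (1 : ↥(commutator D) →* Unit) fun a _ =>
          Subgroup.mem_center_iff.mpr fun b => (?_ : b * a = a * b)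
        refine (Subtype.ext (Subtype.ext ?_) : a * b = b * a).symm
        have ha : ((a : D) : G ⧸ C) ∈ commutator (G ⧸ C) := map_mem_commutator D.subtype a.2
        exact (Subgroup.mem_centralizer_iff.mp (b : D).2 _ ha)
      refine Subgroup.isNilpotent_of_ker_le_center (G := D) (Abelianization.of : D →* Abelianization D) ?_
      intro y hy
      rw [Abelianization.ker_of] at hy
      rw [Subgroup.mem_center_iff]
      intro z
      exact Subtype.ext (Subgroup.mem_centralizer_iff.mp z.2 _
        (map_mem_commutator D.subtype hy)).symm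
    have hDτ : ∀ x ∈ D, τ x ∈ D := by
      intro x hx
      rw [hD, Subgroup.mem_centralizer_iff]
      intro y hy
      obtain ⟨z, hz, rfl⟩ := (map_eq_of_forall_mem τ _ hτcom).symm ▸ hy
      change τ z * τ x = τ x * τ z
      rw [← map_mul, ← map_mul, Subgroup.mem_centralizer_iff.mp hx z hz]
    have hDfix := key D inferInstance hDnil hDτ
    have hτodd : Odd (Nat.card (G ⧸ C)) := odd_card_of_fpf (k := 2) hτ hτf
    have hinv : Function.Involutive τ := by
      intro h
      have hu : h⁻¹ * τ (τ h) ∈ D := by
        rw [hD, Subgroup.mem_centralizer_iff]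
        intro a ha
        have h1 : τ (τ (h * a * h⁻¹)) = h * a * h⁻¹ :=
          hAfix _ ((inferInstance : (commutator (G ⧸ C)).Normal).conj_mem a ha h)
        rw [map_mul, map_mul, map_mul, map_mul, map_inv, map_inv, hAfix a ha] at h1
        calc a * (h⁻¹ * τ (τ h)) = h⁻¹ * (h * a * h⁻¹) * τ (τ h) := by group
          _ = h⁻¹ * τ (τ h) * a := by rw [← h1]; group
      set u := h⁻¹ * τ (τ h) with hu'
      have hu2 : u * u = 1 := by
        have h4 : τ (τ (τ (τ h))) = h := by
          have := DFunLike.congr_fun hτ h
          simpa [pow_succ, MulAut.mul_apply] using this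
        have h5 := hDfix u hu
        rw [hu', map_mul, map_mul, map_inv, map_inv, h4] at h5
        calc u * u = u * ((τ (τ h))⁻¹ * h) := by rw [h5]
          _ = 1 := by rw [hu']; group
      have hu1 : u = 1 := by
        rw [← orderOf_eq_one_iff]
        refine Nat.eq_one_of_dvd_coprimes (Nat.coprime_two_left.mpr hτodd)
          (orderOf_dvd_of_pow_eq_one (by rw [sq, hu2])) (orderOf_dvd_natCard u)
      exact (inv_mul_eq_one.mp hu1).symm
    have hHab : ∀ a b : G ⧸ C, a * b = b * a := by
      have hf : MonoidHom.FixedPointFree τ := hτf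
      exact fun a b => hf.commute_all_of_involutive hinv a b
    have hGC : commutator G ≤ C := by
      rw [commutator_def, Subgroup.commutator_le]
      intro a _ b _
      rw [← QuotientGroup.eq_one_iff, ← QuotientGroup.mk'_apply, map_commutatorElement,
        commutatorElement_eq_one_iff_mul_comm]
      exact hHab _ _
    refine Subgroup.isNilpotent_of_ker_le_center (G := commutator G)
      (((QuotientGroup.mk' N).comp (commutator G).subtype).codRestrict (commutator (G ⧸ N)) ?_) ?_
    · exact fun x => map_mem_commutator (QuotientGroup.mk' N) x.2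
    · intro x hx
      have hxN : (x : G) ∈ N := (QuotientGroup.eq_one_iff _).mp
        (congrArg Subtype.val (MonoidHom.mem_ker.mp hx))
      rw [Subgroup.mem_center_iff]
      intro y
      exact Subtype.ext (Subgroup.mem_centralizer_iff.mp (hGC y.2) _ hxN).symm

end H28
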