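import Mathlib

/-!
Fixed-point-free automorphisms: quotients, restrictions, and a trivial-action lemma for
automorphisms of order dividing four.
-/

set_option autoImplicit false
set_option linter.style.haveILetI false

universe u v

namespace H28

/-- An automorphism fixes only the identity. -/
def FPF {G : Type*} [Group G] (σ : MulAut G) : Prop := ∀ g : G, σ g = g → g = 1

variable {G : Type u} [Group G]

theorem fpf_bijective [Finite G] {σ : MulAut G} (h : FPF σ) :
    Function.Bijective (fun g : G => g⁻¹ * σ g) := by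
  refine Finite.injective_iff_bijective.mp fun a b hab => ?_
  have : σ (a * b⁻¹) = a * b⁻¹ := by
    rw [map_mul, map_inv]
    calc σ a * (σ b)⁻¹ = a * (a⁻¹ * σ a) * (σ b)⁻¹ := by group
      _ = a * (b⁻¹ * σ b) * (σ b)⁻¹ := by rw [hab]
      _ = a * b⁻¹ := by group
  exact mul_inv_eq_one.mp (h _ this)

/-- The automorphism induced on an invariant subgroup. -/
noncomputable def subAut [Finite G] (σ : MulAut G) (H : Subgroup G) (hH : ∀ x ∈ H, σ x ∈ H) :
    MulAut H :=
  MulEquiv.ofBijective ((σ.toMonoidHom.comp H.subtype).codRestrict H fun x => hH x x.2)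
    (Finite.injective_iff_bijective.mp fun _ _ h =>
      Subtype.ext (σ.injective (congrArg Subtype.val h)))

@[simp] theorem subAut_coe [Finite G] (σ : MulAut G) (H : Subgroup G) (hH : ∀ x ∈ H, σ x ∈ H)
    (x : H) : ((subAut σ H hH x : H) : G) = σ x := rfl

theorem subAut_pow_coe [Finite G] (σ : MulAut G) (H : Subgroup G) (hH : ∀ x ∈ H, σ x ∈ H)
    (n : ℕ) (x : H) : (((subAut σ H hH) ^ n) x : G) = (σ ^ n) x := by
  induction n with
  | zero => rfl
  | succ n ih => rw [pow_succ', pow_succ', MulAut.mul_apply, MulAut.mul_apply, subAut_coe, ih]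

theorem fpf_subAut [Finite G] {σ : MulAut G} (h : FPF σ) (H : Subgroup G)
    (hH : ∀ x ∈ H, σ x ∈ H) : FPF (subAut σ H hH) :=
  fun x hx => Subtype.ext (h x (congrArg Subtype.val hx))

theorem map_eq_of_forall_mem [Finite G] (σ : MulAut G) (H : Subgroup G)
    (hH : ∀ x ∈ H, σ x ∈ H) : H.map σ.toMonoidHom = H := by
  refine Subgroup.eq_of_le_of_card_ge ?_ (le_of_eq (Subgroup.card_map_of_injective σ.injective).symm)
  rintro _ ⟨x, hx, rfl⟩
  exact hH x hx

/-- The automorphism induced on the quotient by an invariant normal subgroup. -/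
noncomputable def quotAut [Finite G] (σ : MulAut G) (N : Subgroup G) [N.Normal]
    (hN : ∀ x ∈ N, σ x ∈ N) : MulAut (G ⧸ N) :=
  QuotientGroup.congr N N σ (map_eq_of_forall_mem σ N hN)

@[simp] theorem quotAut_mk [Finite G] (σ : MulAut G) (N : Subgroup G) [N.Normal]
    (hN : ∀ x ∈ N, σ x ∈ N) (g : G) :
    quotAut σ N hN (QuotientGroup.mk g) = QuotientGroup.mk (σ g) :=
  rfl

theorem quotAut_pow_mk [Finite G] (σ : MulAut G) (N : Subgroup G) [N.Normal]
    (hN : ∀ x ∈ N, σ x ∈ N) (n : ℕ) (g : G) :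
    (quotAut σ N hN ^ n) (QuotientGroup.mk g) = QuotientGroup.mk ((σ ^ n) g) := by
  induction n with
  | zero => rfl
  | succ n ih => rw [pow_succ', pow_succ', MulAut.mul_apply, MulAut.mul_apply, ih, quotAut_mk]

theorem mem_of_inv_mul_apply_mem [Finite G] {σ : MulAut G} (h : FPF σ) {N : Subgroup G}
    (hN : ∀ x ∈ N, σ x ∈ N) {g : G} (hg : g⁻¹ * σ g ∈ N) : g ∈ N := by
  obtain ⟨n, hn⟩ := (fpf_bijective (fpf_subAut h N hN)).2 ⟨_, hg⟩
  have h1 := congrArg Subtype.val hn
  simp at h1
  have : (n : G) = g := (fpf_bijective h).1 h1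
  exact this ▸ n.2

theorem fpf_quotAut [Finite G] {σ : MulAut G} (h : FPF σ) (N : Subgroup G) [N.Normal]
    (hN : ∀ x ∈ N, σ x ∈ N) : FPF (quotAut σ N hN) := by
  intro y hy
  obtain ⟨g, rfl⟩ := QuotientGroup.mk_surjective y
  rw [quotAut_mk] at hy
  exact (QuotientGroup.eq_one_iff g).mpr
    (mem_of_inv_mul_apply_mem h hN (QuotientGroup.eq.mp hy.symm))

theorem char_apply_mem [Finite G] (σ : MulAut G) (K : Subgroup G) [hK : K.Characteristic] :
    ∀ x ∈ K, σ x ∈ K := by
  intro x hx
  have := Subgroup.characteristic_iff_comap_eq.mp hK σ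
  rw [← this] at hx
  exact hx

/-- An automorphism of order dividing a power of `2` without fixed points forces odd order. -/
theorem odd_card_of_fpf [Finite G] {σ : MulAut G} {k : ℕ} (hσ : σ ^ (2 ^ k) = 1) (h : FPF σ) :
    Odd (Nat.card G) := by
  classical
  haveI : Fact (Nat.Prime 2) := ⟨Nat.prime_two⟩
  haveI := Fintype.ofFinite G
  obtain ⟨j, -, hj⟩ := (Nat.dvd_prime_pow Nat.prime_two).mp (orderOf_dvd_of_pow_eq_one hσ)
  have hP : IsPGroup 2 (Subgroup.zpowers σ) :=
    IsPGroup.of_card (n := j) (by rw [Nat.card_zpowers, hj])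
  have hfix : MulAction.fixedPoints (Subgroup.zpowers σ) G = {1} := by
    ext g
    simp only [MulAction.mem_fixedPoints, Set.mem_singleton_iff]
    refine ⟨fun hg => h g (hg ⟨σ, Subgroup.mem_zpowers σ⟩), fun hg s => ?_⟩
    subst hg
    exact map_one (s : MulAut G)
  have h1 := hP.card_modEq_card_fixedPoints G
  rw [hfix, Nat.card_coe_set_eq, Set.ncard_singleton] at h1
  exact Nat.odd_iff.mpr h1

theorem eq_zero_of_coprime_nsmul {V : Type*} [AddCommGroup V] [Finite V] {n : ℕ}
    (hn : n.Coprime (Nat.card V)) {v : V} (h : n • v = 0) : v = 0 := by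
  rw [← AddMonoid.addOrderOf_eq_one_iff]
  exact Nat.eq_one_of_dvd_coprimes hn (addOrderOf_dvd_of_nsmul_eq_zero h) (addOrderOf_dvd_natCard v)

/-- If `σ` has order dividing four and is fixed-point-free on `V` and on the nilpotent group `U`
acting on `V`, with coprime orders, then `σ ^ 2` fixes the image of `U` in `End V`. -/
theorem sq_fixes_of_fpf : ∀ (n : ℕ) {U : Type u} [Group U] [Finite U], Nat.card U ≤ n →
    Group.IsNilpotent U → ∀ (σ : MulAut U), σ ^ 4 = 1 → FPF σ →
    ∀ {V : Type v} [AddCommGroup V] [Finite V] (ρ : U →* AddMonoid.End V) (S : AddMonoid.End V),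
    (∀ v, S (S (S (S v))) = v) → (∀ v, S v = v → v = 0) →
    (∀ u v, S (ρ u v) = ρ (σ u) (S v)) → (Nat.card U).Coprime (Nat.card V) →
    Odd (Nat.card V) → ∀ u v, ρ (σ (σ u)) v = ρ u v := by
  intro n
  induction n with
  | zero => intro U _ _ hn; exact absurd hn (by simpa using Nat.card_pos.ne')
  | succ n ih =>
    intro U _ _ hn hnil σ hσ hfpf V _ _ ρ S hS hSfix hcompat hcop hodd u v
    classical
    haveI := hnil
    rcases subsingleton_or_nontrivial U with hU | hU
    · rw [Subsingleton.elim (σ (σ u)) u]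
    have hσ4 : ∀ x, σ (σ (σ (σ x))) = x := fun x => by
      have := DFunLike.congr_fun hσ x
      simpa [pow_succ, MulAut.mul_apply] using this
    have hρmul : ∀ a b w, ρ (a * b) w = ρ a (ρ b w) := fun a b w => by rw [map_mul]; rfl
    have hρone : ∀ w, ρ (1 : U) w = w := fun w => by rw [map_one]; rfl
    set Z := Subgroup.center U with hZ
    have hσZ : ∀ x ∈ Z, σ x ∈ Z := char_apply_mem σ Z
    let σz := subAut σ Z hσZ
    have hfz : FPF σz := fpf_subAut hfpf Z hσZ
    haveI := Fintype.ofFinite Z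
    have hcopZ : (Nat.card Z).Coprime (Nat.card V) :=
      hcop.coprime_dvd_left (Subgroup.card_subgroup_dvd_card Z)
    -- P is the sum over the centre
    let P : V → V := fun w => ∑ z : Z, ρ z w
    have hPfix : ∀ (b : Z) w, ρ b (P w) = P w := by
      intro b w
      simp only [P, map_sum]
      exact Fintype.sum_equiv (Equiv.mulLeft b) _ _ fun z => by
        rw [← hρmul]; rfl
    -- step 1: ρ (c⁻¹ σ² c) is trivial for c in the centre
    have step1 : ∀ (c : Z) (w : V), ρ ((c : U)⁻¹ * σ (σ (c : U))) w = w := by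
      intro c w
      have horb : ∀ a : Z, w + ρ ((a : U)⁻¹ * σ a) (S w) + ρ ((a : U)⁻¹ * σ (σ a)) (S (S w))
          + ρ ((a : U)⁻¹ * σ (σ (σ a))) (S (S (S w))) = 0 := by
        intro a
        have h1 : ρ a w + S (ρ a w) + S (S (ρ a w)) + S (S (S (ρ a w))) = 0 := by
          refine hSfix _ ?_
          simp only [map_add, hS]
          abel
        simp only [hcompat] at h1
        have h2 := congrArg (ρ (a : U)⁻¹) h1
        simp only [map_add, map_zero, ← hρmul, inv_mul_cancel, hρone] at h2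
        exact h2
      have hsum : ∑ a : Z, (w + ρ ((a : U)⁻¹ * σ a) (S w) + ρ ((a : U)⁻¹ * σ (σ a)) (S (S w))
          + ρ ((a : U)⁻¹ * σ (σ (σ a))) (S (S (S w)))) = 0 :=
        Finset.sum_eq_zero fun a _ => horb a
      simp only [Finset.sum_add_distrib, Finset.sum_const, Finset.card_univ] at hsum
      set b : Z := ⟨(c : U)⁻¹ * σ (σ (c : U)), Z.mul_mem (Z.inv_mem c.2) (hσZ _ (hσZ _ c.2))⟩
      have e1 : ∀ x, ρ b (∑ a : Z, ρ ((a : U)⁻¹ * σ a) x) = ∑ a : Z, ρ ((a : U)⁻¹ * σ a) x := by
        intro x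
        have hb := fpf_bijective hfz
        have : ∑ a : Z, ρ ((a : U)⁻¹ * σ a) x = P x :=
          Fintype.sum_equiv (Equiv.ofBijective _ hb) _ _ fun a => rfl
        rw [this, hPfix]
      have e3 : ∀ x, ρ b (∑ a : Z, ρ ((a : U)⁻¹ * σ (σ (σ a))) x) =
          ∑ a : Z, ρ ((a : U)⁻¹ * σ (σ (σ a))) x := by
        intro x
        have hb : Function.Bijective (fun a : Z => a⁻¹ * σz (σz (σz a))) := by
          refine fpf_bijective (σ := σz * σz * σz) fun a ha => hfz a ?_
          have h4 : σz (σz (σz (σz a))) = a := Subtype.ext (hσ4 a)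
          have h3 : σz (σz (σz a)) = a := ha
          rw [h3] at h4
          exact h4
        have : ∑ a : Z, ρ ((a : U)⁻¹ * σ (σ (σ a))) x = P x :=
          Fintype.sum_equiv (Equiv.ofBijective _ hb) _ _ fun a => rfl
        rw [this, hPfix]
      have e2 : ∀ x, ρ b (∑ a : Z, ρ ((a : U)⁻¹ * σ (σ a)) x) =
          ∑ a : Z, ρ ((a : U)⁻¹ * σ (σ a)) x := by
        intro x
        rw [map_sum]
        refine Fintype.sum_equiv (Equiv.mulLeft c) _ _ fun a => ?_
        rw [← hρmul]
        congr 2
        have hca : (a : U)⁻¹ * (c : U)⁻¹ = (c : U)⁻¹ * (a : U)⁻¹ :=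
          (Subgroup.mem_center_iff.mp (Z.inv_mem c.2) (a : U)⁻¹)
        have hsc : σ (σ (c : U)) * (a : U)⁻¹ = (a : U)⁻¹ * σ (σ (c : U)) :=
          (Subgroup.mem_center_iff.mp (hσZ _ (hσZ _ c.2)) (a : U)⁻¹).symm
        simp only [b, Equiv.coe_mulLeft, Subgroup.coe_mul, mul_inv_rev, map_mul]
        calc (c : U)⁻¹ * σ (σ (c : U)) * ((a : U)⁻¹ * σ (σ (a : U)))
            = (c : U)⁻¹ * (σ (σ (c : U)) * (a : U)⁻¹) * σ (σ (a : U)) := by group
          _ = (c : U)⁻¹ * (a : U)⁻¹ * σ (σ (c : U)) * σ (σ (a : U)) := by rw [hsc]; group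
          _ = _ := by rw [← hca]; group
      have h2 := congrArg (ρ b) hsum
      simp only [map_add, map_zero, e1, e2, e3, map_nsmul] at h2
      rw [← hsum, add_left_inj, add_left_inj, add_left_inj] at h2
      have h3 : Fintype.card Z • (ρ b w - w) = 0 := by rw [nsmul_sub, h2, sub_self]
      rw [← Nat.card_eq_fintype_card] at h3
      exact sub_eq_zero.mp (eq_zero_of_coprime_nsmul hcopZ h3)
    -- step 2: σ acts as inversion on the image of the centre
    have step2 : ∀ (z : Z) (w : V), ρ (σ (z : U)) w = ρ ((z : U)⁻¹) w := by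
      intro z
      let K : Subgroup Z :=
        { carrier := {a | ∀ w, ρ (a : U) w = w}
          one_mem' := hρone
          mul_mem' := fun {a b} ha hb w => by rw [Subgroup.coe_mul, hρmul, hb, ha]
          inv_mem' := fun {a} ha w => by
            conv_lhs => rw [← ha w, ← hρmul, Subgroup.coe_inv, inv_mul_cancel, hρone] }
      have hK : ∀ a ∈ K, σz a ∈ K := by
        intro a ha w
        have hw : S (S (S (S w))) = w := hS w
        rw [← hw, subAut_coe, ← hcompat, ha]
      have hy : (⟨z * σ (z : U), Z.mul_mem z.2 (hσZ _ z.2)⟩ : Z)⁻¹ *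
          σz ⟨z * σ (z : U), Z.mul_mem z.2 (hσZ _ z.2)⟩ ∈ K := by
        intro w
        have hcz : (σ (z : U))⁻¹ * (z : U)⁻¹ * (σ (z : U)) = (z : U)⁻¹ := by
          rw [mul_assoc, Subgroup.mem_center_iff.mp (hσZ _ z.2) (z : U)⁻¹, inv_mul_cancel_left]
        have : (((⟨z * σ (z : U), Z.mul_mem z.2 (hσZ _ z.2)⟩ : Z)⁻¹ *
          σz ⟨z * σ (z : U), Z.mul_mem z.2 (hσZ _ z.2)⟩ : Z) : U) = (z : U)⁻¹ * σ (σ (z : U)) := by
          simp only [Subgroup.coe_mul, Subgroup.coe_inv, σz, subAut_coe, mul_inv_rev, map_mul]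
          rw [← mul_assoc, hcz]
        rw [this]
        exact step1 z w
      have hzK := mem_of_inv_mul_apply_mem hfz hK hy
      intro w
      have := congrArg (ρ (z : U)⁻¹) (hzK w)
      rw [← hρmul] at this
      simpa using this
    -- step 3: the fixed points of S² are fixed by the centre
    have hZodd : Odd (Nat.card Z) := by
      refine odd_card_of_fpf (σ := σz) (k := 2) ?_ hfz
      refine MulEquiv.ext fun a => Subtype.ext ?_
      rw [subAut_pow_coe, show (2 : ℕ) ^ 2 = 4 from rfl, hσ]; rfl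
    have step3 : ∀ w, S (S w) = w → ∀ z : Z, ρ (z : U) w = w := by
      intro w hw z
      have hneg : ∀ x, S (S x) = x → S x = -x := fun x hx => by
        refine eq_neg_of_add_eq_zero_left ?_
        exact hSfix _ (by rw [map_add, hx]; abel)
      have hz2 : ∀ (a : Z), ρ (σ (σ (a : U))) = ρ (a : U) := fun a => by
        refine DFunLike.ext (F := AddMonoid.End V) _ _ fun x => ?_
        calc ρ (σ (σ (a : U))) x = ρ ((a : U) * ((a : U)⁻¹ * σ (σ (a : U)))) x := by
              rw [mul_inv_cancel_left]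
          _ = ρ (a : U) x := by rw [hρmul, step1 a x]
      have hDfix : S (S (ρ (z : U) w - ρ (z : U)⁻¹ w)) = ρ (z : U) w - ρ (z : U)⁻¹ w := by
        rw [map_sub, map_sub, hcompat, hcompat, hcompat, hcompat, hw, hz2]
        have := hz2 z⁻¹
        rw [Subgroup.coe_inv] at this
        rw [this]
      have h1 := hneg _ hDfix
      rw [map_sub, hcompat, hcompat, hneg w hw, map_neg, map_neg, step2 z] at h1
      have h2 := step2 z⁻¹ w
      simp only [Subgroup.coe_inv, inv_inv] at h2
      rw [h2] at h1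
      have h3 : 2 • (ρ (z : U) w - ρ (z : U)⁻¹ w) = 0 := by
        rw [two_nsmul]
        nth_rewrite 2 [show ρ (z : U) w - ρ (z : U)⁻¹ w = -(-(ρ (z : U) w - ρ (z : U)⁻¹ w)) by abel]
        rw [← h1]; abel
      have h4 := sub_eq_zero.mp (eq_zero_of_coprime_nsmul (Nat.coprime_two_left.mpr hodd) h3)
      have h5 : ρ ((z : U) * z) w = w := by rw [hρmul, h4, ← hρmul, mul_inv_cancel, hρone]
      obtain ⟨m, hm⟩ := hZodd
      have hz : (z : U) = ((z : U) * z) ^ (m + 1) := by
        have h6 : (z : U) ^ Nat.card Z = 1 := by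
          rw [← Subgroup.coe_pow, pow_card_eq_one', Subgroup.coe_one]
        rw [← sq, ← pow_mul, show 2 * (m + 1) = Nat.card Z + 1 by omega, pow_succ, h6, one_mul]
      rw [hz]
      induction m + 1 with
      | zero => rw [pow_zero, hρone]
      | succ j ihj => rw [pow_succ, hρmul, h5, ihj]
    -- the two parts of V
    have hPS : ∀ w, P (S (S w)) = S (S (P w)) := by
      intro w
      simp only [P, map_sum, hcompat]
      refine (Fintype.sum_equiv (σz.toEquiv.trans σz.toEquiv) _ _ fun a => ?_).symm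
      rfl
    have hker : ∀ w, P w = 0 → S (S w) = -w := by
      intro w hw
      refine eq_neg_of_add_eq_zero_left ?_
      set x := S (S w) + w with hx
      have hx2 : S (S x) = x := by rw [hx, map_add, map_add, hS]; abel
      have hPx : P x = Nat.card Z • x := by
        simp only [P]
        rw [Finset.sum_congr rfl (fun z _ => step3 x hx2 z), Finset.sum_const, Finset.card_univ,
          Nat.card_eq_fintype_card]
      have hPx0 : P x = 0 := by
        have : P x = P (S (S w)) + P w := by simp only [P, hx, map_add, Finset.sum_add_distrib]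
        rw [this, hPS, hw, map_zero, map_zero, add_zero]
      exact eq_zero_of_coprime_nsmul hcopZ (hPx.symm.trans hPx0)
    have hcomm : ∀ (g : U) w, P (ρ g w) = ρ g (P w) := by
      intro g w
      simp only [P, map_sum]
      refine Finset.sum_congr rfl fun z _ => ?_
      rw [← hρmul, ← hρmul, Subgroup.mem_center_iff.mp z.2 g]
    -- induction on the fixed points of the centre
    let V1 : AddSubgroup V :=
      { carrier := {w | ∀ z : Z, ρ (z : U) w = w}
        zero_mem' := fun z => map_zero _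
        add_mem' := fun {a b} ha hb z => by rw [map_add, ha z, hb z]
        neg_mem' := fun {a} ha z => by rw [map_neg, ha z] }
    have hgV1 : ∀ (g : U) w, w ∈ V1 → ρ g w ∈ V1 := fun g w hw z => by
      rw [← hρmul, ← Subgroup.mem_center_iff.mp z.2 g, hρmul, hw z]
    have hSV1 : ∀ w, w ∈ V1 → S w ∈ V1 := fun w hw z => by
      obtain ⟨y, hy⟩ : ∃ y : Z, σ (y : U) = z := ⟨σz.symm z, by
        rw [← subAut_coe σ Z hσZ (σz.symm z), MulEquiv.apply_symm_apply]⟩
      rw [← hy, ← hcompat, hw y]
    let ρ1 : U →* AddMonoid.End V1 :=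
      { toFun := fun g => AddMonoidHom.mk' (fun w => ⟨ρ g w, hgV1 g w w.2⟩)
          (fun a b => Subtype.ext (map_add _ _ _))
        map_one' := AddMonoidHom.ext fun w => Subtype.ext (hρone w)
        map_mul' := fun a b => AddMonoidHom.ext fun w => Subtype.ext (hρmul a b w) }
    let ρ1q : U ⧸ Z →* AddMonoid.End V1 := QuotientGroup.lift Z ρ1 fun z hz =>
      MonoidHom.mem_ker.mpr (AddMonoidHom.ext fun w => Subtype.ext (w.2 ⟨z, hz⟩))
    let S1 : AddMonoid.End V1 := AddMonoidHom.mk' (fun w => ⟨S w, hSV1 w w.2⟩)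
      (fun a b => Subtype.ext (map_add _ _ _))
    have hlt : Nat.card (U ⧸ Z) < Nat.card U := by
      haveI : Nontrivial Z :=
        (Subgroup.nontrivial_iff_ne_bot _).mpr (Group.IsNilpotent.center_ne_bot U)
      rw [Subgroup.card_eq_card_quotient_mul_card_subgroup Z]
      exact lt_mul_of_one_lt_right Nat.card_pos Finite.one_lt_card
    have hrec := ih (U := U ⧸ Z) (by omega) inferInstance (quotAut σ Z hσZ)
      (MulEquiv.ext fun y => by
        obtain ⟨g, rfl⟩ := QuotientGroup.mk_surjective y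
        rw [quotAut_pow_mk, hσ]; rfl)
      (fpf_quotAut hfpf Z hσZ) ρ1q S1
      (fun w => Subtype.ext (hS w)) (fun w hw => Subtype.ext (hSfix w (congrArg Subtype.val hw)))
      (fun y w => by
        obtain ⟨g, rfl⟩ := QuotientGroup.mk_surjective y
        rw [quotAut_mk]
        exact Subtype.ext (hcompat g w))
      ((hcop.coprime_dvd_left (Subgroup.card_quotient_dvd_card Z)).coprime_dvd_right
        (AddSubgroup.card_addSubgroup_dvd_card V1))
      (hodd.of_dvd_nat (AddSubgroup.card_addSubgroup_dvd_card V1))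
    have hV1 : ∀ w ∈ V1, ρ (σ (σ u)) w = ρ u w := fun w hw =>
      congrArg Subtype.val (hrec (QuotientGroup.mk u) ⟨w, hw⟩)
    have hV2 : ∀ w, P w = 0 → ρ (σ (σ u)) w = ρ u w := by
      intro w hw
      have h1 := hcompat (σ u) (S w)
      rw [← hcompat u w, hker w hw, map_neg] at h1
      have h2 := hker (ρ u w) (by rw [hcomm, hw, map_zero])
      rw [h2] at h1
      exact neg_inj.mp h1.symm
    have hsplit : Nat.card Z • ρ (σ (σ u)) v = Nat.card Z • ρ u v := by
      have h1 := hV1 (P v) (fun z => hPfix z v)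
      have h2 := hV2 (Nat.card Z • v - P v) (by
        have e : P (Nat.card Z • v - P v) = Nat.card Z • P v - P (P v) := by
          simp only [P, map_sub, map_nsmul, Finset.sum_sub_distrib, Finset.smul_sum]
        have e2 : P (P v) = Nat.card Z • P v := by
          change ∑ z : Z, ρ z (P v) = _
          rw [Finset.sum_congr rfl (fun z _ => hPfix z v), Finset.sum_const, Finset.card_univ,
            Nat.card_eq_fintype_card]
        rw [e, e2, sub_self])
      rw [map_sub, map_sub, map_nsmul, map_nsmul, h1, sub_left_inj] at h2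
      exact h2
    refine sub_eq_zero.mp (eq_zero_of_coprime_nsmul hcopZ ?_)
    rw [nsmul_sub, hsplit, sub_self]

end H28
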