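import Cfsg.Agent.H28.CountOrder
import Mathlib.Data.Nat.Totient

/-!
An isomorphism of power graphs preserves the orders of maximal cyclic subgroups of non prime power
order.
-/

set_option autoImplicit false
set_option linter.style.haveILetI false

namespace H28.PG

variable {G H : Type*} [Group G] [Group H]

/-- Adjacency (reflexive) in the power graph. -/
def Adj (x y : G) : Prop := x ∈ Subgroup.zpowers y ∨ y ∈ Subgroup.zpowers x

/-- Closed twins. -/
def Twin (x y : G) : Prop := ∀ u : G, Adj x u ↔ Adj y u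

/-- Two different primes divide. -/
def NPP (m : ℕ) : Prop := ∃ r s : ℕ, r.Prime ∧ s.Prime ∧ r ≠ s ∧ r ∣ m ∧ s ∣ m

/-- Maximal cyclic. -/
def Mx (g : G) : Prop := ∀ u : G, g ∈ Subgroup.zpowers u → u ∈ Subgroup.zpowers g

theorem Adj.rfl' (x : G) : Adj x x := Or.inl (Subgroup.mem_zpowers x)

theorem Adj.symm' {x y : G} (h : Adj x y) : Adj y x := Or.symm h

theorem Twin.symm' {x y : G} (h : Twin x y) : Twin y x := fun u => (h u).symm

theorem Twin.trans' {x y z : G} (h : Twin x y) (h' : Twin y z) : Twin x z :=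
  fun u => (h u).trans (h' u)

theorem twin_of_zpowers_eq {x y : G} (h : Subgroup.zpowers x = Subgroup.zpowers y) : Twin x y := by
  intro u
  have h1 : ∀ C : Subgroup G, x ∈ C ↔ y ∈ C := fun C => by
    rw [← Subgroup.zpowers_le, h, Subgroup.zpowers_le]
  unfold Adj
  rw [h1 (Subgroup.zpowers u), h]

theorem NPP.one_lt {m : ℕ} (h : NPP m) (hm : m ≠ 0) : 1 < m := by
  obtain ⟨r, _, hr, _, _, hrm, _⟩ := h
  exact lt_of_lt_of_le hr.one_lt (Nat.le_of_dvd (Nat.pos_of_ne_zero hm) hrm)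

theorem NPP.two_le_totient {m : ℕ} (h : NPP m) (hm : m ≠ 0) : 2 ≤ m.totient := by
  obtain ⟨r, s, hr, hs, hrs, hrm, hsm⟩ := h
  have h1 : r * s ∣ m := ((Nat.coprime_primes hr hs).mpr hrs).mul_dvd_of_dvd_of_dvd hrm hsm
  have h2 := Nat.le_of_dvd (Nat.totient_pos.mpr (Nat.pos_of_ne_zero hm)) (Nat.totient_dvd_of_dvd h1)
  rw [Nat.totient_mul ((Nat.coprime_primes hr hs).mpr hrs), Nat.totient_prime hr,
    Nat.totient_prime hs] at h2
  rcases Nat.lt_or_ge r 3 with hr3 | hr3
  · have h3 := hr.two_le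
    have h4 := hs.two_le
    nlinarith [show r - 1 = 1 by omega, show 2 ≤ s - 1 by omega]
  · nlinarith [show 2 ≤ r - 1 by omega, show 1 ≤ s - 1 by have := hs.two_le; omega]

theorem eq_prime_pow_of_not_npp {n : ℕ} (h : ¬ NPP n) (hn : 1 < n) :
    ∃ l a : ℕ, l.Prime ∧ 1 ≤ a ∧ n = l ^ a := by
  obtain ⟨l, hl, hln⟩ := Nat.exists_prime_and_dvd hn.ne'
  have h1 : n = l ^ n.primeFactorsList.length :=
    Nat.eq_prime_pow_of_unique_prime_dvd (by omega) fun {d} hd hdn => by
      by_contra hne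
      exact h ⟨d, l, hd, hl, hne, hdn, hln⟩
  refine ⟨l, _, hl, ?_, h1⟩
  by_contra h0
  rw [show n.primeFactorsList.length = 0 by omega, pow_zero] at h1
  omega

theorem totient_eq_of_dvd {n N : ℕ} (hn : 0 < n) (hN : 0 < N) (h : n ∣ N)
    (he : N.totient ≤ n.totient) : N = n ∨ (N = 2 * n ∧ ¬ 2 ∣ n) := by
  obtain ⟨k, rfl⟩ := h
  have hk : 0 < k := Nat.pos_of_ne_zero fun h => by simp [h] at hN
  have h1 := Nat.totient_super_multiplicative n k
  have h2 : k.totient ≤ 1 := by
    have h3 : n.totient * k.totient ≤ n.totient * 1 := by rw [mul_one]; exact h1.trans he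
    exact Nat.le_of_mul_le_mul_left h3 (Nat.totient_pos.mpr hn)
  rcases Nat.totient_eq_one_iff.mp (le_antisymm h2 (Nat.totient_pos.mpr hk)) with rfl | rfl
  · left; rw [mul_one]
  · refine Or.inr ⟨mul_comm _ _, fun h4 => ?_⟩
    rw [mul_comm, Nat.totient_mul_of_prime_of_dvd Nat.prime_two h4] at he
    have := Nat.totient_pos.mpr hn
    omega

variable [Finite G] [Finite H]

theorem mem_zpowers_iff_orderOf_dvd {g x y : G} (hx : x ∈ Subgroup.zpowers g)
    (hy : y ∈ Subgroup.zpowers g) : x ∈ Subgroup.zpowers y ↔ orderOf x ∣ orderOf y := by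
  constructor
  · intro h
    rw [← Nat.card_zpowers, ← Nat.card_zpowers]
    exact Subgroup.card_dvd_of_le (Subgroup.zpowers_le.mpr h)
  · intro h
    obtain ⟨i, rfl⟩ := mem_powers_iff_mem_zpowers.mpr hx
    obtain ⟨j, rfl⟩ := mem_powers_iff_mem_zpowers.mpr hy
    simp only [orderOf_pow] at h
    have hpos := orderOf_pos g
    have h1 : Nat.gcd (orderOf g) j ∣ Nat.gcd (orderOf g) i := by
      have ha := Nat.gcd_dvd_left (orderOf g) i
      have hb := Nat.gcd_dvd_left (orderOf g) j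
      obtain ⟨k, hk⟩ := h
      refine ⟨k, Nat.eq_of_mul_eq_mul_right (Nat.div_pos (Nat.le_of_dvd hpos ha)
        (Nat.gcd_pos_of_pos_left i hpos)) ?_⟩
      calc Nat.gcd (orderOf g) i * (orderOf g / Nat.gcd (orderOf g) i) = orderOf g :=
            Nat.mul_div_cancel' ha
        _ = Nat.gcd (orderOf g) j * (orderOf g / Nat.gcd (orderOf g) j) :=
            (Nat.mul_div_cancel' hb).symm
        _ = Nat.gcd (orderOf g) j * k * (orderOf g / Nat.gcd (orderOf g) i) := by rw [hk]; ring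
    have h2 : Nat.gcd (orderOf g) j ∣ i := h1.trans (Nat.gcd_dvd_right _ _)
    obtain ⟨t, ht⟩ := h2
    have h3 : g ^ (Nat.gcd (orderOf g) j) ∈ Subgroup.zpowers (g ^ j) := by
      refine ⟨Nat.gcdB (orderOf g) j, ?_⟩
      show (g ^ j) ^ Nat.gcdB (orderOf g) j = g ^ Nat.gcd (orderOf g) j
      rw [← zpow_natCast g (Nat.gcd _ _), Nat.gcd_eq_gcd_ab, zpow_add, zpow_mul, zpow_natCast,
        pow_orderOf_eq_one, one_zpow, one_mul, zpow_mul, zpow_natCast]
    show g ^ i ∈ Subgroup.zpowers (g ^ j)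
    rw [ht, pow_mul]
    exact Subgroup.pow_mem _ h3 t

theorem zpowers_eq_of_orderOf_eq {g x y : G} (hx : x ∈ Subgroup.zpowers g)
    (hy : y ∈ Subgroup.zpowers g) (h : orderOf x = orderOf y) :
    Subgroup.zpowers x = Subgroup.zpowers y :=
  le_antisymm (Subgroup.zpowers_le.mpr ((mem_zpowers_iff_orderOf_dvd hx hy).mpr (dvd_of_eq h)))
    (Subgroup.zpowers_le.mpr ((mem_zpowers_iff_orderOf_dvd hy hx).mpr (dvd_of_eq h.symm)))

theorem exists_mem_orderOf {g : G} {k : ℕ} (hk : k ∣ orderOf g) :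
    ∃ u ∈ Subgroup.zpowers g, orderOf u = k :=
  ⟨g ^ (orderOf g / k), Subgroup.npow_mem_zpowers g _,
    orderOf_pow_orderOf_div (orderOf_pos g).ne' hk⟩

theorem exists_not_adj {g w : G} (hg : NPP (orderOf g)) (hw : w ∈ Subgroup.zpowers g) (hw1 : w ≠ 1)
    (hwg : orderOf w ≠ orderOf g) : ∃ u ∈ Subgroup.zpowers g, ¬ Adj w u := by
  have hd : orderOf w ∣ orderOf g := by
    rw [← Nat.card_zpowers, ← Nat.card_zpowers]
    exact Subgroup.card_dvd_of_le (Subgroup.zpowers_le.mpr hw)
  have hm := (orderOf_pos g).ne'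
  obtain ⟨k, hk, hk1, hk2⟩ : ∃ k, k ∣ orderOf g ∧ ¬ k ∣ orderOf w ∧ ¬ orderOf w ∣ k := by
    have hd1 : orderOf w ≠ 1 := fun h => hw1 (orderOf_eq_one_iff.mp h)
    obtain ⟨r, hr⟩ : ∃ r, ¬ (orderOf g).factorization r ≤ (orderOf w).factorization r := by
      by_contra hall
      push Not at hall
      exact hwg (Nat.dvd_antisymm hd
        ((Nat.factorization_le_iff_dvd hm (orderOf_pos w).ne').mp hall))
    have hrp : r.Prime := by
      by_contra h
      exact hr (by simp [Nat.factorization_eq_zero_of_not_prime _ h])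
    have hk0 : ¬ r ^ (orderOf g).factorization r ∣ orderOf w := fun h =>
      hr ((hrp.pow_dvd_iff_le_factorization (orderOf_pos w).ne').mp h)
    by_cases hdk : orderOf w ∣ r ^ (orderOf g).factorization r
    · obtain ⟨i, -, hi⟩ := (Nat.dvd_prime_pow hrp).mp hdk
      obtain ⟨s, hs, hsr, hsg⟩ : ∃ s, s.Prime ∧ s ≠ r ∧ s ∣ orderOf g := by
        obtain ⟨a, b, ha, hb, hab, ha', hb'⟩ := hg
        by_cases h : a = r
        · exact ⟨b, hb, fun e => hab (h.trans e.symm), hb'⟩
        · exact ⟨a, ha, h, ha'⟩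
      refine ⟨s, hsg, fun h => hsr ?_, fun h => ?_⟩
      · rw [hi] at h
        exact (Nat.prime_dvd_prime_iff_eq hs hrp).mp (hs.dvd_of_dvd_pow h)
      · rcases (Nat.dvd_prime hs).mp h with h | h
        · exact hd1 h
        · rw [hi] at h
          exact hsr ((Nat.prime_dvd_prime_iff_eq hs hrp).mp (hs.dvd_of_dvd_pow (show s ∣ r ^ i by rw [h])))
    · exact ⟨_, Nat.ordProj_dvd _ r, hk0, hdk⟩
  obtain ⟨u, hu, huk⟩ := exists_mem_orderOf hk
  refine ⟨u, hu, ?_⟩
  rintro (h | h)
  · exact hk2 (huk ▸ (mem_zpowers_iff_orderOf_dvd hw hu).mp h)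
  · exact hk1 (huk ▸ (mem_zpowers_iff_orderOf_dvd hu hw).mp h)

theorem NPP.of_mem {z u : G} (hz : NPP (orderOf z)) (h : z ∈ Subgroup.zpowers u) :
    NPP (orderOf u) := by
  obtain ⟨r, s, hr, hs, hrs, hrz, hsz⟩ := hz
  have h1 : orderOf z ∣ orderOf u := by
    rw [← Nat.card_zpowers, ← Nat.card_zpowers]
    exact Subgroup.card_dvd_of_le (Subgroup.zpowers_le.mpr h)
  exact ⟨r, s, hr, hs, hrs, hrz.trans h1, hsz.trans h1⟩

theorem ne_one_of_npp {z : G} (hz : NPP (orderOf z)) : z ≠ 1 := fun h => by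
  have := hz.one_lt (orderOf_pos z).ne'
  rw [h, orderOf_one] at this
  omega

/-- The twins of an element of non prime power order are its cyclic generators, or the identity. -/
theorem twin_npp {z u : G} (hz : NPP (orderOf z)) (h : Twin u z) :
    u = 1 ∨ Subgroup.zpowers u = Subgroup.zpowers z := by
  rcases (h u).mp (Adj.rfl' u) with h1 | h1
  · -- z ∈ ⟨u⟩
    by_cases ho : orderOf z = orderOf u
    · exact Or.inr (zpowers_eq_of_orderOf_eq h1 (Subgroup.mem_zpowers u) ho).symm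
    · obtain ⟨v, hv, hv1⟩ := exists_not_adj (hz.of_mem h1) h1 (ne_one_of_npp hz) ho
      exact absurd ((h v).mp (Or.inr hv)) hv1
  · by_cases hu : u = 1
    · exact Or.inl hu
    by_cases ho : orderOf u = orderOf z
    · exact Or.inr (zpowers_eq_of_orderOf_eq h1 (Subgroup.mem_zpowers z) ho)
    · obtain ⟨v, hv, hv1⟩ := exists_not_adj hz h1 hu ho
      exact absurd ((h v).mpr (Or.inr hv)) hv1

theorem adj_iff_of_mx {g : G} (hg : Mx g) (u : G) : Adj g u ↔ u ∈ Subgroup.zpowers g :=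
  ⟨fun h => h.elim (hg u) id, Or.inr⟩

theorem exists_mx (g : G) : ∃ u : G, g ∈ Subgroup.zpowers u ∧ Mx u := by
  haveI := Fintype.ofFinite G
  classical
  obtain ⟨u, hu, hmax⟩ := (Finset.univ.filter fun u : G => g ∈ Subgroup.zpowers u).exists_max_image
    (fun u => orderOf u) ⟨g, by simp [Subgroup.mem_zpowers]⟩
  rw [Finset.mem_filter] at hu
  refine ⟨u, hu.2, fun v hv => ?_⟩
  have h1 : g ∈ Subgroup.zpowers v := Subgroup.zpowers_le.mpr hv hu.2
  have h2 := hmax v (by simp [h1])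
  have h3 : Subgroup.zpowers u = Subgroup.zpowers v :=
    Subgroup.eq_of_le_of_card_ge (Subgroup.zpowers_le.mpr hv)
      (by rw [Nat.card_zpowers, Nat.card_zpowers]; exact h2)
  rw [h3]
  exact Subgroup.mem_zpowers v

/-- An element of prime order inside a maximal cyclic subgroup of non prime power order. -/
theorem twin_prime {g w u : G} (hg : Mx g) (hn : NPP (orderOf g)) (hw : w ∈ Subgroup.zpowers g)
    {r : ℕ} (hr : r.Prime) (hwr : orderOf w = r) (h : Twin u w) :
    Subgroup.zpowers u = Subgroup.zpowers w := by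
  have hw1 : w ≠ 1 := fun e => by rw [e, orderOf_one] at hwr; exact hr.ne_one hwr.symm
  have hwg : orderOf w ≠ orderOf g := fun e => by
    obtain ⟨a, b, ha, hb, hab, ha', hb'⟩ := hn
    rw [← e, hwr] at ha' hb'
    exact hab (((Nat.prime_dvd_prime_iff_eq ha hr).mp ha').trans
      ((Nat.prime_dvd_prime_iff_eq hb hr).mp hb').symm)
  obtain ⟨v₀, hv₀, hv₀'⟩ := exists_not_adj hn hw hw1 hwg
  have hu : u ∈ Subgroup.zpowers g :=
    (adj_iff_of_mx hg u).mp (((h g).mpr (Or.inl hw)).symm')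
  by_cases ho : orderOf u = orderOf w
  · exact zpowers_eq_of_orderOf_eq hu hw ho
  exfalso
  have huw : Adj w u := (h u).mp (Adj.rfl' u)
  have hru : r ∣ orderOf u := by
    rcases huw with h1 | h1
    · exact hwr ▸ (mem_zpowers_iff_orderOf_dvd hw hu).mp h1
    · have h2 := (mem_zpowers_iff_orderOf_dvd hu hw).mp h1
      rw [hwr] at h2
      rcases (Nat.dvd_prime hr).mp h2 with h3 | h3
      · -- the twin is the identity
        exact absurd ((h v₀).mp (Or.inl (orderOf_eq_one_iff.mp h3 ▸ one_mem _))) hv₀'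
      · rw [h3]
  by_cases hq : ∃ q, q.Prime ∧ q ≠ r ∧ q ∣ orderOf u
  · obtain ⟨q, hq, hqr, hqu⟩ := hq
    obtain ⟨v, hv, hvo⟩ := exists_mem_orderOf hqu
    have hvg : v ∈ Subgroup.zpowers g := Subgroup.zpowers_le.mpr hu hv
    rcases (h v).mp (Or.inr hv) with h1 | h1
    · have h2 := (mem_zpowers_iff_orderOf_dvd hw hvg).mp h1
      rw [hwr, hvo] at h2
      exact hqr ((Nat.prime_dvd_prime_iff_eq hr hq).mp h2).symm
    · have h2 := (mem_zpowers_iff_orderOf_dvd hvg hw).mp h1
      rw [hwr, hvo] at h2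
      exact hqr ((Nat.prime_dvd_prime_iff_eq hq hr).mp h2)
  · push Not at hq
    obtain ⟨s, hs, hsr, hsg⟩ : ∃ s, s.Prime ∧ s ≠ r ∧ s ∣ orderOf g := by
      obtain ⟨a, b, ha, hb, hab, ha', hb'⟩ := hn
      by_cases h : a = r
      · exact ⟨b, hb, fun e => hab (h.trans e.symm), hb'⟩
      · exact ⟨a, ha, h, ha'⟩
    obtain ⟨v, hv, hvo⟩ := exists_mem_orderOf (g := g) (k := r * s)
      (((Nat.coprime_primes hr hs).mpr hsr.symm).mul_dvd_of_dvd_of_dvd
        (hwr ▸ (mem_zpowers_iff_orderOf_dvd hw (Subgroup.mem_zpowers g)).mp hw) hsg)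
    have hwv : Adj w v := Or.inl ((mem_zpowers_iff_orderOf_dvd hw hv).mpr
      (by rw [hwr, hvo]; exact dvd_mul_right _ _))
    rcases (h v).mpr hwv with h1 | h1
    · have h2 := (mem_zpowers_iff_orderOf_dvd hu hv).mp h1
      rw [hvo] at h2
      have hns : ¬ s ∣ orderOf u := fun hd => hq s hs hsr hd
      have h3 : orderOf u ∣ r :=
        (((hs.coprime_iff_not_dvd).mpr hns).symm).dvd_of_dvd_mul_right h2
      exact ho (hwr ▸ Nat.dvd_antisymm h3 hru)
    · have h2 := (mem_zpowers_iff_orderOf_dvd hv hu).mp h1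
      rw [hvo] at h2
      exact hq s hs hsr ((dvd_mul_left s r).trans h2)

theorem twin_map (e : G ≃ H) (he : ∀ x y : G, Adj x y ↔ Adj (e x) (e y)) {x y : G}
    (h : Twin x y) : Twin (e x) (e y) := by
  intro u
  obtain ⟨u, rfl⟩ := e.surjective u
  rw [← he, ← he]
  exact h u

theorem adj_symm_map (e : G ≃ H) (he : ∀ x y : G, Adj x y ↔ Adj (e x) (e y)) (a b : H) :
    Adj a b ↔ Adj (e.symm a) (e.symm b) := by
  rw [he, e.apply_symm_apply, e.apply_symm_apply]

/-- A set of twins has at most as many elements as a cyclic subgroup containing their images has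
generators. -/
theorem totient_le_of_maps {K : Type*} (x : G) (f : G → K) (hf : Function.Injective f)
    (S : Set K) (hS : S.Finite) (h : ∀ u : G, Subgroup.zpowers u = Subgroup.zpowers x → f u ∈ S) :
    (orderOf x).totient ≤ Nat.card S := by
  haveI := hS.to_subtype
  rw [← Nat.card_zpowers, ← card_gen_eq_totient _ inferInstance]
  exact Nat.card_le_card_of_injective
    (fun u : {u : G // Subgroup.zpowers u = Subgroup.zpowers x} => (⟨f u.1, h u.1 u.2⟩ : S))
    fun u v huv => Subtype.ext (hf (congrArg Subtype.val huv))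

theorem totient_le_of_gens_to_gens {K : Type*} [Group K] [Finite K] (x : G) (y : K) (f : G → K)
    (hf : Function.Injective f)
    (h : ∀ u : G, Subgroup.zpowers u = Subgroup.zpowers x →
      Subgroup.zpowers (f u) = Subgroup.zpowers y) :
    (orderOf x).totient ≤ (orderOf y).totient := by
  have h1 := totient_le_of_maps x f hf {v : K | Subgroup.zpowers v = Subgroup.zpowers y}
    (Set.toFinite _) h
  rwa [show Nat.card {v : K | Subgroup.zpowers v = Subgroup.zpowers y} = (orderOf y).totient by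
    rw [← Nat.card_zpowers, ← card_gen_eq_totient _ inferInstance]; rfl] at h1

/-- First step: a twin of the image has non prime power order. -/
theorem exists_twin_npp (e : G ≃ H) (he : ∀ x y : G, Adj x y ↔ Adj (e x) (e y)) {g : G}
    (hg : Mx g) (hn : NPP (orderOf g)) : ∃ z : H, Twin z (e g) ∧ NPP (orderOf z) := by
  by_contra hne
  push Not at hne
  haveI := Fintype.ofFinite H
  classical
  obtain ⟨z, hz, hmax⟩ := (Finset.univ.filter fun z : H => Twin z (e g)).exists_max_image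
    (fun z => orderOf z) ⟨e g, Finset.mem_filter.mpr ⟨Finset.mem_univ _, fun u => Iff.rfl⟩⟩
  rw [Finset.mem_filter] at hz
  have hzT := hz.2
  have htw : ∀ u : H, Twin u (e g) → u ∈ Subgroup.zpowers z := by
    intro u hu
    rcases (hzT u).mpr ((hu u).mp (Adj.rfl' u)) with h1 | h1
    · have h3 : Subgroup.zpowers z = Subgroup.zpowers u :=
        Subgroup.eq_of_le_of_card_ge (Subgroup.zpowers_le.mpr h1)
          (by rw [Nat.card_zpowers, Nat.card_zpowers]; exact hmax u (by simp [hu]))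
      rw [h3]; exact Subgroup.mem_zpowers u
    · exact h1
  have hm : (orderOf g).totient ≤ orderOf z := by
    have h1 := totient_le_of_maps g e e.injective (Subgroup.zpowers z : Set H) (Set.toFinite _)
      fun u hu => htw _ (twin_map e he (twin_of_zpowers_eq hu))
    rwa [SetLike.coe_sort_coe, Nat.card_zpowers] at h1
  have h2m := hn.two_le_totient (orderOf_pos g).ne'
  obtain ⟨l, a, hl, ha, hla⟩ := eq_prime_pow_of_not_npp (hne z hzT) (by omega)
  have hadj : ∀ u : G, Adj g u → Adj z (e u) := fun u hu => (hzT (e u)).mpr ((he g u).mp hu)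
  have hprop : ∀ w ∈ Subgroup.zpowers g, w ≠ 1 → orderOf w ≠ orderOf g →
      e w ∉ Subgroup.zpowers z := by
    intro w hw hw1 hwo hmem
    obtain ⟨v, hv, hv1⟩ := exists_not_adj hn hw hw1 hwo
    refine hv1 ((he w v).mpr ?_)
    rcases hadj v (Or.inr hv) with h1 | h1
    · exact Or.inl (Subgroup.zpowers_le.mpr h1 hmem)
    · have h3 := (mem_zpowers_iff_orderOf_dvd hmem (Subgroup.mem_zpowers z)).mp hmem
      have h4 := (mem_zpowers_iff_orderOf_dvd h1 (Subgroup.mem_zpowers z)).mp h1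
      rw [hla] at h3 h4
      obtain ⟨i, -, hi⟩ := (Nat.dvd_prime_pow hl).mp h3
      obtain ⟨j, -, hj⟩ := (Nat.dvd_prime_pow hl).mp h4
      rcases Nat.le_total i j with hij | hij
      · exact Or.inl ((mem_zpowers_iff_orderOf_dvd hmem h1).mpr
          (by rw [hi, hj]; exact Nat.pow_dvd_pow l hij))
      · exact Or.inr ((mem_zpowers_iff_orderOf_dvd h1 hmem).mpr
          (by rw [hi, hj]; exact Nat.pow_dvd_pow l hij))
  obtain ⟨r, hr, hrm, hrmin⟩ : ∃ r, r.Prime ∧ r ∣ orderOf g ∧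
      ∀ q, q.Prime → q ∣ orderOf g → r ≤ q :=
    ⟨(orderOf g).minFac, Nat.minFac_prime (hn.one_lt (orderOf_pos g).ne').ne',
      Nat.minFac_dvd _, fun q hq h => Nat.minFac_le_of_dvd hq.two_le h⟩
  obtain ⟨w, hw, hwr⟩ := exists_mem_orderOf hrm
  obtain ⟨s, hs, hsr, hsm⟩ : ∃ s, s.Prime ∧ r < s ∧ s ∣ orderOf g := by
    obtain ⟨a, b, ha, hb, hab, ha', hb'⟩ := hn
    rcases eq_or_ne a r with h | h
    · exact ⟨b, hb, lt_of_le_of_ne (hrmin b hb hb') (h ▸ hab), hb'⟩
    · exact ⟨a, ha, lt_of_le_of_ne (hrmin a ha ha') h.symm, ha'⟩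
  have hrs := (Nat.coprime_primes hr hs).mpr hsr.ne
  have hphi : (r - 1) * (s - 1) ≤ (orderOf g).totient := by
    have h := Nat.totient_dvd_of_dvd (hrs.mul_dvd_of_dvd_of_dvd hrm hsm)
    rw [Nat.totient_mul hrs, Nat.totient_prime hr, Nat.totient_prime hs] at h
    exact Nat.le_of_dvd (by omega) h
  have hew : e w ∉ Subgroup.zpowers z := hprop w hw
    (fun h => by rw [h, orderOf_one] at hwr; exact hr.ne_one hwr.symm) (fun h => by
      rw [hwr] at h
      rw [← h] at hsm
      exact hsr.ne' ((Nat.prime_dvd_prime_iff_eq hs hr).mp hsm))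
  have hzw : z ∈ Subgroup.zpowers (e w) :=
    (hadj w (Or.inr hw)).resolve_right hew
  have hdvd := (mem_zpowers_iff_orderOf_dvd hzw (Subgroup.mem_zpowers (e w))).mp hzw
  have hupper : (orderOf (e w)).totient ≤ r - 1 := by
    have h1 := totient_le_of_gens_to_gens (e w) w e.symm e.symm.injective fun u hu => by
      refine twin_prime hg hn hw hr hwr ?_
      have h2 := twin_map e.symm (adj_symm_map e he) (twin_of_zpowers_eq hu)
      rwa [e.symm_apply_apply] at h2
    rwa [hwr, Nat.totient_prime hr] at h1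
  have hlow : (orderOf g).totient ≤ 2 * (orderOf (e w)).totient := by
    refine hm.trans ?_
    rw [hla]
    have h1 := Nat.le_of_dvd (Nat.totient_pos.mpr (orderOf_pos (e w)))
      (hla ▸ Nat.totient_dvd_of_dvd hdvd)
    rw [Nat.totient_prime_pow hl (by omega)] at h1
    have h2 : l ^ a = l ^ (a - 1) * l := by rw [← pow_succ]; congr 1; omega
    have h3 : l ≤ 2 * (l - 1) := by have := hl.two_le; omega
    calc l ^ a = l ^ (a - 1) * l := h2
      _ ≤ l ^ (a - 1) * (2 * (l - 1)) := Nat.mul_le_mul_left _ h3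
      _ = 2 * (l ^ (a - 1) * (l - 1)) := by ring
      _ ≤ 2 * (orderOf (e w)).totient := Nat.mul_le_mul_left 2 h1
  have hlt : orderOf z < orderOf (e w) := by
    refine lt_of_le_of_ne (Nat.le_of_dvd (orderOf_pos _) hdvd) fun h => hew ?_
    rw [zpowers_eq_of_orderOf_eq hzw (Subgroup.mem_zpowers (e w)) h]
    exact Subgroup.mem_zpowers _
  rcases Nat.lt_or_ge r 3 with hr3 | hr3
  · have h1 : (orderOf (e w)).totient = 1 :=
      le_antisymm (by omega) (Nat.totient_pos.mpr (orderOf_pos _))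
    rcases Nat.totient_eq_one_iff.mp h1 with h2 | h2 <;> omega
  · have h1 : 3 ≤ s - 1 := by omega
    have h2 : (r - 1) * 3 ≤ (r - 1) * (s - 1) := Nat.mul_le_mul_left _ h1
    omega

/-- The main step: orders of maximal cyclic subgroups of non prime power order are preserved. -/
theorem exists_orderOf_eq (e : G ≃ H) (he : ∀ x y : G, Adj x y ↔ Adj (e x) (e y)) {g : G}
    (hg : Mx g) (hn : NPP (orderOf g)) : ∃ z : H, orderOf z = orderOf g := by
  obtain ⟨z, hzT, hzn⟩ := exists_twin_npp e he hg hn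
  have he' := adj_symm_map e he
  by_cases hzmx : Mx z
  · refine ⟨z, ?_⟩
    rw [← Nat.card_zpowers, ← Nat.card_zpowers]
    refine Nat.card_congr (e.symm.subtypeEquiv fun u => ?_)
    rw [← adj_iff_of_mx hzmx, hzT u, he' (e g) u, e.symm_apply_apply, adj_iff_of_mx hg]
  exfalso
  obtain ⟨z', hzz', hz'⟩ := exists_mx z
  have hne : orderOf z ≠ orderOf z' := fun h => hzmx fun u hu => by
    have h1 := zpowers_eq_of_orderOf_eq hzz' (Subgroup.mem_zpowers z') h
    rw [h1]
    refine hz' u (Subgroup.zpowers_le.mpr hu ?_)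
    rw [h1]
    exact Subgroup.mem_zpowers z'
  obtain ⟨y₀, hy₀, hy₀'⟩ := exists_not_adj (hzn.of_mem hzz') hzz' (ne_one_of_npp hzn) hne
  have hnot : ∀ u : H, Twin u z → ¬ Twin u z' := fun u hu hu' =>
    hy₀' (((hu'.symm'.trans' hu) y₀).mp (Or.inr hy₀))
  obtain ⟨v, hvT, hvn⟩ := exists_twin_npp e.symm he' hz' (hzn.of_mem hzz')
  have hevT : Twin (e v) z' := by
    have h := twin_map e he hvT
    rwa [e.apply_symm_apply] at h
  have hvg : v ∈ Subgroup.zpowers g := by
    rw [← adj_iff_of_mx hg, he]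
    exact (hzT _).mp (((hevT z).mpr (Or.inr hzz')).symm')
  have hvo : orderOf v ≠ orderOf g := fun h => hnot (e v)
    ((twin_map e he (twin_of_zpowers_eq
      (zpowers_eq_of_orderOf_eq hvg (Subgroup.mem_zpowers g) h))).trans' hzT.symm') hevT
  obtain ⟨x₀, hx₀, hx₀'⟩ := exists_not_adj hn hvg (ne_one_of_npp hvn) hvo
  -- neither element is dominating
  have hnd1 : ∀ u : G, Twin u g → u ≠ 1 := fun u hu h1 => by
    have hdom : ∀ t, Adj g t := fun t => (hu t).mp (Or.inl (h1 ▸ one_mem _))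
    exact hy₀' ((hzT y₀).mpr (by
      have := hdom (e.symm y₀)
      rwa [he, e.apply_symm_apply] at this))
  have hnd2 : ∀ u : H, Twin u z → u ≠ 1 := fun u hu h1 =>
    hy₀' ((hu y₀).mp (Or.inl (h1 ▸ one_mem _)))
  have hnd3 : ∀ u : H, Twin u z' → u ≠ 1 := fun u hu h1 =>
    hx₀' ((he v x₀).mpr (((hevT.trans' hu.symm') (e x₀)).mpr (Or.inl (h1 ▸ one_mem _))))
  have e1 : (orderOf z).totient ≤ (orderOf g).totient :=
    totient_le_of_gens_to_gens z g e.symm e.symm.injective fun u hu => by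
      have h : Twin (e.symm u) g := by
        have h2 := twin_map e.symm he' ((twin_of_zpowers_eq hu).trans' hzT)
        rwa [e.symm_apply_apply] at h2
      exact (twin_npp hn h).resolve_left (hnd1 _ h)
  have e2 : (orderOf g).totient ≤ (orderOf z).totient :=
    totient_le_of_gens_to_gens g z e e.injective fun u hu => by
      have h : Twin (e u) z := (twin_map e he (twin_of_zpowers_eq hu)).trans' hzT.symm'
      exact (twin_npp hzn h).resolve_left (hnd2 _ h)
  have e3 : (orderOf v).totient ≤ (orderOf z').totient :=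
    totient_le_of_gens_to_gens v z' e e.injective fun u hu => by
      have h : Twin (e u) z' := (twin_map e he (twin_of_zpowers_eq hu)).trans' hevT
      exact (twin_npp (hzn.of_mem hzz') h).resolve_left (hnd3 _ h)
  have e4 : (orderOf z').totient ≤ (orderOf v).totient :=
    totient_le_of_gens_to_gens z' v e.symm e.symm.injective fun u hu => by
      have h : Twin (e.symm u) v := by
        have h2 := twin_map e.symm he' ((twin_of_zpowers_eq hu).trans' hevT.symm')
        rwa [e.symm_apply_apply] at h2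
      refine (twin_npp hvn h).resolve_left fun h1 => hx₀' ((h x₀).mp (Or.inl (h1 ▸ one_mem _)))
  have hdz := (mem_zpowers_iff_orderOf_dvd hzz' (Subgroup.mem_zpowers z')).mp hzz'
  have hdv := (mem_zpowers_iff_orderOf_dvd hvg (Subgroup.mem_zpowers g)).mp hvg
  have h5 := Nat.le_of_dvd (Nat.totient_pos.mpr (orderOf_pos z')) (Nat.totient_dvd_of_dvd hdz)
  have h6 := Nat.le_of_dvd (Nat.totient_pos.mpr (orderOf_pos g)) (Nat.totient_dvd_of_dvd hdv)
  obtain ⟨hz2, hzodd⟩ := (totient_eq_of_dvd (orderOf_pos z) (orderOf_pos z') hdz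
    (by omega)).resolve_left (Ne.symm hne)
  obtain ⟨y, hy, hyo⟩ := exists_mem_orderOf (g := z') (k := 2) (hz2 ▸ dvd_mul_right 2 _)
  have hyz : ¬ Adj z y := by
    rintro (h | h)
    · have h1 := (mem_zpowers_iff_orderOf_dvd hzz' hy).mp h
      rw [hyo] at h1
      have := Nat.le_of_dvd (by norm_num) h1
      have := hzn.two_le_totient (orderOf_pos z).ne'
      have := Nat.totient_le (orderOf z)
      have h3 : orderOf z = 2 := by omega
      exact hzodd (h3 ▸ dvd_rfl)
    · have h1 := (mem_zpowers_iff_orderOf_dvd hy hzz').mp h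
      rw [hyo] at h1
      exact hzodd h1
  have hu1 : ¬ Adj g (e.symm y) := fun h => hyz ((hzT y).mpr (by
    rwa [he, e.apply_symm_apply] at h))
  have hu2 : Adj v (e.symm y) := by
    rw [he, e.apply_symm_apply]
    exact (hevT y).mpr (Or.inr hy)
  have hu3 : v ∈ Subgroup.zpowers (e.symm y) := hu2.resolve_right fun h =>
    hu1 (Or.inr (Subgroup.zpowers_le.mpr hvg h))
  have h7 : (orderOf (e.symm y)).totient ≤ 1 := by
    have h1 := totient_le_of_gens_to_gens (e.symm y) y e e.injective fun u hu => by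
      refine twin_prime hz' (hzn.of_mem hzz') hy Nat.prime_two hyo ?_
      have h2 := twin_map e he (twin_of_zpowers_eq hu)
      rwa [e.apply_symm_apply] at h2
    rwa [hyo, Nat.totient_two] at h1
  have h8 := Nat.le_of_dvd (Nat.totient_pos.mpr (orderOf_pos _)) (Nat.totient_dvd_of_dvd
    ((mem_zpowers_iff_orderOf_dvd hu3 (Subgroup.mem_zpowers _)).mp hu3))
  have h9 := hvn.two_le_totient (orderOf_pos v).ne'
  omega

theorem exists_orderOf_eq_mul (e : G ≃ H) (he : ∀ x y : G, Adj x y ↔ Adj (e x) (e y)) {p q : ℕ}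
    (hp : p.Prime) (hq : q.Prime) (hpq : p ≠ q) {g : G} (hg : orderOf g = p * q) :
    ∃ h : H, orderOf h = p * q := by
  obtain ⟨u, hu, hmx⟩ := exists_mx g
  have hn : NPP (orderOf g) := ⟨p, q, hp, hq, hpq, hg ▸ dvd_mul_right _ _, hg ▸ dvd_mul_left _ _⟩
  obtain ⟨z, hz⟩ := exists_orderOf_eq e he hmx (hn.of_mem hu)
  have hd := (mem_zpowers_iff_orderOf_dvd hu (Subgroup.mem_zpowers u)).mp hu
  obtain ⟨h, -, hh⟩ := exists_mem_orderOf (g := z) (k := p * q) (hz ▸ hg ▸ hd)
  exact ⟨h, hh⟩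

end H28.PG
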