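import Cfsg.Agent.H6.OmegaOdd

/-!
The number of elements of order `p ^ s`, `s > 1`, in a group whose Sylow `p`-subgroups are
noncyclic (`p` odd) is divisible by `p ^ s` (Miller).
-/

set_option autoImplicit false
set_option linter.style.haveILetI false

namespace H28

open scoped commutatorElement

variable {G : Type*} [Group G] [Finite G]

/-- The generators of a cyclic subgroup. -/
theorem card_gen_eq_totient (C : Subgroup G) (hC : IsCyclic C) :
    Nat.card {y : G // Subgroup.zpowers y = C} = (Nat.card C).totient := by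
  classical
  haveI := Fintype.ofFinite G
  haveI := Fintype.ofFinite C
  have e : {y : G // Subgroup.zpowers y = C} ≃ {c : C // orderOf c = Nat.card C} :=
    { toFun := fun y => ⟨⟨y, y.2.le (Subgroup.mem_zpowers (y : G))⟩, by
        rw [← Subgroup.orderOf_coe, ← Nat.card_zpowers, y.2]⟩
      invFun := fun c => ⟨c.1, Subgroup.eq_of_le_of_card_ge (Subgroup.zpowers_le.mpr c.1.2)
        (by rw [Nat.card_zpowers, Subgroup.orderOf_coe, c.2])⟩
      left_inv := fun y => rfl
      right_inv := fun c => rfl }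
  rw [Nat.card_congr e]
  simp only [Nat.card_eq_fintype_card]
  rw [Fintype.card_subtype (fun c : C => orderOf c = Fintype.card C)]
  exact IsCyclic.card_orderOf_eq_totient (α := C) dvd_rfl

/-- A set closed under changing the generator of a cyclic subgroup. -/
theorem dvd_card_of_gen_closed (S : Set G) (d : ℕ)
    (hS : ∀ x ∈ S, ∀ y : G, Subgroup.zpowers y = Subgroup.zpowers x → y ∈ S)
    (hd : ∀ x ∈ S, d ∣ (orderOf x).totient) : d ∣ Nat.card S := by
  classical
  haveI := Fintype.ofFinite G
  rw [← Nat.card_congr (Equiv.sigmaFiberEquiv (fun x : S => Subgroup.zpowers (x : G))),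
    Nat.card_sigma]
  refine Finset.dvd_sum fun C _ => ?_
  rcases isEmpty_or_nonempty {x : S // Subgroup.zpowers (x : G) = C} with h | ⟨⟨⟨x, hx⟩, rfl⟩⟩
  · rw [Nat.card_of_isEmpty]; exact dvd_zero d
  have e : {y : S // Subgroup.zpowers (y : G) = Subgroup.zpowers x} ≃
      {y : G // Subgroup.zpowers y = Subgroup.zpowers x} :=
    { toFun := fun y => ⟨y.1.1, y.2⟩
      invFun := fun y => ⟨⟨y.1, hS x hx y.1 y.2⟩, y.2⟩
      left_inv := fun y => rfl
      right_inv := fun y => rfl }
  rw [Nat.card_congr e, card_gen_eq_totient _ inferInstance, Nat.card_zpowers]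
  exact hd x hx

theorem pow_pred_dvd_card_orderOf_eq {p : ℕ} (hp : p.Prime) (s : ℕ) :
    p ^ (s - 1) ∣ Nat.card {x : G // orderOf x = p ^ s} := by
  refine dvd_card_of_gen_closed {x : G | orderOf x = p ^ s} _ (fun x hx y h => ?_) fun x hx => ?_
  · have := congrArg (fun H : Subgroup G => Nat.card H) h
    simp only [Nat.card_zpowers] at this
    exact this.trans hx
  · rcases s with _ | s
    · simp
    · rw [show orderOf x = p ^ (s + 1) from hx, Nat.totient_prime_pow_succ hp]
      exact dvd_mul_right _ _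

theorem pow_prime_mul_elementary_sq {p : ℕ} [hp : Fact p.Prime] (hp2 : p ≠ 2) (hG : IsPGroup p G)
    (A : Subgroup G) [A.Normal] (hA : Cfsg.IsElementaryAbelian p A) (hcard : Nat.card A = p ^ 2)
    (x a : G) (ha : a ∈ A) : (x * a) ^ p = x ^ p := by
  haveI : Group.IsNilpotent G := hG.isNilpotent
  have hdec : ∀ B : Subgroup G, B.Normal → B ≠ ⊥ → ⁅B, (⊤ : Subgroup G)⁆ ≠ B := by
    intro B hB hB1 he
    obtain ⟨n, hn⟩ := Subgroup.nilpotent_iff_lowerCentralSeries.mp ‹Group.IsNilpotent G›
    have hle : ∀ k, B ≤ (⊤ : Subgroup G).lowerCentralSeries k := by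
      intro k
      induction k with
      | zero => simp
      | succ k ih =>
        rw [← he]
        exact Subgroup.commutator_mono ih le_rfl
    exact hB1 (le_bot_iff.mp (hn ▸ hle n))
  set B := ⁅A, (⊤ : Subgroup G)⁆
  have hBA : B ≤ A := Subgroup.commutator_le_left A ⊤
  haveI : B.Normal := inferInstance
  have hA1 : A ≠ ⊥ := by
    intro h
    rw [h, Subgroup.card_bot] at hcard
    exact absurd hcard.symm (Nat.one_lt_pow two_ne_zero hp.out.one_lt).ne'
  have hBlt : B < A := lt_of_le_of_ne hBA (hdec A inferInstance hA1)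
  have hBp : Nat.card B ∣ p := by
    obtain ⟨j, hj, hjc⟩ := (Nat.dvd_prime_pow hp.out).mp (hcard ▸ Subgroup.card_dvd_of_le hBA)
    rcases Nat.lt_or_ge j 2 with h | h
    · have h2 : p ^ j ∣ p ^ 1 := Nat.pow_dvd_pow p (by omega)
      rw [hjc]
      simpa using h2
    · have h2 : p ^ 2 ≤ p ^ j := Nat.pow_le_pow_right hp.out.pos h
      exact absurd (Subgroup.eq_of_le_of_card_ge hBA (by rw [hjc, hcard]; exact h2)) hBlt.ne
  have hBZ : ⁅B, (⊤ : Subgroup G)⁆ = ⊥ := by
    by_cases hB : B = ⊥
    · rw [hB, Subgroup.commutator_bot_left]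
    · have h1 : ⁅B, (⊤ : Subgroup G)⁆ < B :=
        lt_of_le_of_ne (Subgroup.commutator_le_left B ⊤) (hdec B inferInstance hB)
      rcases (Nat.dvd_prime hp.out).mp ((Subgroup.card_dvd_of_le h1.le).trans hBp) with h | h
      · exact Subgroup.card_eq_one.mp h
      · exact absurd (Subgroup.eq_of_le_of_card_ge h1.le (by
          rw [h]; exact Nat.le_of_dvd hp.out.pos hBp)) h1.ne
  set c := ⁅a, x⁆ with hc
  have hcB : c ∈ B := Subgroup.commutator_mem_commutator ha (Subgroup.mem_top x)
  have hcen : ∀ g : G, g * c = c * g := fun g => by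
    have h := Subgroup.commutator_mem_commutator hcB (Subgroup.mem_top g)
    rw [hBZ, Subgroup.mem_bot] at h
    exact (commutatorElement_eq_one_iff_mul_comm.mp h).symm
  have hax : a * x = c * x * a := by rw [hc, commutatorElement_def]; group
  have hac : ∀ n : ℕ, a ^ n * x = c ^ n * x * a ^ n := by
    intro n
    induction n with
    | zero => simp
    | succ n ih =>
      calc a ^ (n + 1) * x = a ^ n * (a * x) := by rw [pow_succ, mul_assoc]
        _ = a ^ n * (c * x * a) := by rw [hax]
        _ = c * (a ^ n * x) * a := by rw [← mul_assoc, ← mul_assoc, hcen (a ^ n), mul_assoc c]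
        _ = c * (c ^ n * x * a ^ n) * a := by rw [ih]
        _ = c ^ (n + 1) * x * a ^ (n + 1) := by rw [pow_succ', pow_succ a]; simp only [mul_assoc]
  have hform : ∀ n : ℕ, (x * a) ^ n = c ^ n.choose 2 * x ^ n * a ^ n := by
    intro n
    induction n with
    | zero => simp
    | succ n ih =>
      have h1 : x ^ n * c ^ n = c ^ n * x ^ n :=
        ((show Commute x c from hcen x).pow_pow n n).eq
      calc (x * a) ^ (n + 1) = c ^ n.choose 2 * x ^ n * a ^ n * (x * a) := by rw [pow_succ, ih]
        _ = c ^ n.choose 2 * x ^ n * (a ^ n * x) * a := by simp only [mul_assoc]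
        _ = c ^ n.choose 2 * (x ^ n * c ^ n) * x * a ^ n * a := by rw [hac]; simp only [mul_assoc]
        _ = c ^ n.choose 2 * (c ^ n * x ^ n) * x * a ^ n * a := by rw [h1]
        _ = c ^ (n + 1).choose 2 * x ^ (n + 1) * a ^ (n + 1) := by
          rw [Nat.choose_succ_succ' n 1, Nat.choose_one_right, add_comm n (n.choose 2), pow_add,
            pow_succ x, pow_succ a]
          simp only [mul_assoc]
  obtain ⟨k, hk⟩ : p ∣ p.choose 2 :=
    hp.out.dvd_choose_self two_ne_zero (lt_of_le_of_ne hp.out.two_le (Ne.symm hp2))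
  rw [hform p, hk, pow_mul, hA.2 c (hBA hcB), hA.2 a ha, one_pow, one_mul, mul_one]

/-- The count inside a `p`-group. -/
theorem pow_dvd_card_orderOf_eq_of_pGroup {p : ℕ} [hp : Fact p.Prime] (hp2 : p ≠ 2)
    (hG : IsPGroup p G) (hnc : ¬ IsCyclic G) (s : ℕ) (hs : 1 < s) :
    p ^ s ∣ Nat.card {x : G // orderOf x = p ^ s} := by
  obtain ⟨A, hAn, hA, hcard⟩ := H6.exists_normal_elementary_sq hp2 hG hnc
  haveI := hAn
  have hmul : ∀ x a : G, a ∈ A → (x * a) ^ p = x ^ p :=
    pow_prime_mul_elementary_sq hp2 hG A hA hcard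
  have hiff : ∀ x : G, orderOf x = p ^ s ↔ (x ^ p) ^ p ^ (s - 1) = 1 ∧ (x ^ p) ^ p ^ (s - 2) ≠ 1 := by
    intro x
    rw [← pow_mul, ← pow_mul, ← pow_succ', ← pow_succ', show s - 1 + 1 = s by omega,
      show s - 2 + 1 = s - 1 by omega]
    constructor
    · intro h
      refine ⟨h ▸ pow_orderOf_eq_one x, fun h1 => ?_⟩
      have := Nat.le_of_dvd (pow_pos hp.out.pos _) (h ▸ orderOf_dvd_of_pow_eq_one h1)
      exact absurd this (not_le.mpr (Nat.pow_lt_pow_right hp.out.one_lt (by omega)))
    · rintro ⟨h1, h2⟩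
      have h3 : x ^ p ^ (s - 1 + 1) = 1 := by rwa [show s - 1 + 1 = s by omega]
      rw [orderOf_eq_prime_pow h2 h3, show s - 1 + 1 = s by omega]
  set S : Set (G ⧸ A) := QuotientGroup.mk '' {x : G | orderOf x = p ^ s} with hSdef
  have hpre : (QuotientGroup.mk ⁻¹' S : Set G) = {x : G | orderOf x = p ^ s} := by
    ext x
    constructor
    · rintro ⟨y, hy, hyx⟩
      obtain ⟨a, ha, rfl⟩ : ∃ a ∈ A, x = y * a :=
        ⟨y⁻¹ * x, QuotientGroup.eq.mp hyx, by group⟩
      change orderOf (y * a) = p ^ s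
      rw [hiff, hmul y a ha, ← hiff]
      exact hy
    · intro hx; exact ⟨x, hx, rfl⟩
  have h1 : Nat.card {x : G // orderOf x = p ^ s} = p ^ 2 * Nat.card S := by
    rw [← hcard, ← Nat.card_prod, ← Nat.card_congr (QuotientGroup.preimageMkEquivSubgroupProdSet A S)]
    exact (Nat.card_congr (Equiv.setCongr hpre)).symm
  have hps : p ^ s = p ^ 2 * p ^ (s - 2) := by rw [← pow_add]; congr 1; omega
  rw [h1, hps]
  refine mul_dvd_mul_left _ ?_
  refine dvd_card_of_gen_closed S _ ?_ ?_
  · rintro _ ⟨x, hx, rfl⟩ q hq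
    obtain ⟨k, hk⟩ := Submonoid.mem_powers_iff _ _ |>.mp
      (mem_powers_iff_mem_zpowers.mpr (hq ▸ Subgroup.mem_zpowers q))
    refine ⟨x ^ k, ?_, by rw [QuotientGroup.mk_pow, hk]⟩
    change orderOf (x ^ k) = p ^ s
    have hco : Nat.Coprime k (orderOf (QuotientGroup.mk x : G ⧸ A)) := by
      have h2 := congrArg (fun H : Subgroup (G ⧸ A) => Nat.card H) hq
      simp only [Nat.card_zpowers, ← hk] at h2
      rw [orderOf_pow, Nat.div_eq_self] at h2
      exact (h2.resolve_left (orderOf_pos _).ne' |> fun h => Nat.Coprime.symm h)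
    have hne : p ∣ orderOf (QuotientGroup.mk x : G ⧸ A) := by
      have h3 : (QuotientGroup.mk x : G ⧸ A) ≠ 1 := fun h => by
        have h4 := hA.2 x ((QuotientGroup.eq_one_iff x).mp h)
        have := ((hiff x).mp hx).2
        rw [h4, one_pow] at this
        exact this rfl
      obtain ⟨i, hi⟩ := IsPGroup.iff_orderOf.mp (hG.to_quotient A) (QuotientGroup.mk x : G ⧸ A)
      rcases i with _ | i
      · exact absurd (orderOf_eq_one_iff.mp (by simpa using hi)) h3
      · rw [hi, pow_succ']; exact dvd_mul_right _ _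
    have hkp : Nat.Coprime k p := Nat.Coprime.coprime_dvd_right hne hco
    rw [Nat.Coprime.orderOf_pow (by rw [show orderOf x = p ^ s from hx]; exact hkp.symm.pow_left s)]
    exact hx
  · rintro _ ⟨x, hx, rfl⟩
    obtain ⟨j, hj⟩ := IsPGroup.iff_orderOf.mp (hG.to_quotient A) (QuotientGroup.mk x : G ⧸ A)
    have hle : s - 1 ≤ j := by
      by_contra hlt
      have h5 : x ^ p ^ (s - 2) ∈ A := by
        rw [← QuotientGroup.eq_one_iff, QuotientGroup.mk_pow, ← orderOf_dvd_iff_pow_eq_one, hj]
        exact Nat.pow_dvd_pow p (by omega)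
      have h6 := ((hiff x).mp hx).2
      rw [← pow_mul, mul_comm, pow_mul, hA.2 _ h5] at h6
      exact h6 rfl
    rw [hj]
    rcases j with _ | j
    · omega
    · rw [Nat.totient_prime_pow_succ hp.out]
      exact (Nat.pow_dvd_pow p (by omega)).trans (dvd_mul_right _ _)

/-- The count in a group with noncyclic Sylow subgroup. -/
theorem pow_dvd_card_orderOf_eq_of_sylow {p : ℕ} [hp : Fact p.Prime] (hp2 : p ≠ 2)
    (P : Sylow p G) (hnc : ¬ IsCyclic ↥(P : Subgroup G)) (s : ℕ) (hs : 1 < s) :
    p ^ s ∣ Nat.card {x : G // orderOf x = p ^ s} := by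
  classical
  haveI := Fintype.ofFinite G
  have hP := pow_dvd_card_orderOf_eq_of_pGroup hp2 P.isPGroup' hnc s hs
  have e1 : {x : ↥(P : Subgroup G) // orderOf x = p ^ s} ≃
      {x : {x : G // orderOf x = p ^ s} // (x : G) ∈ (P : Subgroup G)} :=
    { toFun := fun x => ⟨⟨x.1, by rw [Subgroup.orderOf_coe]; exact x.2⟩, x.1.2⟩
      invFun := fun x => ⟨⟨x.1.1, x.2⟩, by rw [Subgroup.orderOf_mk]; exact x.1.2⟩
      left_inv := fun x => rfl
      right_inv := fun x => rfl }
  rw [Nat.card_congr e1] at hP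
  let Ω := {x : {x : G // orderOf x = p ^ s} // (x : G) ∉ (P : Subgroup G)}
  suffices h : p ^ s ∣ Nat.card Ω by
    rw [← Nat.card_congr (Equiv.sumCompl
      (fun x : {x : G // orderOf x = p ^ s} => (x : G) ∈ (P : Subgroup G))), Nat.card_sum]
    exact dvd_add hP h
  -- cyclic subgroups outside `P`
  let T := {C : Subgroup G // IsCyclic C ∧ Nat.card C = p ^ s ∧ ¬ C ≤ (P : Subgroup G)}
  let f : Ω → T := fun x => ⟨Subgroup.zpowers (x.1.1 : G), inferInstance,
    by rw [Nat.card_zpowers, x.1.2], fun h => x.2 (h (Subgroup.mem_zpowers _))⟩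
  have hfib : ∀ C : T, Nat.card {x : Ω // f x = C} = (p ^ s).totient := by
    intro C
    rw [← C.2.2.1, ← card_gen_eq_totient C.1 C.2.1]
    exact Nat.card_congr
      { toFun := fun x => ⟨x.1.1.1, congrArg Subtype.val x.2⟩
        invFun := fun y => ⟨⟨⟨y.1, by rw [← Nat.card_zpowers, y.2, C.2.2.1]⟩, fun h =>
          C.2.2.2 (y.2 ▸ Subgroup.zpowers_le.mpr h)⟩, Subtype.ext y.2⟩
        left_inv := fun x => rfl
        right_inv := fun y => rfl }
  rw [← Nat.card_congr (Equiv.sigmaFiberEquiv f), Nat.card_sigma,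
    Finset.sum_congr rfl (fun C _ => hfib C), Finset.sum_const, smul_eq_mul, Finset.card_univ,
    ← Nat.card_eq_fintype_card]
  -- `P` acts without fixed points
  letI : MulAction ↥(P : Subgroup G) T :=
    { smul := fun g C => ⟨C.1.map (MulAut.conj (g : G)).toMonoidHom, by
        refine ⟨?_, ?_, fun h => C.2.2.2 fun x hx => ?_⟩
        · haveI := C.2.1
          exact (Subgroup.equivMapOfInjective _ _ (MulAut.conj (g : G)).injective).isCyclic.mp
            inferInstance
        · rw [Subgroup.card_map_of_injective (MulAut.conj (g : G)).injective, C.2.2.1]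
        · have h1 : (g : G) * x * (g : G)⁻¹ ∈ (P : Subgroup G) := h ⟨x, hx, rfl⟩
          have h2 := (P : Subgroup G).mul_mem
            ((P : Subgroup G).mul_mem ((P : Subgroup G).inv_mem g.2) h1) g.2
          simpa [mul_assoc] using h2⟩
      one_smul := fun C => Subtype.ext (by
        show C.1.map (MulAut.conj ((1 : ↥(P : Subgroup G)) : G)).toMonoidHom = C.1
        rw [Subgroup.coe_one, map_one]
        exact Subgroup.map_id C.1)
      mul_smul := fun a b C => Subtype.ext (by
        show C.1.map (MulAut.conj ((a * b : ↥(P : Subgroup G)) : G)).toMonoidHom =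
          (C.1.map (MulAut.conj (b : G)).toMonoidHom).map (MulAut.conj (a : G)).toMonoidHom
        rw [Subgroup.map_map, Subgroup.coe_mul, map_mul]
        rfl) }
  have hT : p ∣ Nat.card T := by
    rw [← Nat.modEq_zero_iff_dvd]
    refine (P.isPGroup'.card_modEq_card_fixedPoints (α := T)).trans ?_
    haveI : IsEmpty (MulAction.fixedPoints ↥(P : Subgroup G) T) := ⟨fun C => by
      have hfix : ∀ g : ↥(P : Subgroup G),
          C.1.1.map (MulAut.conj (g : G)).toMonoidHom = C.1.1 :=
        fun g => congrArg Subtype.val (C.2 g)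
      have hn : (P : Subgroup G) ≤ Subgroup.normalizer (C.1.1 : Set G) := fun g hg => by
        rw [Subgroup.mem_normalizer_iff]
        intro x
        constructor
        · intro hx
          rw [← hfix ⟨g, hg⟩]
          exact ⟨x, hx, rfl⟩
        · intro hx
          rw [← hfix ⟨g⁻¹, (P : Subgroup G).inv_mem hg⟩]
          exact ⟨g * x * g⁻¹, hx, by simp [mul_assoc]⟩
      have hCp : IsPGroup p C.1.1 := IsPGroup.of_card C.1.2.2.1
      have hsup := hCp.to_sup_of_normal_left' P.isPGroup' hn
      have := P.is_maximal' hsup le_sup_right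
      exact C.1.2.2.2 (le_sup_left.trans this.le)⟩
    rw [Nat.card_of_isEmpty]
  obtain ⟨t, ht⟩ := hT
  rw [ht, show s = s - 1 + 1 by omega, Nat.totient_prime_pow_succ hp.out]
  exact ⟨t * (p - 1), by ring⟩

end H28
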