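import Mathlib

/-!
Lie rings graded by `ZMod p` with trivial zero component are nilpotent of bounded class
(Higman, Kreknin, Kostrikin).
-/

set_option autoImplicit false
set_option linter.style.haveILetI false

namespace H28.GLie

variable {p : ℕ} {L : Type*} [LieRing L]

/-- The additive subgroup generated by the brackets of two subgroups. -/
def br (A B : AddSubgroup L) : AddSubgroup L :=
  AddSubgroup.closure {z | ∃ x ∈ A, ∃ y ∈ B, ⁅x, y⁆ = z}

theorem lie_mem_br {A B : AddSubgroup L} {x y : L} (hx : x ∈ A) (hy : y ∈ B) : ⁅x, y⁆ ∈ br A B :=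
  AddSubgroup.subset_closure ⟨x, hx, y, hy, rfl⟩

theorem br_le {A B C : AddSubgroup L} (h : ∀ x ∈ A, ∀ y ∈ B, ⁅x, y⁆ ∈ C) : br A B ≤ C := by
  rw [br, AddSubgroup.closure_le]
  rintro _ ⟨x, hx, y, hy, rfl⟩
  exact h x hx y hy

theorem br_mono {A A' B B' : AddSubgroup L} (hA : A ≤ A') (hB : B ≤ B') : br A B ≤ br A' B' :=
  br_le fun _ hx _ hy => lie_mem_br (hA hx) (hB hy)

theorem lie_neg_swap (x y : L) : ⁅x, y⁆ = -⁅y, x⁆ := (lie_skew x y).symm

/-- Derived series. -/
def D (H : AddSubgroup L) : ℕ → AddSubgroup L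
  | 0 => H
  | k + 1 => br (D H k) (D H k)

/-- Lower central series. -/
def C : ℕ → AddSubgroup L
  | 0 => ⊤
  | k + 1 => br (C k) ⊤

theorem D_add (H : AddSubgroup L) (j k : ℕ) : D H (j + k) = D (D H j) k := by
  induction k with
  | zero => rfl
  | succ k ih => show br (D H (j + k)) (D H (j + k)) = _; rw [ih]; rfl

theorem D_mono {H H' : AddSubgroup L} (h : H ≤ H') : ∀ k, D H k ≤ D H' k
  | 0 => h
  | k + 1 => br_mono (D_mono h k) (D_mono h k)

theorem D_le_self {H : AddSubgroup L} (hH : br H H ≤ H) : ∀ k, D H k ≤ H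
  | 0 => le_rfl
  | k + 1 => (br_mono (D_le_self hH k) (D_le_self hH k)).trans hH

theorem D_br_le {H : AddSubgroup L} (hH : br H H ≤ H) : ∀ k, br (D H k) (D H k) ≤ D H k
  | 0 => hH
  | k + 1 => br_mono (D_br_le hH k) (D_br_le hH k)

theorem D_ideal {H : AddSubgroup L} (hH : ∀ x ∈ H, ∀ y : L, ⁅x, y⁆ ∈ H) :
    ∀ k, ∀ x ∈ D H k, ∀ y : L, ⁅x, y⁆ ∈ D H k
  | 0 => hH
  | k + 1 => fun x hx y => by
    refine AddSubgroup.closure_induction (p := fun z _ => ⁅z, y⁆ ∈ D H (k + 1)) ?_ ?_ ?_ ?_ hx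
    · rintro _ ⟨a, ha, b, hb, rfl⟩
      rw [lie_lie]
      refine sub_mem ?_ ?_
      · rw [lie_neg_swap a]
        exact neg_mem (lie_mem_br (D_ideal hH k b hb y) ha)
      · rw [lie_neg_swap b]
        exact neg_mem (lie_mem_br (D_ideal hH k a ha y) hb)
    · simp
    · intro a b _ _ ha hb
      rw [add_lie]; exact add_mem ha hb
    · intro a _ ha
      rw [neg_lie]; exact neg_mem ha

theorem C_ideal : ∀ (k : ℕ) (x : L), x ∈ C k → ∀ y : L, ⁅x, y⁆ ∈ (C k : AddSubgroup L)
  | 0 => fun _ _ _ => AddSubgroup.mem_top _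
  | k + 1 => fun x hx y => by
    refine lie_mem_br ?_ (AddSubgroup.mem_top y)
    exact br_le (fun a ha b _ => C_ideal k a ha b) hx

theorem C_succ_le (k : ℕ) : (C (k + 1) : AddSubgroup L) ≤ C k :=
  br_le fun a ha b _ => C_ideal k a ha b

theorem C_antitone {j k : ℕ} (h : j ≤ k) : (C k : AddSubgroup L) ≤ C j := by
  induction k, h using Nat.le_induction with
  | base => exact le_rfl
  | succ k _ ih => exact (C_succ_le k).trans ih

theorem lie_C_C : ∀ (j i : ℕ) (x : L), x ∈ C i → ∀ y ∈ (C j : AddSubgroup L),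
    ⁅x, y⁆ ∈ (C (i + j + 1) : AddSubgroup L)
  | 0 => fun i x hx y _ => lie_mem_br hx (AddSubgroup.mem_top y)
  | j + 1 => fun i x hx y hy => by
    refine AddSubgroup.closure_induction (p := fun z _ => ⁅x, z⁆ ∈ C (i + (j + 1) + 1)) ?_ ?_ ?_ ?_ hy
    · rintro _ ⟨a, ha, b, -, rfl⟩
      rw [leibniz_lie]
      refine add_mem ?_ ?_
      · have := lie_mem_br (lie_C_C j i x hx a ha) (AddSubgroup.mem_top b)
        simpa [C, add_assoc] using this
      · rw [lie_neg_swap a]
        have := lie_C_C j (i + 1) ⁅x, b⁆ (lie_mem_br hx (AddSubgroup.mem_top b)) a ha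
        rw [show i + (j + 1) + 1 = i + 1 + j + 1 by omega]
        exact neg_mem this
    · simp
    · intro a b _ _ ha hb
      rw [lie_add]; exact add_mem ha hb
    · intro a _ ha
      rw [lie_neg]; exact neg_mem ha

/-- A grading by `ZMod p` with trivial zero component. -/
structure Grading (p : ℕ) (L : Type*) [LieRing L] where
  /-- components -/
  W : ZMod p → AddSubgroup L
  /-- projections -/
  proj : ZMod p → L →+ L
  lie_mem : ∀ a b, ∀ x ∈ W a, ∀ y ∈ W b, ⁅x, y⁆ ∈ W (a + b)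
  zero_bot : W 0 = ⊥
  proj_same : ∀ a, ∀ x ∈ W a, proj a x = x
  proj_ne : ∀ a b, a ≠ b → ∀ x ∈ W b, proj a x = 0
  mem_top : ∀ x : L, x ∈ AddSubgroup.closure {y | ∃ a, y ∈ W a}

variable (Γ : Grading p L)

/-- The homogeneous elements of a set. -/
def homEl (A : AddSubgroup L) : Set L := {y | y ∈ A ∧ ∃ a, y ∈ Γ.W a}

/-- Generated by homogeneous elements. -/
def IsHom (A : AddSubgroup L) : Prop := A ≤ AddSubgroup.closure (homEl Γ A)

theorem isHom_top : IsHom Γ (⊤ : AddSubgroup L) := fun x _ =>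
  AddSubgroup.closure_mono (k := homEl Γ ⊤)
    (show {y | ∃ a, y ∈ Γ.W a} ⊆ homEl Γ ⊤ from fun y hy => ⟨AddSubgroup.mem_top y, hy⟩)
    (Γ.mem_top x)

theorem IsHom.br {A B : AddSubgroup L} (hA : IsHom Γ A) (hB : IsHom Γ B) :
    IsHom Γ (H28.GLie.br A B) := by
  refine br_le fun x hx y hy => ?_
  have h : ∀ a ∈ homEl Γ A, ∀ y ∈ B,
      ⁅a, y⁆ ∈ AddSubgroup.closure (homEl Γ (H28.GLie.br A B)) := by
    rintro a ⟨haA, i, hai⟩ y hy
    refine AddSubgroup.closure_induction (p := fun z _ =>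
      ⁅a, z⁆ ∈ AddSubgroup.closure (homEl Γ (H28.GLie.br A B))) ?_ ?_ ?_ ?_ (hB hy)
    · rintro b ⟨hbB, j, hbj⟩
      exact AddSubgroup.subset_closure ⟨lie_mem_br haA hbB, i + j, Γ.lie_mem i j a hai b hbj⟩
    · simp
    · intro u v _ _ hu hv
      rw [lie_add]; exact add_mem hu hv
    · intro u _ hu
      rw [lie_neg]; exact neg_mem hu
  refine AddSubgroup.closure_induction (p := fun z _ =>
    ⁅z, y⁆ ∈ AddSubgroup.closure (homEl Γ (H28.GLie.br A B))) (fun a ha => h a ha y hy) ?_ ?_ ?_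
      (hA hx)
  · simp
  · intro u v _ _ hu hv
    rw [add_lie]; exact add_mem hu hv
  · intro u _ hu
    rw [neg_lie]; exact neg_mem hu

theorem isHom_D {H : AddSubgroup L} (hH : IsHom Γ H) : ∀ k, IsHom Γ (D H k)
  | 0 => hH
  | k + 1 => (isHom_D hH k).br Γ (isHom_D hH k)

theorem isHom_C : ∀ k, IsHom Γ (C k : AddSubgroup L)
  | 0 => isHom_top Γ
  | k + 1 => (isHom_C k).br Γ (isHom_top Γ)

/-- The generators of index above `i`. -/
def gens (H : AddSubgroup L) (i : ℕ) : Set L := {u | u ∈ H ∧ ∃ a : ZMod p, i < a.val ∧ u ∈ Γ.W a}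

/-- The subring generated by the generators of index above `i`. -/
def S (H : AddSubgroup L) (i : ℕ) : AddSubgroup L :=
  sInf {T | gens Γ H i ⊆ T ∧ br T T ≤ T}

theorem gens_subset_S (H : AddSubgroup L) (i : ℕ) : gens Γ H i ⊆ S Γ H i := fun u hu =>
  AddSubgroup.mem_sInf.mpr fun _ hT => hT.1 hu

theorem br_S (H : AddSubgroup L) (i : ℕ) : br (S Γ H i) (S Γ H i) ≤ S Γ H i :=
  br_le fun _ hx _ hy => AddSubgroup.mem_sInf.mpr fun T hT => hT.2
    (lie_mem_br (AddSubgroup.mem_sInf.mp hx T hT) (AddSubgroup.mem_sInf.mp hy T hT))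

theorem S_le {H : AddSubgroup L} {i : ℕ} {T : AddSubgroup L} (h1 : gens Γ H i ⊆ T)
    (h2 : br T T ≤ T) : S Γ H i ≤ T := sInf_le ⟨h1, h2⟩

theorem isHom_S (H : AddSubgroup L) (i : ℕ) : IsHom Γ (S Γ H i) := by
  intro x hx
  set T := AddSubgroup.closure (homEl Γ (S Γ H i))
  have hTS : T ≤ S Γ H i := (AddSubgroup.closure_le _).mpr fun y hy => hy.1
  refine S_le Γ ?_ ?_ hx
  · intro u hu
    refine AddSubgroup.subset_closure (show u ∈ homEl Γ (S Γ H i) from ?_)
    obtain ⟨-, a, -, ha⟩ := id hu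
    exact ⟨gens_subset_S Γ H i hu, a, ha⟩
  · have hThom : IsHom Γ T := fun y hy =>
      AddSubgroup.closure_mono (show homEl Γ (S Γ H i) ⊆ homEl Γ T from
        fun z hz => ⟨AddSubgroup.subset_closure hz, hz.2⟩) hy
    intro y hy
    exact AddSubgroup.closure_mono (show homEl Γ (H28.GLie.br T T) ⊆ homEl Γ (S Γ H i) from
      fun z hz => ⟨(br_mono hTS hTS).trans (br_S Γ H i) hz.1, hz.2⟩)
      ((hThom.br Γ hThom) hy)

theorem lie_S_mem (H : AddSubgroup L) (i : ℕ) : ∀ x ∈ S Γ H i, ∀ y ∈ S Γ H i,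
    ⁅x, y⁆ ∈ AddSubgroup.closure {z | ∃ u ∈ gens Γ H i, ∃ v ∈ homEl Γ (S Γ H i), ⁅u, v⁆ = z} := by
  set Q := AddSubgroup.closure {z | ∃ u ∈ gens Γ H i, ∃ v ∈ homEl Γ (S Γ H i), ⁅u, v⁆ = z}
  let T : AddSubgroup L :=
    { carrier := {x | x ∈ S Γ H i ∧ ∀ y ∈ S Γ H i, ⁅x, y⁆ ∈ Q}
      zero_mem' := ⟨zero_mem _, fun y _ => by simp⟩
      add_mem' := fun ha hb => ⟨add_mem ha.1 hb.1, fun y hy => by
        rw [add_lie]; exact add_mem (ha.2 y hy) (hb.2 y hy)⟩
      neg_mem' := fun ha => ⟨neg_mem ha.1, fun y hy => by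
        rw [neg_lie]; exact neg_mem (ha.2 y hy)⟩ }
  have hle : S Γ H i ≤ T := by
    refine S_le Γ (fun u hu => ⟨gens_subset_S Γ H i hu, fun y hy => ?_⟩)
      (br_le fun a ha b hb => ⟨br_S Γ H i (lie_mem_br ha.1 hb.1), fun y hy => ?_⟩)
    · refine AddSubgroup.closure_induction (p := fun z _ => ⁅u, z⁆ ∈ Q)
        (fun v hv => AddSubgroup.subset_closure ⟨u, hu, v, hv, rfl⟩) ?_ ?_ ?_ (isHom_S Γ H i hy)
      · simp
      · intro c d _ _ hc hd
        rw [lie_add]; exact add_mem hc hd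
      · intro c _ hc
        rw [lie_neg]; exact neg_mem hc
    · rw [lie_lie]
      exact sub_mem (ha.2 _ (br_S Γ H i (lie_mem_br hb.1 hy)))
        (hb.2 _ (br_S Γ H i (lie_mem_br ha.1 hy)))
  exact fun x hx y hy => (hle hx).2 y hy

variable [Fact p.Prime]

theorem eq_zero_of_mem_zero {x : L} (hx : x ∈ Γ.W 0) : x = 0 := by
  rw [Γ.zero_bot] at hx
  exact hx

/-- Kreknin. -/
theorem kreknin : ∀ (i : ℕ) (H : AddSubgroup L), i < p → br H H ≤ H → IsHom Γ H →
    D H (2 ^ i - 1) ≤ S Γ H i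
  | 0 => fun H _ _ hH x hx => by
    have hx' : x ∈ H := hx
    refine (AddSubgroup.closure_le _).mpr ?_ (hH hx')
    rintro u ⟨hu, a, ha⟩
    rcases eq_or_ne a 0 with rfl | ha0
    · rw [eq_zero_of_mem_zero Γ ha]; exact zero_mem _
    · exact gens_subset_S Γ H 0 ⟨hu, a, Nat.pos_of_ne_zero (by rwa [ne_eq, ZMod.val_eq_zero]), ha⟩
  | i + 1 => fun H hi hsub hH => by
    have h1 := kreknin i H (by omega) hsub hH
    have h2i : 1 ≤ 2 ^ i := Nat.one_le_two_pow
    set D' := D H (2 ^ i - 1)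
    set K := br D' D' with hK
    have hKD : K = D H (2 ^ i) := by
      conv_rhs => rw [show 2 ^ i = (2 ^ i - 1) + 1 by omega]
      rfl
    have hKH : K ≤ H := hKD ▸ D_le_self hsub _
    have hKhom : IsHom Γ K := hKD ▸ isHom_D Γ hH _
    have hKsub : br K K ≤ K := hKD ▸ D_br_le hsub _
    rw [show 2 ^ (i + 1) - 1 = 2 ^ i + (2 ^ i - 1) by rw [pow_succ]; omega, D_add, ← hKD]
    refine (kreknin i K (by omega) hKsub hKhom).trans (S_le Γ ?_ (br_S Γ H (i + 1)))
    rintro u ⟨huK, a, hai, hau⟩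
    rcases Nat.lt_or_ge (i + 1) a.val with hlt | hge
    · exact gens_subset_S Γ H (i + 1) ⟨hKH huK, a, hlt, hau⟩
    -- the new component
    rw [← Γ.proj_same a u hau]
    refine AddSubgroup.closure_induction (p := fun z _ => Γ.proj a z ∈ S Γ H (i + 1)) ?_ ?_ ?_ ?_
      ((br_le fun x hx y hy => lie_S_mem Γ H i x (h1 hx) y (h1 hy)) huK)
    · rintro _ ⟨w, ⟨hwH, b, hbi, hwb⟩, v, ⟨hvS, c, hvc⟩, rfl⟩
      have hmem := Γ.lie_mem b c w hwb v hvc
      by_cases hsum : b + c = a
      · subst hsum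
        rw [Γ.proj_same _ _ hmem]
        have hv : v ∈ H := S_le Γ (fun z hz => hz.1) hsub hvS
        rcases eq_or_ne c 0 with rfl | hc0
        · rw [eq_zero_of_mem_zero Γ hvc, lie_zero]; exact zero_mem _
        have hc : (b + c).val = i + 1 := by omega
        have hcpos : 0 < c.val := Nat.pos_of_ne_zero (by rwa [ne_eq, ZMod.val_eq_zero])
        have hclt := ZMod.val_lt c
        have hblt := ZMod.val_lt b
        rw [ZMod.val_add] at hc
        have hb' : i + 1 < b.val ∧ i + 1 < c.val := by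
          rcases Nat.lt_or_ge (b.val + c.val) p with h | h
          · rw [Nat.mod_eq_of_lt h] at hc; omega
          · rw [Nat.mod_eq_sub_mod h, Nat.mod_eq_of_lt (by omega)] at hc; omega
        exact br_S Γ H (i + 1) (lie_mem_br (gens_subset_S Γ H (i + 1) ⟨hwH, b, hb'.1, hwb⟩)
          (gens_subset_S Γ H (i + 1) ⟨hv, c, hb'.2, hvc⟩))
      · rw [Γ.proj_ne a (b + c) (fun e => hsum e.symm) _ hmem]; exact zero_mem _
    · rw [map_zero]; exact zero_mem _
    · intro x y _ _ hx hy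
      rw [map_add]; exact add_mem hx hy
    · intro x _ hx
      rw [map_neg]; exact neg_mem hx

end H28.GLie

namespace H28.GLie

variable {p : ℕ} [Fact p.Prime] {L : Type*} [LieRing L] (Γ : Grading p L)

omit [Fact p.Prime] in
/-- The value of a monomial. -/
def val (a : L) : List (ℕ × L) → L
  | [] => a
  | z :: l => val ⁅a, z.2⁆ l

omit Γ [Fact p.Prime] in
theorem val_append (a : L) (l₁ l₂ : List (ℕ × L)) : val a (l₁ ++ l₂) = val (val a l₁) l₂ := by
  induction l₁ generalizing a with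
  | nil => rfl
  | cons z l ih => exact ih _

omit Γ [Fact p.Prime] in
theorem val_add (a b : L) (l : List (ℕ × L)) : val (a + b) l = val a l + val b l := by
  induction l generalizing a b with
  | nil => rfl
  | cons z l ih => simp only [val, add_lie, ih]

omit Γ [Fact p.Prime] in
theorem val_zero (l : List (ℕ × L)) : val (0 : L) l = 0 := by
  induction l with
  | nil => rfl
  | cons z l ih => simp only [val, zero_lie, ih]

omit Γ [Fact p.Prime] in
theorem val_neg (a : L) (l : List (ℕ × L)) : val (-a) l = -val a l := by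
  induction l generalizing a with
  | nil => rfl
  | cons z l ih => simp only [val, neg_lie, ih]

omit Γ [Fact p.Prime] in
theorem val_sub (a b : L) (l : List (ℕ × L)) : val (a - b) l = val a l - val b l := by
  rw [sub_eq_add_neg, val_add, val_neg, ← sub_eq_add_neg]

omit Γ [Fact p.Prime] in
theorem val_mem {M : AddSubgroup L} (hM : ∀ x ∈ M, ∀ y : L, ⁅x, y⁆ ∈ M) (a : L) (ha : a ∈ M)
    (l : List (ℕ × L)) : val a l ∈ M := by
  induction l generalizing a with
  | nil => exact ha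
  | cons z l ih => exact ih _ (hM a ha _)

/-- Admissible monomial entries: homogeneous of given weight. -/
def Ok (z : ℕ × L) : Prop := 1 ≤ z.1 ∧ z.2 ∈ C (z.1 - 1) ∧ ∃ d, z.2 ∈ Γ.W d

omit [Fact p.Prime] in
theorem val_homogeneous {c : ℕ} (a : L) (l : List (ℕ × L)) (hl : ∀ z ∈ l, Ok Γ z)
    (ha : a ∈ C c ∧ ∃ d, a ∈ Γ.W d) : val a l ∈ C c ∧ ∃ d, val a l ∈ Γ.W d := by
  induction l generalizing a with
  | nil => exact ha
  | cons z l ih =>
    obtain ⟨-, -, e, he⟩ := hl z List.mem_cons_self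
    obtain ⟨d, hd⟩ := ha.2
    exact ih _ (fun w hw => hl w (List.mem_cons_of_mem _ hw))
      ⟨C_ideal c a ha.1 z.2, d + e, Γ.lie_mem d e a hd z.2 he⟩

/-- Subset sums of `p - 1` nonzero residues cover `ZMod p`. -/
theorem card_le_sums : ∀ l : List (ZMod p), (∀ x ∈ l, x ≠ 0) →
    ∃ T : Finset (ZMod p), min p (l.length + 1) ≤ T.card ∧
      ∀ t ∈ T, ∃ l' : List (ZMod p), l'.Sublist l ∧ l'.sum = t
  | [] => fun _ => ⟨{0}, by simp, fun t ht => ⟨[], List.Sublist.refl _, by
      rw [Finset.mem_singleton] at ht; simp [ht]⟩⟩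
  | x :: l => fun h => by
    classical
    obtain ⟨T, hT, hT'⟩ := card_le_sums l fun y hy => h y (List.mem_cons_of_mem _ hy)
    refine ⟨T ∪ T.image (x + ·), ?_, fun t ht => ?_⟩
    · by_cases hfull : T.image (x + ·) ⊆ T
      · have hx := h x List.mem_cons_self
        have hne : T.Nonempty := by
          rw [← Finset.card_pos]
          have := (Fact.out : p.Prime).pos
          omega
        obtain ⟨t₀, ht₀⟩ := hne
        have hmul : ∀ k : ℕ, t₀ + k * x ∈ T := fun k => by
          induction k with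
          | zero => simpa using ht₀
          | succ k ih =>
            have := hfull (Finset.mem_image_of_mem _ ih)
            convert this using 1
            push_cast; ring
        have hall : (Finset.univ : Finset (ZMod p)) ⊆ T := fun y _ => by
          have := hmul ((y - t₀) / x).val
          rwa [ZMod.natCast_val, ZMod.cast_id, div_mul_cancel₀ _ hx, add_sub_cancel] at this
        have := (Finset.card_le_card hall).trans (Finset.card_le_card (Finset.subset_union_left
          (s₂ := T.image (x + ·))))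
        rw [Finset.card_univ, ZMod.card] at this
        omega
      · obtain ⟨y, hy, hy'⟩ := Finset.not_subset.mp hfull
        have : T.card < (T ∪ T.image (x + ·)).card := Finset.card_lt_card
          ⟨Finset.subset_union_left, fun hs => hy' (hs (Finset.mem_union_right _ hy))⟩
        simp only [List.length_cons]
        omega
    · rcases Finset.mem_union.mp ht with ht | ht
      · obtain ⟨l', hl', hs⟩ := hT' t ht
        exact ⟨l', hl'.cons _, hs⟩
      · obtain ⟨t', ht', rfl⟩ := Finset.mem_image.mp ht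
        obtain ⟨l', hl', hs⟩ := hT' t' ht'
        exact ⟨x :: l', hl'.cons_cons _, by simp [hs]⟩

theorem val_deg (a : L) (d : ZMod p) (ha : a ∈ Γ.W d) (l : List (ℕ × L)) (g : ℕ × L → ZMod p)
    (hg : ∀ z ∈ l, z.2 ∈ Γ.W (g z)) : val a l ∈ Γ.W (d + (l.map g).sum) := by
  induction l generalizing a d with
  | nil => simpa [val] using ha
  | cons z l ih =>
    have := ih ⁅a, z.2⁆ (d + g z) (Γ.lie_mem _ _ a ha z.2 (hg z List.mem_cons_self))
      fun w hw => hg w (List.mem_cons_of_mem _ hw)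
    simpa [val, add_assoc] using this

/-- The inductive step: long monomials lie in `M`. -/
theorem monomial_mem (c : ℕ) (M : AddSubgroup L) (hM : ∀ x ∈ M, ∀ y : L, ⁅x, y⁆ ∈ M)
    (hA : ∀ x ∈ (C c : AddSubgroup L), ∀ y ∈ (C c : AddSubgroup L), ⁅x, y⁆ ∈ M) :
    ∀ (k : ℕ) (a : L), a ∈ C c → (∃ d, a ∈ Γ.W d) → ∀ l : List (ℕ × L), l.length ≤ k →
      (∀ z ∈ l, Ok Γ z) → (p - 2) * c + 1 ≤ (l.map Prod.fst).sum → val a l ∈ M := by
  intro k
  induction k with
  | zero =>
    intro a _ _ l hl _ hw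
    rw [List.length_eq_zero_iff.mp (Nat.le_zero.mp hl)] at hw
    simp at hw
  | succ k ih =>
    intro a ha hd l hlen hok hw
    obtain ⟨d, hd⟩ := hd
    by_cases hbig : ∃ z ∈ l, c + 1 ≤ z.1
    · obtain ⟨z, hz, hzc⟩ := hbig
      obtain ⟨l₁, l₂, rfl⟩ := List.append_of_mem hz
      rw [val_append]
      refine val_mem hM _ (hA _ ?_ _ (C_antitone (by omega) (hok z hz).2.1)) l₂
      exact (val_homogeneous Γ a l₁ (fun w hw' => hok w (List.mem_append_left _ hw'))
        ⟨ha, d, hd⟩).1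
    push Not at hbig
    have hlong : p - 1 ≤ l.length := by
      by_contra hlt
      push Not at hlt
      have h1 : (l.map Prod.fst).sum ≤ l.length * c := by
        have := List.sum_le_card_nsmul (l.map Prod.fst) c (fun x hx => by
          obtain ⟨z, hz, rfl⟩ := List.mem_map.mp hx
          have := hbig z hz
          omega)
        simpa using this
      have h2 : l.length * c ≤ (p - 2) * c := Nat.mul_le_mul_right c (by omega)
      omega
    -- invariance under permutations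
    have hperm : ∀ {l₁ l₂ : List (ℕ × L)}, l₁.Perm l₂ → ∀ pre : List (ℕ × L),
        (∀ z ∈ pre ++ l₁, Ok Γ z) → (pre ++ l₁).length ≤ k + 1 →
        (p - 2) * c + 1 ≤ ((pre ++ l₁).map Prod.fst).sum →
        val a (pre ++ l₁) - val a (pre ++ l₂) ∈ M := by
      intro l₁ l₂ h
      induction h with
      | nil => intro pre _ _ _; simp
      | @cons x s t hst ihp =>
        intro pre h1 h2 h3
        have := ihp (pre ++ [x]) (by simpa using h1) (by simpa using h2) (by simpa using h3)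
        simpa using this
      | @swap x y s =>
        intro pre h1 h2 h3
        have hx := h1 x (by simp)
        have hy := h1 y (by simp)
        obtain ⟨dx, hdx⟩ := hx.2.2
        obtain ⟨dy, hdy⟩ := hy.2.2
        have hz : Ok Γ (y.1 + x.1, ⁅y.2, x.2⁆) := by
          refine ⟨by have := hy.1; omega, ?_, dy + dx, Γ.lie_mem dy dx _ hdy _ hdx⟩
          have := lie_C_C (x.1 - 1) (y.1 - 1) y.2 hy.2.1 x.2 hx.2.1
          rwa [show y.1 - 1 + (x.1 - 1) + 1 = y.1 + x.1 - 1 by
            have := hy.1; have := hx.1; omega] at this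
        have hmem := ih a ha ⟨d, hd⟩ (pre ++ (y.1 + x.1, ⁅y.2, x.2⁆) :: s)
          (by simp at h2 ⊢; omega)
          (fun z hz' => by
            rcases List.mem_append.mp hz' with hz' | hz'
            · exact h1 z (List.mem_append_left _ hz')
            rcases List.mem_cons.mp hz' with rfl | hz'
            · exact hz
            · exact h1 z (by simp [hz']))
          (by simp at h3 ⊢; omega)
        rw [val_append, val_append]
        rw [val_append] at hmem
        simp only [val] at hmem ⊢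
        rw [← val_sub]
        have e : ⁅⁅val a pre, y.2⁆, x.2⁆ - ⁅⁅val a pre, x.2⁆, y.2⁆ = ⁅val a pre, ⁅y.2, x.2⁆⁆ := by
          rw [leibniz_lie (val a pre) y.2 x.2, lie_neg_swap y.2 ⁅val a pre, x.2⁆]
          abel
        rw [e]
        exact hmem
      | @trans s t u hst htu ih1 ih2 =>
        intro pre h1 h2 h3
        have hp1 : (pre ++ s).Perm (pre ++ t) := hst.append_left pre
        have e1 := ih1 pre h1 h2 h3
        have e2 := ih2 pre (fun z hz => h1 z (hp1.mem_iff.mpr hz)) (hp1.length_eq ▸ h2)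
          ((hp1.map Prod.fst).sum_eq ▸ h3)
        have := add_mem e1 e2
        rwa [sub_add_sub_cancel] at this
    -- a prefix of zero degree
    obtain ⟨g, hg⟩ : ∃ g : ℕ × L → ZMod p, ∀ z ∈ l, z.2 ∈ Γ.W (g z) := by
      classical
      refine ⟨fun z => if h : ∃ e, z.2 ∈ Γ.W e then h.choose else 0, fun z hz => ?_⟩
      simp only [dif_pos (hok z hz).2.2]
      exact (hok z hz).2.2.choose_spec
    by_cases hz0 : ∃ z ∈ l, g z = 0
    · obtain ⟨z, hz, hgz⟩ := hz0
      obtain ⟨l₁, l₂, rfl⟩ := List.append_of_mem hz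
      have h0 := eq_zero_of_mem_zero Γ (hgz ▸ hg z hz)
      rw [val_append]
      simp only [val, h0, lie_zero, val_zero]
      exact zero_mem _
    push Not at hz0
    set l₁ := l.take (p - 1)
    obtain ⟨T, hT, hT'⟩ := card_le_sums (l₁.map g) fun x hx => by
      obtain ⟨z, hz, rfl⟩ := List.mem_map.mp hx
      exact hz0 z (List.mem_of_mem_take hz)
    have hTall : T = Finset.univ := by
      refine Finset.eq_univ_of_card T (le_antisymm (Finset.card_le_univ T) ?_)
      rw [ZMod.card]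
      have : l₁.length = p - 1 := by simp [l₁, hlong]
      rw [List.length_map, this] at hT
      have := (Fact.out : p.Prime).two_le
      omega
    obtain ⟨lg, hlg, hsum⟩ := hT' (-d) (hTall ▸ Finset.mem_univ _)
    obtain ⟨sub, hsub, rfl⟩ := List.sublist_map_iff.mp hlg
    obtain ⟨rest, hrest⟩ := (hsub.trans (List.take_sublist _ _)).exists_perm_append
    have h1 := hperm hrest [] (by simpa using hok) (by simpa using hlen) (by simpa using hw)
    have h2 : val a sub = 0 := eq_zero_of_mem_zero Γ (by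
      have := val_deg Γ a d hd sub g fun z hz =>
        hg z ((hsub.trans (List.take_sublist _ _)).subset hz)
      rwa [hsum, add_neg_cancel] at this)
    simpa [val_append, h2, val_zero] using h1

include Γ in
theorem C_le_D : ∀ s : ℕ,
    (C (∑ i ∈ Finset.range s, (p - 1) ^ i) : AddSubgroup L) ≤ D ⊤ s
  | 0 => by simp [C, D]
  | s + 1 => by
    have ih := C_le_D s
    set c := ∑ i ∈ Finset.range s, (p - 1) ^ i
    set M := D (⊤ : AddSubgroup L) (s + 1)
    have hM : ∀ x ∈ M, ∀ y : L, ⁅x, y⁆ ∈ M :=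
      D_ideal (fun _ _ _ => AddSubgroup.mem_top _) (s + 1)
    have hA : ∀ x ∈ (C c : AddSubgroup L), ∀ y ∈ (C c : AddSubgroup L), ⁅x, y⁆ ∈ M :=
      fun x hx y hy => lie_mem_br (ih hx) (ih hy)
    let gen : ℕ → Set L := fun n => {y | ∃ a, (a ∈ C c ∧ ∃ d, a ∈ Γ.W d) ∧ ∃ l : List (ℕ × L),
      l.length = n ∧ (∀ z ∈ l, z.1 = 1 ∧ ∃ d, z.2 ∈ Γ.W d) ∧ val a l = y}
    have hspan : ∀ n, (C (c + n) : AddSubgroup L) ≤ AddSubgroup.closure (gen n) := by
      intro n
      induction n with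
      | zero => exact (isHom_C Γ c).trans (AddSubgroup.closure_mono fun y hy =>
          ⟨y, hy, [], rfl, by simp, rfl⟩)
      | succ n ihn =>
        refine br_le fun x hx y _ => ?_
        have h : ∀ z ∈ gen n, ⁅z, y⁆ ∈ AddSubgroup.closure (gen (n + 1)) := by
          rintro _ ⟨a, ha, l, hl, hl', rfl⟩
          refine AddSubgroup.closure_induction
            (p := fun w _ => ⁅val a l, w⁆ ∈ AddSubgroup.closure (gen (n + 1))) ?_ ?_ ?_ ?_
            (Γ.mem_top y)
          · rintro w hw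
            refine AddSubgroup.subset_closure ⟨a, ha, l ++ [(1, w)], by simp [hl], ?_, ?_⟩
            · intro z hz
              rcases List.mem_append.mp hz with hz | hz
              · exact hl' z hz
              · rw [List.mem_singleton] at hz; subst hz; exact ⟨rfl, hw⟩
            · rw [val_append]; rfl
          · simp
          · intro u v _ _ hu hv
            rw [lie_add]; exact add_mem hu hv
          · intro u _ hu
            rw [lie_neg]; exact neg_mem hu
        refine AddSubgroup.closure_induction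
          (p := fun z _ => ⁅z, y⁆ ∈ AddSubgroup.closure (gen (n + 1))) h ?_ ?_ ?_ (ihn hx)
        · simp
        · intro u v _ _ hu hv
          rw [add_lie]; exact add_mem hu hv
        · intro u _ hu
          rw [neg_lie]; exact neg_mem hu
    have hp2 := (Fact.out : p.Prime).two_le
    have hsum : ∑ i ∈ Finset.range (s + 1), (p - 1) ^ i = c + ((p - 2) * c + 1) := by
      rw [Finset.sum_range_succ', pow_zero, show (p - 2) * c + 1 = (p - 2) * c + 1 from rfl]
      simp only [pow_succ', ← Finset.mul_sum]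
      have h : (p - 1) * c = (p - 2) * c + c := by
        conv_lhs => arg 1; rw [show p - 1 = (p - 2) + 1 by omega]
        rw [add_mul, one_mul]
      show (p - 1) * c + 1 = _
      omega
    rw [hsum]
    refine (hspan _).trans ((AddSubgroup.closure_le _).mpr ?_)
    rintro _ ⟨a, ⟨ha, had⟩, l, hl, hl', rfl⟩
    refine monomial_mem Γ c M hM hA l.length a ha had l le_rfl (fun z hz => ?_) ?_
    · obtain ⟨h1, h2⟩ := hl' z hz
      exact ⟨h1.ge, by rw [h1]; exact AddSubgroup.mem_top _, h2⟩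
    · rw [← hl, List.eq_replicate_of_mem (l := l.map Prod.fst) (a := 1) (fun x hx => by
        obtain ⟨z, hz, rfl⟩ := List.mem_map.mp hx
        exact (hl' z hz).1)]
      simp

include Γ in
/-- Higman, Kreknin, Kostrikin. -/
theorem C_eq_bot : (C (∑ i ∈ Finset.range (2 ^ (p - 1) - 1), (p - 1) ^ i) : AddSubgroup L) = ⊥ := by
  rw [eq_bot_iff]
  have hp := (Fact.out : p.Prime).two_le
  refine (C_le_D Γ _).trans ((kreknin Γ (p - 1) ⊤ (by omega) le_top (isHom_top Γ)).trans
    (S_le Γ ?_ ?_))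
  · rintro u ⟨-, a, ha, -⟩
    have := ZMod.val_lt a
    omega
  · exact br_le fun x hx y _ => by
      rw [AddSubgroup.mem_bot] at hx
      rw [hx, zero_lie]; exact zero_mem _

omit [Fact p.Prime] in
/-- A grading by `ZMod 3` gives class two. -/
theorem C_two_eq_bot (Γ : Grading 3 L) : (C 2 : AddSubgroup L) = ⊥ := by
  haveI : Fact (Nat.Prime 3) := ⟨Nat.prime_three⟩
  have h3 : ∀ x ∈ homEl Γ (⊤ : AddSubgroup L), ∀ y ∈ homEl Γ (⊤ : AddSubgroup L),
      ∀ z ∈ homEl Γ (⊤ : AddSubgroup L), ⁅⁅x, y⁆, z⁆ = 0 := by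
    rintro x ⟨-, a, ha⟩ y ⟨-, b, hb⟩ z ⟨-, c, hc⟩
    have hxy := Γ.lie_mem a b x ha y hb
    have hyz := Γ.lie_mem b c y hb z hc
    have hxz := Γ.lie_mem a c x ha z hc
    have hxyz := Γ.lie_mem _ _ _ hxy z hc
    have hcases : ∀ a b c : ZMod 3, a = 0 ∨ b = 0 ∨ c = 0 ∨ a + b = 0 ∨ a + b + c = 0 ∨
        (b + c = 0 ∧ a + c = 0) := by decide +revert
    rcases hcases a b c with rfl | rfl | rfl | h | h | ⟨h, h'⟩
    · simp [eq_zero_of_mem_zero Γ ha]
    · simp [eq_zero_of_mem_zero Γ hb]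
    · simp [eq_zero_of_mem_zero Γ hc]
    · simp [eq_zero_of_mem_zero Γ (x := ⁅x, y⁆) (h ▸ hxy)]
    · exact eq_zero_of_mem_zero Γ (x := ⁅⁅x, y⁆, z⁆) (h ▸ hxyz)
    · rw [lie_lie, eq_zero_of_mem_zero Γ (x := ⁅y, z⁆) (h ▸ hyz), eq_zero_of_mem_zero Γ (x := ⁅x, z⁆) (h' ▸ hxz)]
      simp
  rw [eq_bot_iff]
  refine br_le fun u hu z _ => ?_
  rw [AddSubgroup.mem_bot]
  have hC1 : (C 1 : AddSubgroup L) ≤ AddSubgroup.closure {w | ∃ x ∈ homEl Γ (⊤ : AddSubgroup L),
      ∃ y ∈ homEl Γ (⊤ : AddSubgroup L), ⁅x, y⁆ = w} := by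
    refine br_le fun x hx y hy => ?_
    have h : ∀ x ∈ homEl Γ (⊤ : AddSubgroup L), ⁅x, y⁆ ∈ AddSubgroup.closure {w | ∃ x ∈
        homEl Γ (⊤ : AddSubgroup L), ∃ y ∈ homEl Γ (⊤ : AddSubgroup L), ⁅x, y⁆ = w} := by
      intro x hx
      refine AddSubgroup.closure_induction (p := fun v _ => ⁅x, v⁆ ∈ AddSubgroup.closure {w | ∃ x ∈
        homEl Γ (⊤ : AddSubgroup L), ∃ y ∈ homEl Γ (⊤ : AddSubgroup L), ⁅x, y⁆ = w})
        (fun v hv => AddSubgroup.subset_closure ⟨x, hx, v, hv, rfl⟩) ?_ ?_ ?_ (isHom_top Γ hy)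
      · simp
      · intro c d _ _ hc hd
        rw [lie_add]; exact add_mem hc hd
      · intro c _ hc
        rw [lie_neg]; exact neg_mem hc
    refine AddSubgroup.closure_induction (p := fun v _ => ⁅v, y⁆ ∈ AddSubgroup.closure {w | ∃ x ∈
      homEl Γ (⊤ : AddSubgroup L), ∃ y ∈ homEl Γ (⊤ : AddSubgroup L), ⁅x, y⁆ = w})
      h ?_ ?_ ?_ (isHom_top Γ hx)
    · simp
    · intro c d _ _ hc hd
      rw [add_lie]; exact add_mem hc hd
    · intro c _ hc
      rw [neg_lie]; exact neg_mem hc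
  refine AddSubgroup.closure_induction (p := fun v _ => ⁅v, z⁆ = 0) ?_ ?_ ?_ ?_ (hC1 hu)
  · rintro _ ⟨x, hx, y, hy, rfl⟩
    refine AddSubgroup.closure_induction (p := fun v _ => ⁅⁅x, y⁆, v⁆ = 0) (fun v hv => h3 x hx y hy v hv)
      ?_ ?_ ?_ (isHom_top Γ (AddSubgroup.mem_top z))
    · simp
    · intro c d _ _ hc hd
      rw [lie_add, hc, hd, add_zero]
    · intro c _ hc
      rw [lie_neg, hc, neg_zero]
  · simp
  · intro c d _ _ hc hd
    rw [add_lie, hc, hd, add_zero]
  · intro c _ hc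
    rw [neg_lie, hc, neg_zero]

end H28.GLie
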