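import Mathlib
import Cfsg.Agent.H28.GradedLie
import Cfsg.Agent.H28.FPFAut

/-!
The Lie algebra over `ZMod l` associated with the lower central series, and the bound on the class
of a nilpotent group with a fixed-point-free automorphism of prime order.
-/

set_option autoImplicit false
set_option linter.style.haveILetI false

universe u

namespace H28.ALie

open scoped DirectSum TensorProduct commutatorElement

variable {G : Type u} [Group G]

/-- The lower central series. -/
abbrev γ (k : ℕ) : Subgroup G := (⊤ : Subgroup G).lowerCentralSeries k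

theorem γ_succ (k : ℕ) : γ (G := G) (k + 1) = ⁅γ (G := G) k, (⊤ : Subgroup G)⁆ :=
  (⊤ : Subgroup G).lowerCentralSeries_succ k

theorem γ_le {j k : ℕ} (h : j ≤ k) : γ (G := G) k ≤ γ j :=
  (⊤ : Subgroup G).lowerCentralSeries_antitone h

theorem comm_mem_succ {k : ℕ} {x : G} (hx : x ∈ γ k) (g : G) : ⁅x, g⁆ ∈ γ (k + 1) := by
  rw [γ_succ]
  exact Subgroup.commutator_mem_commutator hx (Subgroup.mem_top g)

theorem commutator_γ_le : ∀ i j : ℕ, ⁅γ (G := G) i, γ (G := G) j⁆ ≤ γ (G := G) (i + j + 1) := by
  intro i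
  induction i with
  | zero =>
    intro j
    rw [Nat.zero_add, show γ (G := G) 0 = ⊤ from Subgroup.lowerCentralSeries_zero ⊤,
      Subgroup.commutator_comm, ← γ_succ]
  | succ i ih =>
    intro j
    rw [γ_succ i]
    rw [← QuotientGroup.ker_mk' (γ (G := G) (i + 1 + j + 1)), ← Subgroup.map_eq_bot_iff,
      Subgroup.map_commutator, Subgroup.map_commutator]
    apply Subgroup.commutator_commutator_eq_bot_of_rotate
    · rw [← Subgroup.map_commutator, ← Subgroup.map_commutator, Subgroup.map_eq_bot_iff,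
        QuotientGroup.ker_mk', Subgroup.commutator_comm (⊤ : Subgroup G), ← γ_succ]
      refine le_trans (le_of_eq (Subgroup.commutator_comm _ _))
        ((ih (j + 1)).trans (le_of_eq ?_))
      congr 1; omega
    · rw [← Subgroup.map_commutator, ← Subgroup.map_commutator, Subgroup.map_eq_bot_iff,
        QuotientGroup.ker_mk', Subgroup.commutator_comm (γ j)]
      refine (Subgroup.commutator_mono (ih j) le_rfl).trans (le_of_eq ?_)
      rw [show i + 1 + j + 1 = (i + j + 1) + 1 by omega]
      exact (γ_succ _).symm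

theorem comm_mem {i j : ℕ} {x y : G} (hx : x ∈ γ i) (hy : y ∈ γ j) : ⁅x, y⁆ ∈ γ (i + j + 1) :=
  commutator_γ_le i j (Subgroup.commutator_mem_commutator hx hy)

variable (l : ℕ)

/-- The kernel of the projection to the `k`-th elementary factor. -/
def Dk (k : ℕ) : Subgroup (γ (G := G) k) :=
  (γ (k + 1)).subgroupOf (γ k) ⊔ Subgroup.closure (Set.range fun x : γ (G := G) k => x ^ l)

theorem Dk_comm (k : ℕ) (a b : γ (G := G) k) : ⁅a, b⁆ ∈ Dk l k :=
  Subgroup.mem_sup_left (Subgroup.mem_subgroupOf.mpr (by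
    have := comm_mem_succ (k := k) a.2 (b : G)
    simpa [commutatorElement_def] using this))

instance Dk_normal (k : ℕ) : (Dk (G := G) l k).Normal := ⟨fun n hn g => by
  have h := (Dk (G := G) l k).mul_mem (Dk_comm l k g n) hn
  rwa [show ⁅g, n⁆ * n = g * n * g⁻¹ by rw [commutatorElement_def]; group] at h⟩

instance instCommGroupQ (k : ℕ) : CommGroup (γ (G := G) k ⧸ Dk l k) :=
  { (inferInstance : Group (γ (G := G) k ⧸ Dk l k)) with
    mul_comm := fun a b => by
      induction a using QuotientGroup.induction_on with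
      | H a =>
        induction b using QuotientGroup.induction_on with
        | H b =>
          rw [← QuotientGroup.mk_mul, ← QuotientGroup.mk_mul, QuotientGroup.eq]
          have h := Dk_comm l k b⁻¹ a⁻¹
          rwa [show (a * b)⁻¹ * (b * a) = ⁅b⁻¹, a⁻¹⁆ by rw [commutatorElement_def]; group] }

/-- The `k`-th elementary factor. -/
abbrev V (k : ℕ) : Type u := Additive (γ (G := G) k ⧸ Dk l k)

theorem pow_l_eq_one (k : ℕ) (a : γ (G := G) k ⧸ Dk l k) : a ^ l = 1 := by
  induction a using QuotientGroup.induction_on with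
  | H a =>
    rw [← QuotientGroup.mk_pow, QuotientGroup.eq_one_iff]
    exact Subgroup.mem_sup_right (Subgroup.subset_closure ⟨a, rfl⟩)

instance instModuleV (k : ℕ) : Module (ZMod l) (V (G := G) l k) :=
  AddCommGroup.zmodModule fun v => Additive.toMul.injective (pow_l_eq_one l k _)

/-- The associated Lie algebra. -/
abbrev L (G : Type u) [Group G] (l : ℕ) : Type u := ⨁ k : ℕ, V (G := G) l k

/-- The class of a member of the `k`-th term. -/
def cls {k : ℕ} (x : G) (h : x ∈ γ k) : γ (G := G) k ⧸ Dk l k := QuotientGroup.mk ⟨x, h⟩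

open scoped Classical in
/-- The homogeneous element of a group element. -/
noncomputable def ι (k : ℕ) (x : G) : L G l :=
  if h : x ∈ γ k then DirectSum.lof (ZMod l) ℕ (fun k => V (G := G) l k) k (Additive.ofMul (cls l x h))
  else 0

theorem ι_of_mem {k : ℕ} {x : G} (h : x ∈ γ k) :
    ι l k x = DirectSum.lof (ZMod l) ℕ (fun k => V (G := G) l k) k (Additive.ofMul (cls l x h)) :=
  dif_pos h

theorem ι_mul {k : ℕ} {x y : G} (hx : x ∈ γ k) (hy : y ∈ γ k) :
    ι l k (x * y) = ι l k x + ι l k y := by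
  rw [ι_of_mem l hx, ι_of_mem l hy, ι_of_mem l ((γ k).mul_mem hx hy), ← map_add]
  rfl

theorem ι_one (k : ℕ) : ι l k (1 : G) = 0 := by
  have h := ι_mul l (γ (G := G) k).one_mem (γ (G := G) k).one_mem
  rwa [mul_one, left_eq_add] at h

theorem ι_inv {k : ℕ} {x : G} (hx : x ∈ γ k) : ι l k x⁻¹ = -ι l k x := by
  rw [eq_neg_iff_add_eq_zero, ← ι_mul l ((γ k).inv_mem hx) hx, inv_mul_cancel, ι_one]

theorem cls_succ {k : ℕ} {x : G} (hx : x ∈ γ (k + 1)) : cls l x (γ_le (Nat.le_succ k) hx) = 1 :=
  (QuotientGroup.eq_one_iff _).mpr (Subgroup.mem_sup_left (Subgroup.mem_subgroupOf.mpr hx))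

theorem ι_succ {k : ℕ} {x : G} (hx : x ∈ γ (k + 1)) : ι l k x = 0 := by
  rw [ι_of_mem l (γ_le (Nat.le_succ k) hx), cls_succ l hx, ofMul_one, map_zero]

theorem cls_conj {k : ℕ} {x : G} (g : G) (hx : x ∈ γ k) :
    cls l (g * x * g⁻¹) ((inferInstance : (γ (G := G) k).Normal).conj_mem x hx g) = cls l x hx := by
  refine (QuotientGroup.eq.mpr (Subgroup.mem_sup_left (Subgroup.mem_subgroupOf.mpr ?_))).symm
  have h := comm_mem_succ ((γ k).inv_mem hx) g
  simp only [Subgroup.coe_mul, InvMemClass.coe_inv]
  rwa [show x⁻¹ * (g * x * g⁻¹) = ⁅x⁻¹, g⁆ by rw [commutatorElement_def]; group]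

theorem ι_conj {k : ℕ} {x : G} (g : G) (hx : x ∈ γ k) : ι l k (g * x * g⁻¹) = ι l k x := by
  rw [ι_of_mem l hx, ι_of_mem l ((inferInstance : (γ (G := G) k).Normal).conj_mem x hx g),
    cls_conj l g hx]

/-- The commutator pairing on representatives. -/
def fCom (i j : ℕ) (x : γ (G := G) i) : γ (G := G) j →* γ (G := G) (i + j + 1) ⧸ Dk l (i + j + 1) where
  toFun y := cls l ⁅(x : G), (y : G)⁆ (comm_mem x.2 y.2)
  map_one' := by
    refine (QuotientGroup.eq_one_iff _).mpr ?_
    convert (Dk (G := G) l (i + j + 1)).one_mem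
    simp [commutatorElement_def]
  map_mul' y y' := by
    have h1 := comm_mem x.2 y.2
    have h2 := comm_mem x.2 y'.2
    conv_rhs => rw [← cls_conj l (y : G) h2]
    unfold cls
    rw [← QuotientGroup.mk_mul]
    congr 1
    apply Subtype.ext
    simp only [Subgroup.coe_mul, commutatorElement_def]
    group

theorem fCom_kill (i j : ℕ) (x : γ (G := G) i) : Dk l j ≤ (fCom l i j x).ker := by
  refine sup_le (fun y hy => ?_) ((Subgroup.closure_le _).mpr ?_)
  · rw [MonoidHom.mem_ker]
    exact cls_succ l (show ⁅(x : G), (y : G)⁆ ∈ γ (i + j + 1 + 1) by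
      have := comm_mem x.2 (Subgroup.mem_subgroupOf.mp hy)
      rwa [show i + (j + 1) + 1 = i + j + 1 + 1 by omega] at this)
  · rintro _ ⟨y, rfl⟩
    rw [SetLike.mem_coe, MonoidHom.mem_ker, map_pow, pow_l_eq_one]

/-- The commutator pairing, right variable in the factor. -/
def gCom (i j : ℕ) : γ (G := G) i →*
    (γ (G := G) j ⧸ Dk l j →* γ (G := G) (i + j + 1) ⧸ Dk l (i + j + 1)) where
  toFun x := QuotientGroup.lift _ (fCom l i j x) (fCom_kill l i j x)
  map_one' := by
    refine MonoidHom.ext fun y => ?_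
    induction y using QuotientGroup.induction_on with
    | H y =>
      refine (QuotientGroup.eq_one_iff _).mpr ?_
      convert (Dk (G := G) l (i + j + 1)).one_mem
      simp [commutatorElement_def]
  map_mul' x x' := by
    refine MonoidHom.ext fun y => ?_
    induction y using QuotientGroup.induction_on with
    | H y =>
      show cls l _ (comm_mem (x * x').2 y.2) =
        cls l _ (comm_mem x.2 y.2) * cls l _ (comm_mem x'.2 y.2)
      rw [mul_comm]
      conv_rhs => rw [← cls_conj l (x : G) (comm_mem x'.2 y.2)]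
      unfold cls
      rw [← QuotientGroup.mk_mul]
      congr 1
      apply Subtype.ext
      simp only [Subgroup.coe_mul, commutatorElement_def]
      group

theorem gCom_kill (i j : ℕ) : Dk (G := G) l i ≤ (gCom l i j).ker := by
  refine sup_le (fun x hx => MonoidHom.mem_ker.mpr (MonoidHom.ext fun y => ?_))
    ((Subgroup.closure_le _).mpr ?_)
  · induction y using QuotientGroup.induction_on with
    | H y =>
      exact cls_succ l (show ⁅(x : G), (y : G)⁆ ∈ γ (i + j + 1 + 1) by
        have := comm_mem (Subgroup.mem_subgroupOf.mp hx) y.2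
        rwa [show i + 1 + j + 1 = i + j + 1 + 1 by omega] at this)
  · rintro _ ⟨x, rfl⟩
    rw [SetLike.mem_coe, MonoidHom.mem_ker, map_pow]
    exact MonoidHom.ext fun y => pow_l_eq_one l _ _

/-- The pairing of two factors. -/
noncomputable def β (i j : ℕ) :
    V (G := G) l i →ₗ[ZMod l] V (G := G) l j →ₗ[ZMod l] V (G := G) l (i + j + 1) :=
  AddMonoidHom.toZModLinearMap l
    { toFun := fun a => AddMonoidHom.toZModLinearMap l
        (MonoidHom.toAdditive (QuotientGroup.lift _ (gCom l i j) (gCom_kill l i j) a.toMul))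
      map_zero' := LinearMap.ext fun v => by
        show Additive.ofMul (QuotientGroup.lift _ (gCom l i j) (gCom_kill l i j) 1 v.toMul) = 0
        rw [map_one]; rfl
      map_add' := fun a b => LinearMap.ext fun v => by
        show Additive.ofMul (QuotientGroup.lift _ (gCom l i j) (gCom_kill l i j)
          (a.toMul * b.toMul) v.toMul) = _
        rw [map_mul]; rfl }

/-- The bracket as a bilinear map. -/
noncomputable def brL : L G l →ₗ[ZMod l] L G l →ₗ[ZMod l] L G l :=
  DirectSum.toModule (ZMod l) ℕ _ fun i =>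
    (DirectSum.toModule (ZMod l) ℕ (V (G := G) l i →ₗ[ZMod l] L G l) fun j =>
      ((β l i j).compr₂ (DirectSum.lof (ZMod l) ℕ (fun k => V (G := G) l k) (i + j + 1))).flip).flip

theorem brL_ι {i j : ℕ} {x y : G} (hx : x ∈ γ i) (hy : y ∈ γ j) :
    brL l (ι l i x) (ι l j y) = ι l (i + j + 1) ⁅x, y⁆ := by
  rw [ι_of_mem l hx, ι_of_mem l hy, ι_of_mem l (comm_mem hx hy), brL, DirectSum.toModule_lof,
    LinearMap.flip_apply, DirectSum.toModule_lof]
  rfl

theorem induction_ι {P : L G l → Prop} (h0 : P 0) (hadd : ∀ a b, P a → P b → P (a + b))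
    (h : ∀ (k : ℕ) (x : G), x ∈ γ k → P (ι l k x)) (z : L G l) : P z := by
  induction z using DirectSum.induction_on with
  | zero => exact h0
  | add a b ha hb => exact hadd a b ha hb
  | of k v =>
    obtain ⟨⟨x, hx⟩, hxv⟩ := QuotientGroup.mk_surjective (Additive.toMul v)
    have := h k x hx
    rw [ι_of_mem l hx] at this
    rwa [show Additive.ofMul (cls l x hx) = v from congrArg Additive.ofMul hxv] at this

theorem brL_skew (a b : L G l) : brL l a b + brL l b a = 0 := by
  induction a using induction_ι with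
  | h0 => simp
  | hadd a a' ha ha' => simp only [map_add, LinearMap.add_apply]; rw [add_add_add_comm, ha, ha', add_zero]
  | h i x hx =>
    induction b using induction_ι with
    | h0 => simp
    | hadd b b' hb hb' => simp only [map_add, LinearMap.add_apply]; rw [add_add_add_comm, hb, hb', add_zero]
    | h j y hy =>
      rw [brL_ι l hx hy, brL_ι l hy hx, show j + i + 1 = i + j + 1 by omega,
        ← commutatorElement_inv x y, ι_inv l (comm_mem hx hy), add_neg_cancel]

theorem brL_self (a : L G l) : brL l a a = 0 := by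
  induction a using induction_ι with
  | h0 => simp
  | hadd a b ha hb =>
    simp only [map_add, LinearMap.add_apply, ha, hb, zero_add, add_zero]
    rw [add_comm]; exact brL_skew l a b
  | h k x hx => rw [brL_ι l hx hx, commutatorElement_self, ι_one]

theorem brL_jacobi (a b c : L G l) :
    brL l a (brL l b c) = brL l (brL l a b) c + brL l b (brL l a c) := by
  induction a using induction_ι with
  | h0 => simp
  | hadd a a' ha ha' => simp only [map_add, LinearMap.add_apply, ha, ha']; abel
  | h i x hx =>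
    induction b using induction_ι with
    | h0 => simp
    | hadd b b' hb hb' => simp only [map_add, LinearMap.add_apply, hb, hb']; abel
    | h j y hy =>
      induction c using induction_ι with
      | h0 => simp
      | hadd c c' hc hc' => simp only [map_add, hc, hc']; abel
      | h k z hz =>
        set n := i + j + k + 1 + 1 with hn
        have hxy := comm_mem hx hy
        have hxz := comm_mem hx hz
        have hyz := comm_mem hy hz
        rw [brL_ι l hy hz, brL_ι l hx hy, brL_ι l hx hz, brL_ι l hx hyz, brL_ι l hxy hz,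
          brL_ι l hy hxz, show i + (j + k + 1) + 1 = n by omega,
          show i + j + 1 + k + 1 = n by omega, show j + (i + k + 1) + 1 = n by omega]
        -- commutation with inverses, modulo the next term
        have hA : ∀ {s t : ℕ} {a b : G}, a ∈ γ s → b ∈ γ t →
            ι l (s + t + 1) ⁅a⁻¹, b⁆ = -ι l (s + t + 1) ⁅a, b⁆ := by
          intro s t a b ha hb
          rw [← brL_ι l ((γ s).inv_mem ha) hb, ι_inv l ha, map_neg, LinearMap.neg_apply,
            brL_ι l ha hb]
        have hB : ∀ {s t : ℕ} {a b : G}, a ∈ γ s → b ∈ γ t →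
            ι l (s + t + 1) ⁅a, b⁻¹⁆ = -ι l (s + t + 1) ⁅a, b⁆ := by
          intro s t a b ha hb
          rw [← brL_ι l ha ((γ t).inv_mem hb), ι_inv l hb, map_neg, brL_ι l ha hb]
        have hC : ∀ {s t : ℕ} {a b : G}, a ∈ γ s → b ∈ γ t →
            ι l (s + t + 1) ⁅b, a⁆ = -ι l (s + t + 1) ⁅a, b⁆ := by
          intro s t a b ha hb
          rw [← commutatorElement_inv a b, ι_inv l (comm_mem ha hb)]
        -- Hall and Witt
        have hid : ⁅⁅x, y⁆, z⁆ = x * ((y * ⁅x⁻¹, ⁅y⁻¹, z⁆⁆ * y⁻¹) *
            (z * ⁅y, ⁅z⁻¹, x⁻¹⁆⁆ * z⁻¹)) * x⁻¹ := by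
          simp only [commutatorElement_def]; group
        have hzi := (γ (G := G) k).inv_mem hz
        have hxi := (γ (G := G) i).inv_mem hx
        have hyi := (γ (G := G) j).inv_mem hy
        have h1 : ⁅y, ⁅z⁻¹, x⁻¹⁆⁆ ∈ γ n := by
          have := comm_mem hy (comm_mem hzi hxi)
          rwa [show j + (k + i + 1) + 1 = n by omega] at this
        have h2 : ⁅x⁻¹, ⁅y⁻¹, z⁆⁆ ∈ γ n := by
          have := comm_mem hxi (comm_mem hyi hz)
          rwa [show i + (j + k + 1) + 1 = n by omega] at this
        have hcj : y * ⁅x⁻¹, ⁅y⁻¹, z⁆⁆ * y⁻¹ ∈ γ n :=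
          (inferInstance : (γ (G := G) n).Normal).conj_mem _ h2 _
        have hcj' : z * ⁅y, ⁅z⁻¹, x⁻¹⁆⁆ * z⁻¹ ∈ γ n :=
          (inferInstance : (γ (G := G) n).Normal).conj_mem _ h1 _
        rw [hid, ι_conj l _ ((γ n).mul_mem hcj hcj'),
          ι_mul l hcj hcj', ι_conj l _ h2, ι_conj l _ h1]
        have e2 : ι l n ⁅y, ⁅z⁻¹, x⁻¹⁆⁆ = -ι l n ⁅y, ⁅x, z⁆⁆ := by
          have hzi' : ι l (k + i + 1) ⁅z⁻¹, x⁻¹⁆ = -ι l (k + i + 1) ⁅x, z⁆ := by
            rw [hB hzi hx, hA hz hx, neg_neg, show k + i + 1 = i + k + 1 by omega, hC hx hz]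
          rw [show n = j + (k + i + 1) + 1 by omega, ← brL_ι l hy (comm_mem hzi hxi), hzi',
            map_neg, show k + i + 1 = i + k + 1 by omega, brL_ι l hy hxz]
        have e3 : ι l n ⁅x⁻¹, ⁅y⁻¹, z⁆⁆ = ι l n ⁅x, ⁅y, z⁆⁆ := by
          rw [show n = i + (j + k + 1) + 1 by omega, ← brL_ι l hxi (comm_mem hyi hz), hA hy hz,
            ι_inv l hx, map_neg, map_neg, LinearMap.neg_apply, neg_neg, brL_ι l hx hyz]
        rw [e2, e3]
        abel

noncomputable instance instLieRing : LieRing (L G l) where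
  bracket a b := brL l a b
  add_lie a b c := by show brL l (a + b) c = _; rw [map_add]; rfl
  lie_add a b c := map_add (brL l a) b c
  lie_self a := brL_self l a
  leibniz_lie a b c := brL_jacobi l a b c

noncomputable instance instLieAlgebra : LieAlgebra (ZMod l) (L G l) where
  lie_smul r a b := map_smul (brL l a) r b

theorem lie_ι {i j : ℕ} {x y : G} (hx : x ∈ γ i) (hy : y ∈ γ j) :
    ⁅ι l i x, ι l j y⁆ = ι l (i + j + 1) ⁅x, y⁆ := brL_ι l hx hy

/-! ### The automorphism -/

theorem apply_mem_γ (α : MulAut G) {k : ℕ} {x : G} (hx : x ∈ γ k) : α x ∈ γ k :=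
  Subgroup.characteristic_iff_le_comap.mp (inferInstance : (γ (G := G) k).Characteristic) α hx

/-- The automorphism on a factor. -/
def tauHom (α : MulAut G) (k : ℕ) : γ (G := G) k ⧸ Dk l k →* γ (G := G) k ⧸ Dk l k :=
  QuotientGroup.lift _
    { toFun := fun x => cls l (α x) (apply_mem_γ α x.2)
      map_one' := by
        refine (QuotientGroup.eq_one_iff _).mpr ?_
        convert (Dk (G := G) l k).one_mem
        simp
      map_mul' := fun x y => by
        unfold cls
        rw [← QuotientGroup.mk_mul]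
        congr 1
        apply Subtype.ext
        simp }
    (by
      refine sup_le (fun x hx => ?_) ((Subgroup.closure_le _).mpr ?_)
      · rw [MonoidHom.mem_ker]
        exact cls_succ l (apply_mem_γ α (Subgroup.mem_subgroupOf.mp hx))
      · rintro _ ⟨x, rfl⟩
        rw [SetLike.mem_coe, MonoidHom.mem_ker, map_pow, pow_l_eq_one])

/-- The automorphism on the Lie algebra. -/
noncomputable def Tmap (α : MulAut G) : L G l →ₗ[ZMod l] L G l :=
  DirectSum.toModule (ZMod l) ℕ _ fun k =>
    (DirectSum.lof (ZMod l) ℕ (fun k => V (G := G) l k) k).comp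
      (AddMonoidHom.toZModLinearMap l (MonoidHom.toAdditive (tauHom l α k)))

theorem Tmap_ι (α : MulAut G) {k : ℕ} {x : G} (hx : x ∈ γ k) :
    Tmap l α (ι l k x) = ι l k (α x) := by
  rw [ι_of_mem l hx, ι_of_mem l (apply_mem_γ α hx), Tmap, DirectSum.toModule_lof]
  rfl

theorem Tmap_lie (α : MulAut G) (a b : L G l) : Tmap l α ⁅a, b⁆ = ⁅Tmap l α a, Tmap l α b⁆ := by
  induction a using induction_ι with
  | h0 => simp
  | hadd a a' ha ha' => simp only [add_lie, map_add, ha, ha']
  | h i x hx =>
    induction b using induction_ι with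
    | h0 => simp
    | hadd b b' hb hb' => simp only [lie_add, map_add, hb, hb']
    | h j y hy =>
      rw [Tmap_ι l α hx, Tmap_ι l α hy, lie_ι l hx hy, lie_ι l (apply_mem_γ α hx) (apply_mem_γ α hy),
        Tmap_ι l α (comm_mem hx hy), map_commutatorElement]

theorem Tmap_pow_ι (α : MulAut G) (i : ℕ) {k : ℕ} {x : G} (hx : x ∈ γ k) :
    ((Tmap l α) ^ i) (ι l k x) = ι l k ((α ^ i) x) := by
  induction i with
  | zero => rfl
  | succ i ih =>
    rw [pow_succ', Module.End.mul_apply, ih, Tmap_ι l α (apply_mem_γ (α ^ i) hx), pow_succ' α,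
      MulAut.mul_apply]

end H28.ALie

namespace H28.ALie

open scoped DirectSum TensorProduct commutatorElement

variable {G : Type u} [Group G] [Finite G]

theorem sum_Tmap_pow {l : ℕ} {α : MulAut G} {p : ℕ} (hα : α ^ p = 1) (hfpf : H28.FPF α)
    (a : L G l) : ∑ i ∈ Finset.range p, ((Tmap l α) ^ i) a = 0 := by
  induction a using induction_ι with
  | h0 => simp
  | hadd a b ha hb => simp only [map_add, Finset.sum_add_distrib, ha, hb, add_zero]
  | h k x hx =>
    obtain ⟨g, hg⟩ := (H28.fpf_bijective hfpf).2 x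
    have hgk : g ∈ γ k := H28.mem_of_inv_mul_apply_mem hfpf (fun y hy => apply_mem_γ α hy)
      (by rw [show g⁻¹ * α g = x from hg]; exact hx)
    have hstep : ∀ i : ℕ, ((Tmap l α) ^ i) (ι l k x) =
        ι l k ((α ^ (i + 1)) g) - ι l k ((α ^ i) g) := by
      intro i
      rw [Tmap_pow_ι l α i hx, ← show g⁻¹ * α g = x from hg, map_mul, map_inv,
        ι_mul l ((γ k).inv_mem (apply_mem_γ (α ^ i) hgk))
          (apply_mem_γ (α ^ i) (apply_mem_γ α hgk)),
        ι_inv l (apply_mem_γ (α ^ i) hgk), neg_add_eq_sub, pow_succ α i, MulAut.mul_apply]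
    rw [Finset.sum_congr rfl fun i _ => hstep i,
      Finset.sum_range_sub (fun i => ι l k ((α ^ i) g)), hα, pow_zero, sub_self]

section Eigen

variable {F : Type*} [Field F] {M : Type*} [LieRing M] [LieAlgebra F M] {p : ℕ} [hp : Fact p.Prime]

/-- The character attached to a root of unity. -/
def zeta (ω : F) (d : ZMod p) : F := ω ^ d.val

variable {ω : F} (hω : IsPrimitiveRoot ω p)

include hω in
theorem zeta_add (a b : ZMod p) : zeta ω (a + b) = zeta ω a * zeta ω b := by
  unfold zeta
  rw [← pow_add, ZMod.val_add, ← pow_eq_pow_mod _ hω.pow_eq_one]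

include hω in
theorem zeta_pow_p (a : ZMod p) : zeta ω a ^ p = 1 := by
  unfold zeta
  rw [← pow_mul, mul_comm, pow_mul, hω.pow_eq_one, one_pow]

theorem zeta_zero : zeta ω (0 : ZMod p) = 1 := by simp [zeta]

include hω in
theorem zeta_eq_one (a : ZMod p) (h : zeta ω a = 1) : a = 0 := by
  have h1 : p ∣ a.val := hω.dvd_of_pow_eq_one _ h
  have h2 := ZMod.val_lt a
  exact (ZMod.val_eq_zero a).mp (Nat.eq_zero_of_dvd_of_lt h1 h2)

include hω in
theorem geom_zero (a : ZMod p) (h : a ≠ 0) : ∑ i ∈ Finset.range p, zeta ω a ^ i = 0 := by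
  have h1 := mul_geom_sum (zeta ω a) p
  rw [zeta_pow_p hω, sub_self] at h1
  exact (mul_eq_zero.mp h1).resolve_left (sub_ne_zero.mpr fun e => h (zeta_eq_one hω a e))

include hω in
theorem sum_zeta_pow (i : ℕ) (hi : i < p) :
    ∑ d : ZMod p, zeta ω d ^ i = if i = 0 then (p : F) else 0 := by
  split_ifs with h
  · subst h; simp
  have hsh : ∑ d : ZMod p, zeta ω d ^ i = zeta ω (1 : ZMod p) ^ i * ∑ d : ZMod p, zeta ω d ^ i := by
    rw [Finset.mul_sum]
    conv_lhs => rw [← Equiv.sum_comp (Equiv.addLeft (1 : ZMod p))]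
    exact Finset.sum_congr rfl fun d _ => by rw [← mul_pow, ← zeta_add hω]; rfl
  have h1 : zeta ω (1 : ZMod p) ^ i ≠ 1 := by
    intro e
    have hval : (1 : ZMod p).val = 1 := by
      haveI : Fact (1 < p) := ⟨hp.out.one_lt⟩
      exact ZMod.val_one p
    unfold zeta at e
    rw [hval, pow_one] at e
    exact hω.pow_ne_one_of_pos_of_lt h hi e
  have h2 : (zeta ω (1 : ZMod p) ^ i - 1) * ∑ d : ZMod p, zeta ω d ^ i = 0 := by
    rw [sub_mul, one_mul, ← hsh, sub_self]
  exact (mul_eq_zero.mp h2).resolve_left (sub_ne_zero.mpr h1)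

include hω in
/-- The grading by eigenspaces of an automorphism of order `p` with trivial averaging. -/
theorem exists_grading (hpF : (p : F) ≠ 0) (T : M →ₗ[F] M) (hT : ∀ a b, T ⁅a, b⁆ = ⁅T a, T b⁆)
    (hsum : ∀ a, ∑ i ∈ Finset.range p, (T ^ i) a = 0) : Nonempty (GLie.Grading p M) := by
  have hTp : T ^ p = 1 := by
    have h : ∑ i ∈ Finset.range p, T ^ i = 0 := LinearMap.ext fun a => by
      rw [LinearMap.sum_apply]; exact hsum a
    have h1 := mul_geom_sum T p
    rw [h, mul_zero] at h1
    exact (sub_eq_zero.mp h1.symm)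
  let W : ZMod p → AddSubgroup M := fun d =>
    (LinearMap.ker (T - zeta ω d • (1 : M →ₗ[F] M))).toAddSubgroup
  have hW : ∀ d v, v ∈ W d ↔ T v = zeta ω d • v := fun d v => by
    simp [W, sub_eq_zero]
  have hWpow : ∀ d v, v ∈ W d → ∀ i : ℕ, (T ^ i) v = zeta ω d ^ i • v := by
    intro d v hv i
    induction i with
    | zero => simp
    | succ i ih =>
      rw [pow_succ' T, Module.End.mul_apply, ih, map_smul, (hW d v).mp hv, smul_smul, ← pow_succ]
  let proj : ZMod p → M →+ M := fun d =>
    ((p : F)⁻¹ • ∑ i ∈ Finset.range p, zeta ω (-d) ^ i • T ^ i : M →ₗ[F] M).toAddMonoidHom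
  have hproj : ∀ d v, proj d v = (p : F)⁻¹ • ∑ i ∈ Finset.range p, zeta ω (-d) ^ i • (T ^ i) v :=
    fun d v => by simp [proj, LinearMap.sum_apply]
  have hpW : ∀ d v, proj d v ∈ W d := by
    intro d v
    rw [hW, hproj, map_smul, map_sum, smul_comm]
    congr 1
    set f : ℕ → M := fun i => zeta ω (-d) ^ i • (T ^ i) v
    have hshift : ∑ i ∈ Finset.range p, f (i + 1) = ∑ i ∈ Finset.range p, f i := by
      have h1 := Finset.sum_range_succ' f p
      rw [Finset.sum_range_succ, show f p = f 0 by
        simp [f, hTp, zeta_pow_p hω]] at h1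
      exact (add_right_cancel h1).symm
    rw [← hshift, Finset.smul_sum]
    refine Finset.sum_congr rfl fun i _ => ?_
    show T (zeta ω (-d) ^ i • (T ^ i) v) = zeta ω d • (zeta ω (-d) ^ (i + 1) • (T ^ (i + 1)) v)
    rw [map_smul, smul_smul, pow_succ' T, Module.End.mul_apply, pow_succ, mul_left_comm,
      ← zeta_add hω, add_neg_cancel, zeta_zero, mul_one]
  refine ⟨{ W := W, proj := proj, lie_mem := ?_, zero_bot := ?_, proj_same := ?_, proj_ne := ?_,
            mem_top := ?_ }⟩
  · intro a b x hx y hy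
    rw [hW] at hx hy ⊢
    rw [hT, hx, hy, smul_lie, lie_smul, smul_smul, zeta_add hω]
  · rw [eq_bot_iff]
    intro v hv
    have h := hsum v
    rw [Finset.sum_congr rfl fun i _ => hWpow 0 v hv i] at h
    simp only [zeta_zero, one_pow, one_smul, Finset.sum_const, Finset.card_range] at h
    rw [← Nat.cast_smul_eq_nsmul F] at h
    exact (smul_eq_zero.mp h).resolve_left hpF
  · intro a v hv
    rw [hproj, Finset.sum_congr rfl fun i _ => by
      rw [hWpow a v hv i, smul_smul, ← mul_pow, ← zeta_add hω, neg_add_cancel, zeta_zero, one_pow,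
        one_smul]]
    rw [Finset.sum_const, Finset.card_range, ← Nat.cast_smul_eq_nsmul F, smul_smul,
      inv_mul_cancel₀ hpF, one_smul]
  · intro a b hab v hv
    rw [hproj, Finset.sum_congr rfl fun i _ => by
      rw [hWpow b v hv i, smul_smul, ← mul_pow, ← zeta_add hω]]
    rw [← Finset.sum_smul, geom_zero hω _ (fun e => hab (neg_add_eq_zero.mp e)), zero_smul,
      smul_zero]
  · intro v
    have h : ∑ d : ZMod p, proj d v = v := by
      simp only [hproj, ← Finset.smul_sum]
      rw [Finset.sum_comm]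
      simp only [← Finset.sum_smul]
      rw [Finset.sum_congr rfl fun i hi => by
        rw [show ∑ d : ZMod p, zeta ω (-d) ^ i = ∑ d : ZMod p, zeta ω d ^ i from
          Equiv.sum_comp (Equiv.neg (ZMod p)) (fun d => zeta ω d ^ i),
          sum_zeta_pow hω i (Finset.mem_range.mp hi)]]
      simp only [ite_smul, zero_smul, Finset.sum_ite_eq', Finset.mem_range, hp.out.pos, if_true,
        pow_zero, Module.End.one_apply, smul_smul, inv_mul_cancel₀ hpF, one_smul]
    rw [← h]
    exact sum_mem fun d _ => AddSubgroup.subset_closure ⟨d, hpW d v⟩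

end Eigen

/-- A Lie theorem giving a class bound. -/
theorem lowerCentralSeries_eq_bot_of_bound [Group.IsNilpotent G] {p : ℕ} [Fact p.Prime]
    (α : MulAut G) (hα : α ^ p = 1) (hord : α ≠ 1) (hfpf : H28.FPF α) (N : ℕ)
    (hN : ∀ (M : Type u) [LieRing M], GLie.Grading p M → (GLie.C N : AddSubgroup M) = ⊥) :
    γ (G := G) N = ⊥ := by
  classical
  by_contra hne
  have hp := (Fact.out : p.Prime)
  -- a prime for the factor
  have hlt : γ (G := G) (N + 1) ≠ γ N := by
    intro he
    obtain ⟨m, hm⟩ := Subgroup.nilpotent_iff_lowerCentralSeries.mp ‹Group.IsNilpotent G›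
    have hall : ∀ j, γ (G := G) (N + j) = γ N := by
      intro j
      induction j with
      | zero => rfl
      | succ j ih =>
        rw [← add_assoc, γ_succ, ih, ← γ_succ, he]
    refine hne (le_bot_iff.mp ?_)
    rw [← hall m, ← hm]
    exact γ_le (Nat.le_add_left m N)
  set Kq := (γ (G := G) (N + 1)).subgroupOf (γ N) with hKq
  haveI : Kq.Normal := by rw [hKq]; infer_instance
  haveI : Nontrivial (γ (G := G) N ⧸ Kq) := by
    rw [QuotientGroup.nontrivial_iff, ne_eq, Subgroup.subgroupOf_eq_top]
    exact fun h => hlt (le_antisymm (γ_le (Nat.le_succ N)) h)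
  obtain ⟨l, hl, hld⟩ := Nat.exists_prime_and_dvd (Finite.one_lt_card (α := γ (G := G) N ⧸ Kq)).ne'
  haveI := Fact.mk hl
  have hlp : l ≠ p := by
    intro he
    have hdG : l ∣ Nat.card G :=
      hld.trans ((Subgroup.card_quotient_dvd_card _).trans (Subgroup.card_subgroup_dvd_card _))
    obtain ⟨g, hg⟩ := exists_prime_orderOf_dvd_card' (G := G) l hdG
    have hcop : p ∣ Nat.card G - 1 := by
      letI : MulAction (Subgroup.zpowers α) G := inferInstance
      have hP : IsPGroup p (Subgroup.zpowers α) :=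
        IsPGroup.of_card (n := 1) (by rw [Nat.card_zpowers, orderOf_eq_prime hα hord, pow_one])
      have hfix : MulAction.fixedPoints (Subgroup.zpowers α) G = {1} := by
        ext y
        simp only [MulAction.mem_fixedPoints, Set.mem_singleton_iff]
        refine ⟨fun hy => hfpf y (hy ⟨α, Subgroup.mem_zpowers α⟩), fun hy s => ?_⟩
        subst hy
        exact map_one (s : MulAut G)
      have h1 := hP.card_modEq_card_fixedPoints G
      rw [hfix, Nat.card_coe_set_eq, Set.ncard_singleton] at h1
      exact (Nat.modEq_iff_dvd' Nat.card_pos).mp h1.symm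
    rw [he] at hdG
    have h1 := Nat.dvd_sub hdG hcop
    rw [Nat.sub_sub_self Nat.card_pos] at h1
    exact hp.ne_one (Nat.eq_one_of_dvd_one h1)
  -- an element surviving in the factor
  obtain ⟨x, hx, hx1⟩ : ∃ x : G, ∃ h : x ∈ γ N, cls l x h ≠ 1 := by
    by_contra hall
    push Not at hall
    obtain ⟨c, hc⟩ := exists_prime_orderOf_dvd_card' (G := γ (G := G) N ⧸ Kq) l hld
    have hcomm : ∀ a b : γ (G := G) N ⧸ Kq, a * b = b * a := by
      intro a b
      induction a using QuotientGroup.induction_on with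
      | H a =>
        induction b using QuotientGroup.induction_on with
        | H b =>
          rw [← QuotientGroup.mk_mul, ← QuotientGroup.mk_mul, QuotientGroup.eq,
            show (a * b)⁻¹ * (b * a) = ⁅b⁻¹, a⁻¹⁆ by rw [commutatorElement_def]; group]
          exact Subgroup.mem_subgroupOf.mpr (by
            have := comm_mem_succ (k := N) (b⁻¹).2 ((a⁻¹ : γ (G := G) N) : G)
            simpa [commutatorElement_def] using this)
    let pw : (γ (G := G) N ⧸ Kq) →* (γ (G := G) N ⧸ Kq) :=
      { toFun := fun a => a ^ l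
        map_one' := one_pow l
        map_mul' := fun a b => Commute.mul_pow (hcomm a b) l }
    have hsurj : Function.Surjective pw := by
      intro a
      obtain ⟨⟨y, hy⟩, rfl⟩ := QuotientGroup.mk_surjective a
      have hmem : (⟨y, hy⟩ : γ (G := G) N) ∈ Dk l N := (QuotientGroup.eq_one_iff _).mp (hall y hy)
      have hle : (Dk (G := G) l N).map (QuotientGroup.mk' Kq) ≤ pw.range := by
        rw [Dk, Subgroup.map_sup, sup_le_iff]
        constructor
        · rintro _ ⟨z, hz, rfl⟩
          rw [QuotientGroup.mk'_apply, (QuotientGroup.eq_one_iff z).mpr hz]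
          exact one_mem _
        · rw [Subgroup.map_le_iff_le_comap, Subgroup.closure_le]
          rintro _ ⟨z, rfl⟩
          exact ⟨QuotientGroup.mk z, (QuotientGroup.mk_pow Kq z l).symm⟩
      exact hle ⟨_, hmem, rfl⟩
    have hinj := (Finite.injective_iff_surjective.mpr hsurj)
    have hc1 : c = 1 := hinj (show c ^ l = 1 ^ l by rw [one_pow, ← hc, pow_orderOf_eq_one])
    rw [hc1, orderOf_one] at hc
    exact hl.ne_one hc.symm
  -- scalars
  haveI : CharP (AlgebraicClosure (ZMod l)) l :=
    charP_of_injective_algebraMap (algebraMap (ZMod l) (AlgebraicClosure (ZMod l))).injective l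
  have hpF : ((p : ℕ) : AlgebraicClosure (ZMod l)) ≠ 0 := fun h =>
    hlp ((Nat.prime_dvd_prime_iff_eq hl hp).mp ((CharP.cast_eq_zero_iff _ l p).mp h))
  haveI : NeZero ((p : ℕ) : AlgebraicClosure (ZMod l)) := ⟨hpF⟩
  obtain ⟨ω, hω⟩ := IsAlgClosed.exists_root (Polynomial.cyclotomic p (AlgebraicClosure (ZMod l)))
    (by rw [Polynomial.degree_cyclotomic]; exact_mod_cast (Nat.totient_pos.mpr hp.pos).ne')
  rw [Polynomial.isRoot_cyclotomic_iff] at hω
  let T' := (Tmap l α).baseChange (AlgebraicClosure (ZMod l))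
  have hT' : ∀ a b, T' ⁅a, b⁆ = ⁅T' a, T' b⁆ := by
    intro a b
    induction a using TensorProduct.induction_on with
    | zero =>
      rw [map_zero]
      exact (congrArg T' (zero_lie b)).trans ((map_zero T').trans (zero_lie (T' b)).symm)
    | add a a' ha ha' =>
      rw [map_add]
      exact ((congrArg T' (add_lie a a' b)).trans ((map_add T' _ _).trans
        (congrArg₂ (· + ·) ha ha'))).trans (add_lie (T' a) (T' a') (T' b)).symm
    | tmul s a =>
      induction b using TensorProduct.induction_on with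
      | zero =>
        rw [map_zero]
        exact (congrArg T' (lie_zero (s ⊗ₜ[ZMod l] a))).trans
          ((map_zero T').trans (lie_zero (T' (s ⊗ₜ[ZMod l] a))).symm)
      | add b b' hb hb' =>
        rw [map_add]
        exact ((congrArg T' (lie_add (s ⊗ₜ[ZMod l] a) b b')).trans ((map_add T' _ _).trans
          (congrArg₂ (· + ·) hb hb'))).trans (lie_add (T' (s ⊗ₜ[ZMod l] a)) (T' b) (T' b')).symm
      | tmul t b =>
        simp only [T', LieAlgebra.ExtendScalars.bracket_tmul, LinearMap.baseChange_tmul,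
          Tmap_lie]
  have hpow : ∀ (i : ℕ) (s : AlgebraicClosure (ZMod l)) (a : L G l),
      (T' ^ i) (s ⊗ₜ[ZMod l] a) = s ⊗ₜ[ZMod l] (((Tmap l α) ^ i) a) := by
    intro i s a
    induction i with
    | zero => rfl
    | succ i ih =>
      rw [pow_succ' T', Module.End.mul_apply, ih, pow_succ' (Tmap l α), Module.End.mul_apply]
      rfl
  have hsum : ∀ a, ∑ i ∈ Finset.range p, (T' ^ i) a = 0 := by
    intro a
    induction a using TensorProduct.induction_on with
    | zero => simp
    | add a a' ha ha' => simp only [map_add, Finset.sum_add_distrib, ha, ha', add_zero]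
    | tmul s a =>
      rw [Finset.sum_congr rfl fun i _ => hpow i s a, ← TensorProduct.tmul_sum,
        sum_Tmap_pow hα hfpf, TensorProduct.tmul_zero]
  obtain ⟨Γ⟩ := exists_grading hω hpF T' hT' hsum
  have hbot := hN _ Γ
  -- the lower central series lands in the series of the Lie ring
  have hC : ∀ (k : ℕ) (g : G), g ∈ γ k →
      ((1 : AlgebraicClosure (ZMod l)) ⊗ₜ[ZMod l] ι l k g) ∈
        (GLie.C k : AddSubgroup (AlgebraicClosure (ZMod l) ⊗[ZMod l] L G l)) := by
    intro k
    induction k with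
    | zero => intro g _; exact AddSubgroup.mem_top _
    | succ k ih =>
      intro g hg
      rw [γ_succ, Subgroup.commutator_def] at hg
      have hgen : ∀ y ∈ {z : G | ∃ a ∈ γ (G := G) k, ∃ b ∈ (⊤ : Subgroup G), ⁅a, b⁆ = z},
          y ∈ γ (G := G) (k + 1) := by
        rintro _ ⟨a, ha, b, -, rfl⟩
        exact comm_mem_succ ha b
      have hcl : ∀ y ∈ Subgroup.closure
          {z : G | ∃ a ∈ γ (G := G) k, ∃ b ∈ (⊤ : Subgroup G), ⁅a, b⁆ = z}, y ∈ γ (G := G) (k + 1) :=
        fun y hy => (Subgroup.closure_le _).mpr hgen hy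
      induction hg using Subgroup.closure_induction with
      | mem y hy =>
        obtain ⟨a, ha, b, -, rfl⟩ := hy
        have hb : b ∈ γ (G := G) 0 := by
          show b ∈ (⊤ : Subgroup G).lowerCentralSeries 0
          rw [Subgroup.lowerCentralSeries_zero]; exact Subgroup.mem_top b
        rw [show ι l (k + 1) ⁅a, b⁆ = ⁅ι l k a, ι l 0 b⁆ from (lie_ι l ha hb).symm,
          ← one_mul (1 : AlgebraicClosure (ZMod l)), ← LieAlgebra.ExtendScalars.bracket_tmul]
        exact GLie.lie_mem_br (ih a ha) (AddSubgroup.mem_top _)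
      | one => rw [ι_one, TensorProduct.tmul_zero]; exact zero_mem _
      | mul a b ha hb iha ihb =>
        rw [ι_mul l (hcl a ha) (hcl b hb), TensorProduct.tmul_add]
        exact add_mem iha ihb
      | inv a ha iha =>
        rw [ι_inv l (hcl a ha), TensorProduct.tmul_neg]
        exact neg_mem iha
  have h0 := hC N x hx
  rw [hbot, AddSubgroup.mem_bot] at h0
  obtain ⟨φ, hφ⟩ := LinearMap.exists_leftInverse_of_injective
    (Algebra.linearMap (ZMod l) (AlgebraicClosure (ZMod l)))
    (LinearMap.ker_eq_bot.mpr (algebraMap (ZMod l) (AlgebraicClosure (ZMod l))).injective)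
  have h1 := congrArg (fun z => TensorProduct.lid (ZMod l) (L G l) (LinearMap.rTensor (L G l) φ z)) h0
  simp only [LinearMap.rTensor_tmul, TensorProduct.lid_tmul, map_zero] at h1
  have hφ1 : φ 1 = 1 := by
    have := LinearMap.congr_fun hφ 1
    simpa using this
  rw [hφ1, one_smul, ι_of_mem l hx, ← map_zero (DirectSum.lof (ZMod l) ℕ (fun k => V (G := G) l k) N)]
    at h1
  exact hx1 (congrArg Additive.toMul (DirectSum.of_injective N h1))

end H28.ALie
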