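import Mathlib.GroupTheory.OrderOfElement
import Mathlib.GroupTheory.Perm.Cycle.Type
import Mathlib.GroupTheory.Subgroup.Centralizer
import Mathlib.Order.Preorder.Finite

/-!
The commuting graph determines which products of two primes occur as element orders.
-/

set_option autoImplicit false

namespace H28

theorem exists_orderOf_pq_of_commuting {G H : Type*} [Group G] [Finite G] [Group H] [Finite H]
    (e : G ≃ H) (he : ∀ x y : G, Commute x y ↔ Commute (e x) (e y))
    {p q : ℕ} (hp : p.Prime) (hq : q.Prime) (hpq : p ≠ q)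
    (hg : ∃ g : G, orderOf g = p * q) : ∃ h : H, orderOf h = p * q := by
  obtain ⟨g, hg⟩ := hg
  have hz : ∀ x ∈ (Subgroup.zpowers g : Set G), ∀ y ∈ (Subgroup.zpowers g : Set G), Commute x y := by
    rintro x ⟨i, rfl⟩ y ⟨j, rfl⟩
    exact Commute.zpow_zpow_self g i j
  obtain ⟨S, hS, hmax⟩ := Finite.exists_le_maximal
    (p := fun S : Set G => ∀ x ∈ S, ∀ y ∈ S, Commute x y) hz
  have hcl : ∀ x : G, x ∈ S ↔ ∀ y ∈ S, Commute x y := by
    intro x
    refine ⟨fun hx y hy => hmax.1 x hx y hy, fun hx => ?_⟩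
    have h' : ∀ a ∈ insert x S, ∀ b ∈ insert x S, Commute a b := by
      intro a ha b hb
      rcases ha with rfl | ha <;> rcases hb with rfl | hb
      · exact Commute.refl _
      · exact hx b hb
      · exact (hx a ha).symm
      · exact hmax.1 a ha b hb
    exact hmax.2 h' (Set.subset_insert x S) (Set.mem_insert x S)
  have hSc : (Subgroup.centralizer S : Set G) = S := by
    ext x
    rw [SetLike.mem_coe, Subgroup.mem_centralizer_iff, hcl x]
    exact ⟨fun h y hy => (h y hy).symm, fun h y hy => (h y hy).symm⟩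
  have hTc : (Subgroup.centralizer (e '' S) : Set H) = e '' S := by
    ext h
    rw [SetLike.mem_coe, Subgroup.mem_centralizer_iff]
    constructor
    · intro hh
      refine ⟨e.symm h, (hcl _).mpr fun y hy => ?_, e.apply_symm_apply h⟩
      rw [he, e.apply_symm_apply]
      exact (hh (e y) ⟨y, hy, rfl⟩).symm
    · rintro ⟨x, hx, rfl⟩ _ ⟨y, hy, rfl⟩
      exact ((he y x).mp (hmax.1 y hy x hx))
  have hcard : Nat.card (Subgroup.centralizer (e '' S)) = Nat.card (Subgroup.centralizer S) := by
    change Nat.card ((Subgroup.centralizer (e '' S) : Set H)) = Nat.card ((Subgroup.centralizer S : Set G))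
    rw [hTc, hSc, Nat.card_image_of_injective e.injective]
  have hgS : g ∈ Subgroup.centralizer S := by
    rw [← SetLike.mem_coe, hSc]; exact hS (Subgroup.mem_zpowers g)
  have hdiv : p * q ∣ Nat.card (Subgroup.centralizer (e '' S)) := by
    rw [hcard, ← hg, ← Subgroup.orderOf_mk g hgS]
    exact orderOf_dvd_natCard _
  have hcomm : ∀ a b : Subgroup.centralizer (e '' S), Commute a b := by
    rintro ⟨a, ha⟩ ⟨b, hb⟩
    have hb' : b ∈ e '' S := by rw [← hTc]; exact hb
    exact Subtype.ext ((Subgroup.mem_centralizer_iff.mp ha b hb').symm)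
  have := Fact.mk hp
  have := Fact.mk hq
  obtain ⟨a, ha⟩ := exists_prime_orderOf_dvd_card' p (dvd_trans (dvd_mul_right p q) hdiv)
  obtain ⟨b, hb⟩ := exists_prime_orderOf_dvd_card' q (dvd_trans (dvd_mul_left q p) hdiv)
  refine ⟨((a * b : Subgroup.centralizer (e '' S)) : H), ?_⟩
  rw [Subgroup.orderOf_coe, (hcomm a b).orderOf_mul_eq_mul_orderOf_of_coprime, ha, hb]
  rw [ha, hb]
  exact (Nat.coprime_primes hp hq).mpr hpq

end H28
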