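import Mathlib.RingTheory.Polynomial.Cyclotomic.Factorization
import Mathlib.RingTheory.AdjoinRoot
import Mathlib.LinearAlgebra.Dimension.Free
import Mathlib.FieldTheory.Finite.Basic

/-!
A fixed-point-free operator of prime order `q` on an elementary abelian `p`-group when `p` is a
primitive root modulo `q`: its centraliser is transitive, and it is conjugate to all of its
powers.
-/

set_option autoImplicit false
set_option linter.style.haveILetI false

namespace H28.CycVec

open Polynomial

variable {p q : ℕ} [Fact p.Prime] [Fact q.Prime]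

theorem irreducible_cyc (hpq : p ≠ q) (hord : orderOf (p : ZMod q) = q - 1) :
    Irreducible (cyclotomic q (ZMod p)) := by
  have hn : ¬ p ∣ q := fun h =>
    hpq ((Nat.prime_dvd_prime_iff_eq Fact.out Fact.out).mp h)
  refine ZMod.irreducible_of_dvd_cyclotomic_of_natDegree hn dvd_rfl ?_
  rw [natDegree_cyclotomic, Nat.totient_prime Fact.out, ← hord, ← orderOf_units]
  rfl

variable {V : Type*} [AddCommGroup V] [Module (ZMod p) V]

theorem aeval_cyc_eq_zero (X₀ : Module.End (ZMod p) V) (hX : X₀ ^ q = 1)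
    (hfix : ∀ v, X₀ v = v → v = 0) : aeval X₀ (cyclotomic q (ZMod p)) = 0 := by
  rw [cyclotomic_prime, map_sum]
  simp only [map_pow, aeval_X]
  refine LinearMap.ext fun v => ?_
  rw [LinearMap.zero_apply]
  refine hfix _ ?_
  have h := mul_geom_sum X₀ q
  rw [hX, sub_self] at h
  have h2 := LinearMap.congr_fun h v
  simpa [sub_mul, sub_eq_zero] using h2

section Field

variable (p q) (hirr : Irreducible (cyclotomic q (ZMod p)))

/-- The field of the `q`-th roots of unity. -/
abbrev K : Type := AdjoinRoot (cyclotomic q (ZMod p))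

theorem root_pow (hi : ∀ x : K p q, (x - 1) * (∑ j ∈ Finset.range q, x ^ j) = x ^ q - 1) :
    (AdjoinRoot.root (cyclotomic q (ZMod p))) ^ q = 1 := by
  have h := hi (AdjoinRoot.root _)
  have h2 : (∑ j ∈ Finset.range q, (AdjoinRoot.root (cyclotomic q (ZMod p))) ^ j) = 0 := by
    have h3 := AdjoinRoot.eval₂_root (cyclotomic q (ZMod p))
    simpa [cyclotomic_prime, eval₂_finsetSum] using h3
  rw [h2, mul_zero] at h
  exact (sub_eq_zero.mp h.symm)

end Field

theorem exists_equiv (hpq : p ≠ q) (hord : orderOf (p : ZMod q) = q - 1) [Finite V]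
    (X₀ : Module.End (ZMod p) V) (hX : X₀ ^ q = 1) (hfix : ∀ v, X₀ v = v → v = 0) :
    (∀ v w : V, v ≠ 0 → w ≠ 0 → ∃ T : V ≃+ V, (∀ u, T (X₀ u) = X₀ (T u)) ∧ T v = w) ∧
      ∀ i : ℕ, ¬ q ∣ i → ∃ T : V ≃+ V, ∀ u, T (X₀ u) = (X₀ ^ i) (T u) := by
  classical
  set Φ := cyclotomic q (ZMod p) with hΦ
  haveI : Fact (Irreducible Φ) := ⟨irreducible_cyc hpq hord⟩
  haveI := (cyclotomic.monic q (ZMod p)).finite_adjoinRoot
  haveI : Finite (AdjoinRoot Φ) := Module.finite_of_finite (ZMod p)
  let φ : AdjoinRoot Φ →ₐ[ZMod p] Module.End (ZMod p) V :=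
    Ideal.Quotient.liftₐ (Ideal.span {Φ}) (aeval X₀) fun a ha => by
      obtain ⟨b, rfl⟩ := Ideal.mem_span_singleton'.mp ha
      rw [map_mul, hΦ, aeval_cyc_eq_zero X₀ hX hfix, mul_zero]
  have hφroot : φ (AdjoinRoot.root Φ) = X₀ := by
    show aeval X₀ Polynomial.X = X₀
    simp
  letI : Module (AdjoinRoot Φ) V := Module.compHom V (φ : AdjoinRoot Φ →+* Module.End (ZMod p) V)
  have hsmul : ∀ (k : AdjoinRoot Φ) (v : V), k • v = φ k v := fun k v => rfl
  haveI : Module.Finite (AdjoinRoot Φ) V := Module.Finite.of_finite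
  constructor
  · intro v w hv hw
    obtain ⟨C, hC⟩ := Submodule.exists_isCompl (Submodule.span (AdjoinRoot Φ) {v})
    obtain ⟨C', hC'⟩ := Submodule.exists_isCompl (Submodule.span (AdjoinRoot Φ) {w})
    have hr : Module.finrank (AdjoinRoot Φ) C = Module.finrank (AdjoinRoot Φ) C' := by
      have h1 := Submodule.finrank_add_eq_of_isCompl hC
      have h2 := Submodule.finrank_add_eq_of_isCompl hC'
      rw [finrank_span_singleton hv] at h1
      rw [finrank_span_singleton hw] at h2
      omega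
    let f₁ : Submodule.span (AdjoinRoot Φ) {v} ≃ₗ[AdjoinRoot Φ]
        Submodule.span (AdjoinRoot Φ) {w} :=
      (LinearEquiv.toSpanNonzeroSingleton (AdjoinRoot Φ) V v hv).symm.trans
        (LinearEquiv.toSpanNonzeroSingleton (AdjoinRoot Φ) V w hw)
    let T : V ≃ₗ[AdjoinRoot Φ] V := (Submodule.prodEquivOfIsCompl _ _ hC).symm.trans
      ((f₁.prodCongr (LinearEquiv.ofFinrankEq C C' hr)).trans
        (Submodule.prodEquivOfIsCompl _ _ hC'))
    refine ⟨T.toAddEquiv, fun u => ?_, ?_⟩
    · have h := T.map_smul (AdjoinRoot.root Φ) u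
      rwa [hsmul, hsmul, hφroot] at h
    · show T v = w
      have h1 : (Submodule.prodEquivOfIsCompl _ _ hC).symm v =
          (⟨v, Submodule.mem_span_singleton_self v⟩, 0) :=
        Submodule.prodEquivOfIsCompl_symm_apply_left _ _ hC
          ⟨v, Submodule.mem_span_singleton_self v⟩
      simp only [T, LinearEquiv.trans_apply, h1, LinearEquiv.prodCongr_apply, map_zero,
        Submodule.coe_prodEquivOfIsCompl', ZeroMemClass.coe_zero, add_zero]
      simp [f₁]
      rw [show (LinearEquiv.toSpanNonzeroSingleton (AdjoinRoot Φ) V v hv).symm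
          ⟨v, Submodule.mem_span_singleton_self v⟩ = 1 from
        (LinearEquiv.symm_apply_eq _).mpr (Subtype.ext (show v = (1 : AdjoinRoot Φ) • v from (one_smul _ v).symm)), one_smul]
  · intro i hi
    set ζ := AdjoinRoot.root Φ with hζ
    have hζq : ζ ^ q = 1 := root_pow p q fun x => mul_geom_sum x q
    have hev : ∀ (g : ZMod p →+* AdjoinRoot Φ) (x : AdjoinRoot Φ),
        eval₂ g x Φ = ∑ j ∈ Finset.range q, x ^ j := fun g x => by
      conv_lhs => arg 3; rw [hΦ, cyclotomic_prime]
      simp [eval₂_finsetSum]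
    have hζ1 : ζ ≠ 1 := by
      intro h
      have h3 := AdjoinRoot.eval₂_root Φ
      rw [← hζ, hev, h] at h3
      simp only [one_pow, Finset.sum_const, Finset.card_range, nsmul_eq_mul, mul_one] at h3
      rw [← map_natCast (algebraMap (ZMod p) (AdjoinRoot Φ)), ← map_zero (algebraMap (ZMod p)
        (AdjoinRoot Φ))] at h3
      have h4 := (algebraMap (ZMod p) (AdjoinRoot Φ)).injective h3
      rw [ZMod.natCast_eq_zero_iff] at h4
      exact hpq ((Nat.prime_dvd_prime_iff_eq Fact.out Fact.out).mp h4)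
    have hζi : ζ ^ i ≠ 1 := by
      intro h
      have h1 : orderOf ζ = q := orderOf_eq_prime hζq hζ1
      exact hi (h1 ▸ orderOf_dvd_of_pow_eq_one h)
    have hroot : eval₂ (algebraMap (ZMod p) (AdjoinRoot Φ)) (ζ ^ i) Φ = 0 := by
      rw [hev]
      have h := mul_geom_sum (ζ ^ i) q
      rw [← pow_mul, mul_comm i q, pow_mul, hζq, one_pow, sub_self] at h
      exact (mul_eq_zero.mp h).resolve_left (sub_ne_zero.mpr hζi)
    let σ : AdjoinRoot Φ →+* AdjoinRoot Φ :=
      AdjoinRoot.lift (algebraMap (ZMod p) (AdjoinRoot Φ)) (ζ ^ i) hroot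
    have hσ : Function.Bijective σ :=
      ⟨σ.injective, Finite.injective_iff_surjective.mp σ.injective⟩
    let b := Module.finBasis (AdjoinRoot Φ) V
    let S : (Fin (Module.finrank (AdjoinRoot Φ) V) → AdjoinRoot Φ) ≃+
        (Fin (Module.finrank (AdjoinRoot Φ) V) → AdjoinRoot Φ) :=
      AddEquiv.piCongrRight fun _ => (RingEquiv.ofBijective σ hσ).toAddEquiv
    refine ⟨(b.equivFun.toAddEquiv.trans S).trans b.equivFun.symm.toAddEquiv, fun u => ?_⟩
    show b.equivFun.symm (S (b.equivFun (X₀ u))) = (X₀ ^ i) (b.equivFun.symm (S (b.equivFun u)))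
    rw [← hφroot, ← map_pow, ← hsmul, ← hsmul, map_smul, ← map_smul b.equivFun.symm]
    congr 1
    funext k
    show σ (ζ * b.equivFun u k) = ζ ^ i * σ (b.equivFun u k)
    rw [map_mul]
    congr 1
    exact AdjoinRoot.lift_root hroot

end H28.CycVec
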