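import Cfsg.Agent.H28.FCBasic

/-!
Finite subgroups of multiplicative groups of division rings satisfy the criterion, and SL(2,3)
acts fixed-point-freely on `(ZMod 5)^2`.
-/

set_option autoImplicit false
set_option linter.style.haveILetI false

namespace H28

theorem fcInt_of_units {G : Type*} [Group G] [Finite G] {D : Type*} [DivisionRing D] (φ : G →* Dˣ)
    (hφ : Function.Injective φ) : FCInt G := by
  let ρ : G →* AddMonoid.End D :=
    { toFun := fun g => AddMonoidHom.mulLeft ((φ g : Dˣ) : D)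
      map_one' := AddMonoidHom.ext fun x => by
        change ((φ 1 : Dˣ) : D) * x = x
        simp
      map_mul' := fun a b => AddMonoidHom.ext fun x => by
        change ((φ (a * b) : Dˣ) : D) * x = (φ a : D) * ((φ b : D) * x)
        simp [mul_assoc] }
  have hfree : ∀ g : G, g ≠ 1 → ∀ v : D, ρ g v = v → v = 0 := by
    intro g hg v hv
    change ((φ g : Dˣ) : D) * v = v at hv
    by_contra hv0
    apply hg
    apply hφ
    rw [map_one]
    exact Units.ext (mul_right_cancel₀ hv0 (hv.trans (one_mul v).symm))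
  obtain ⟨p, hp⟩ := CharP.exists D
  rcases CharP.char_is_prime_or_zero D p with hpp | rfl
  · haveI := Fact.mk hpp
    letI : Algebra (ZMod p) D := ZMod.algebra D p
    obtain ⟨f, hf1, hf⟩ := exists_sol_of_action (ZMod p) ρ hfree
    refine fcInt_of_sol_charP ?_ hf1 hf
    intro hd
    obtain ⟨x, hx⟩ := exists_prime_orderOf_dvd_card' p hd
    have hx1 : ((φ x : Dˣ) : D) ^ p = 1 := by
      rw [← Units.val_pow_eq_pow_val, ← map_pow, ← hx, pow_orderOf_eq_one, map_one, Units.val_one]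
    have h1 : (((φ x : Dˣ) : D) - 1) ^ p = 0 := by
      rw [sub_pow_char_of_commute _ (Commute.one_right _), hx1, one_pow, sub_self]
    have h2 : φ x = φ 1 := by
      rw [map_one]
      exact Units.ext (sub_eq_zero.mp (eq_zero_of_pow_eq_zero h1))
    rw [hφ h2, orderOf_one] at hx
    exact hpp.one_lt.ne hx
  · haveI : CharZero D := CharP.charP_to_charZero D
    obtain ⟨f, hf1, hf⟩ := exists_sol_of_action ℚ ρ hfree
    exact fcInt_of_sol_charZero (fun h => by simp [h] at hf1) hf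

/-- The table of an embedding of SL(2,3) in SL(2,5). -/
def sl23Tab : List ((ZMod 3 × ZMod 3 × ZMod 3 × ZMod 3) × (ZMod 5 × ZMod 5 × ZMod 5 × ZMod 5)) :=
  [((0, 1, 2, 0), (3, 0, 1, 2)), ((0, 1, 2, 1), (2, 2, 1, 4)), ((0, 1, 2, 2), (0, 3, 3, 4)), ((0, 2, 1, 0), (2, 0, 4, 3)), ((0, 2, 1, 1), (0, 2, 2, 1)), ((0, 2, 1, 2), (3, 3, 4, 1)), ((1, 0, 0, 1), (1, 0, 0, 1)), ((1, 0, 1, 1), (2, 1, 3, 2)), ((1, 0, 2, 1), (2, 4, 2, 2)), ((1, 1, 0, 1), (0, 1, 4, 4)), ((1, 1, 1, 2), (4, 1, 3, 1)), ((1, 1, 2, 0), (1, 3, 3, 0)), ((1, 2, 0, 1), (4, 4, 1, 0)), ((1, 2, 1, 0), (4, 3, 4, 2)), ((1, 2, 2, 2), (2, 3, 0, 3)), ((2, 0, 0, 2), (4, 0, 0, 4)), ((2, 0, 1, 2), (3, 1, 3, 3)), ((2, 0, 2, 2), (3, 4, 2, 3)), ((2, 1, 0, 2), (1, 1, 4, 0)), ((2, 1, 1, 1), (3, 2, 0, 2)), ((2, 1, 2, 0), (1, 2, 1, 3)), ((2, 2, 0, 2), (0, 4, 1, 1)), ((2, 2, 1, 0), (4, 2, 2, 0)), ((2, 2, 2, 1), (1, 4, 2, 4))]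

/-- Multiplication of 2×2 matrices written as quadruples. -/
def quadMul {R : Type*} [Add R] [Mul R] (x y : R × R × R × R) : R × R × R × R :=
  (x.1 * y.1 + x.2.1 * y.2.2.1, x.1 * y.2.1 + x.2.1 * y.2.2.2,
    x.2.2.1 * y.1 + x.2.2.2 * y.2.2.1, x.2.2.1 * y.2.1 + x.2.2.2 * y.2.2.2)

/-- The value of the table. -/
def sl23Look (x : ZMod 3 × ZMod 3 × ZMod 3 × ZMod 3) : ZMod 5 × ZMod 5 × ZMod 5 × ZMod 5 :=
  (sl23Tab.lookup x).getD (0, 0, 0, 0)

theorem sl23_mem : ∀ a b c d : ZMod 3, a * d - b * c = 1 →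
    (a, b, c, d) ∈ sl23Tab.map Prod.fst := by decide +kernel

theorem sl23_mul : ∀ x ∈ sl23Tab.map Prod.fst, ∀ y ∈ sl23Tab.map Prod.fst,
    sl23Look (quadMul x y) = quadMul (sl23Look x) (sl23Look y) := by decide +kernel

theorem sl23_one : sl23Look (1, 0, 0, 1) = (1, 0, 0, 1) := by decide +kernel

theorem sl23_free : ∀ x ∈ sl23Tab.map Prod.fst, ∀ a b : ZMod 5,
    (sl23Look x).1 * a + (sl23Look x).2.1 * b = a →
    (sl23Look x).2.2.1 * a + (sl23Look x).2.2.2 * b = b →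
    x = (1, 0, 0, 1) ∨ (a = 0 ∧ b = 0) := by decide +kernel

/-- The entries of a 2×2 matrix. -/
def quadOf (x : Matrix.SpecialLinearGroup (Fin 2) (ZMod 3)) : ZMod 3 × ZMod 3 × ZMod 3 × ZMod 3 :=
  (x.1 0 0, x.1 0 1, x.1 1 0, x.1 1 1)

theorem quadOf_mem (x : Matrix.SpecialLinearGroup (Fin 2) (ZMod 3)) :
    quadOf x ∈ sl23Tab.map Prod.fst :=
  sl23_mem _ _ _ _ ((Matrix.det_fin_two x.1).symm.trans x.2)

theorem quadOf_mul (x y : Matrix.SpecialLinearGroup (Fin 2) (ZMod 3)) :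
    quadOf (x * y) = quadMul (quadOf x) (quadOf y) := by
  simp [quadOf, quadMul, Matrix.mul_apply, Fin.sum_univ_two]

/-- The action of SL(2,3) on (ZMod 5)^2. -/
def sl23Act : Matrix.SpecialLinearGroup (Fin 2) (ZMod 3) →* AddMonoid.End (ZMod 5 × ZMod 5) where
  toFun x := AddMonoidHom.mk'
    (fun v => ((sl23Look (quadOf x)).1 * v.1 + (sl23Look (quadOf x)).2.1 * v.2,
      (sl23Look (quadOf x)).2.2.1 * v.1 + (sl23Look (quadOf x)).2.2.2 * v.2))
    (fun v w => by ext <;> simp <;> ring)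
  map_one' := AddMonoidHom.ext fun v => by
    have h : quadOf (1 : Matrix.SpecialLinearGroup (Fin 2) (ZMod 3)) = (1, 0, 0, 1) := by
      simp [quadOf]
    change ((sl23Look (quadOf 1)).1 * v.1 + (sl23Look (quadOf 1)).2.1 * v.2,
      (sl23Look (quadOf 1)).2.2.1 * v.1 + (sl23Look (quadOf 1)).2.2.2 * v.2) = v
    rw [h, sl23_one]
    ext <;> simp
  map_mul' x y := AddMonoidHom.ext fun v => by
    change ((sl23Look (quadOf (x * y))).1 * v.1 + (sl23Look (quadOf (x * y))).2.1 * v.2,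
      (sl23Look (quadOf (x * y))).2.2.1 * v.1 + (sl23Look (quadOf (x * y))).2.2.2 * v.2) = _
    rw [quadOf_mul, sl23_mul _ (quadOf_mem x) _ (quadOf_mem y)]
    change _ = ((sl23Look (quadOf x)).1 * _ + _, _)
    simp only [quadMul, AddMonoidHom.mk'_apply]
    ext <;> simp <;> ring

theorem sl23Act_free (x : Matrix.SpecialLinearGroup (Fin 2) (ZMod 3)) (hx : x ≠ 1)
    (v : ZMod 5 × ZMod 5) (hv : sl23Act x v = v) : v = 0 := by
  have h1 : ((sl23Look (quadOf x)).1 * v.1 + (sl23Look (quadOf x)).2.1 * v.2,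
      (sl23Look (quadOf x)).2.2.1 * v.1 + (sl23Look (quadOf x)).2.2.2 * v.2) = v := hv
  rcases sl23_free _ (quadOf_mem x) v.1 v.2 (congrArg Prod.fst h1) (congrArg Prod.snd h1) with h | ⟨ha, hb⟩
  · exfalso
    apply hx
    simp only [quadOf, Prod.mk.injEq] at h
    ext i j
    fin_cases i <;> fin_cases j <;> simp [h.1, h.2.1, h.2.2.1, h.2.2.2]
  · exact Prod.ext ha hb

open Quaternion in
/-- A quaternion from its components. -/
def quatMk (a b c d : ℝ) : ℍ[ℝ] := ⟨a, b, c, d⟩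

@[simp] theorem quatMk_re (a b c d : ℝ) : (quatMk a b c d).re = a := rfl
@[simp] theorem quatMk_imI (a b c d : ℝ) : (quatMk a b c d).imI = b := rfl
@[simp] theorem quatMk_imJ (a b c d : ℝ) : (quatMk a b c d).imJ = c := rfl
@[simp] theorem quatMk_imK (a b c d : ℝ) : (quatMk a b c d).imK = d := rfl

open Quaternion in
/-- The dicyclic group inside the quaternions. -/
theorem fcInt_quaternionGroup (n : ℕ) [NeZero n] : FCInt (QuaternionGroup n) := by
  let J : ℍ[ℝ] := quatMk 0 0 1 0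
  let cq : ℂ → ℍ[ℝ] := fun z => quatMk z.re z.im 0 0
  let ψ : ZMod (2 * n) → ℍ[ℝ] := fun i => cq ((ZMod.toCircle i : Circle) : ℂ)
  have hψ : ∀ i j, ψ (i + j) = ψ i * ψ j := fun i j => by
    ext <;> simp [ψ, cq, AddChar.map_add_eq_mul, Quaternion.re_mul, Quaternion.imI_mul, Quaternion.imJ_mul, Quaternion.imK_mul]
  have hJc : ∀ z : ℂ, J * cq z = cq ((starRingEnd ℂ) z) * J := fun z => by
    ext <;> simp [J, cq, Quaternion.re_mul, Quaternion.imI_mul, Quaternion.imJ_mul, Quaternion.imK_mul]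
  have hJ2 : J * J = -1 := by
    ext <;> simp [J, Quaternion.re_mul, Quaternion.imI_mul, Quaternion.imJ_mul, Quaternion.imK_mul]
  have hψn : ψ n = -1 := by
    have h1 : ((ZMod.toCircle (n : ZMod (2 * n)) : Circle) : ℂ) = -1 := by
      have hn : ((n : ZMod (2 * n))).val = n := by
        rw [ZMod.val_natCast, Nat.mod_eq_of_lt]
        have := NeZero.pos n
        omega
      rw [ZMod.toCircle_apply, hn, Nat.cast_mul]
      convert Complex.exp_pi_mul_I using 2
      have : (n : ℂ) ≠ 0 := NeZero.ne _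
      push_cast
      field_simp
    simp only [ψ, h1]
    ext <;> simp [cq]
  have hψ0 : ψ 0 = 1 := by ext <;> simp [ψ, cq]
  have hψJ : ∀ i, J * ψ i = ψ (-i) * J := fun i => by
    simp only [ψ, hJc]
    rw [AddChar.map_neg_eq_inv, Circle.coe_inv_eq_conj]
  let f : QuaternionGroup n → ℍ[ℝ] := fun x => match x with
    | .a i => ψ i
    | .xa i => J * ψ i
  have hmul : ∀ x y, f (x * y) = f x * f y := by
    rintro (i | i) (j | j)
    · simpa [f] using hψ i j
    · change f (QuaternionGroup.xa (j - i)) = ψ i * (J * ψ j)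
      change J * ψ (j - i) = _
      have h1 : ψ i * J = J * ψ (-i) := by rw [hψJ, neg_neg]
      rw [← mul_assoc, h1, mul_assoc, ← hψ]
      congr 2
      ring
    · change J * ψ (i + j) = J * ψ i * ψ j
      rw [hψ, mul_assoc]
    · change ψ ((n : ZMod (2 * n)) + j - i) = J * ψ i * (J * ψ j)
      have h1 : J * ψ i * (J * ψ j) = J * J * (ψ (-i) * ψ j) := by
        calc J * ψ i * (J * ψ j) = ψ (-i) * J * (J * ψ j) := by rw [hψJ i]
          _ = ψ (-i) * (J * J) * ψ j := by simp [mul_assoc]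
          _ = _ := by rw [hJ2]; simp
      rw [h1, hJ2, ← hψn, ← hψ, ← hψ]
      congr 1
      ring
  have hone : f 1 = 1 := hψ0
  let F : QuaternionGroup n →* ℍ[ℝ] := { toFun := f, map_one' := hone, map_mul' := hmul }
  refine fcInt_of_units F.toHomUnits ?_
  rw [injective_iff_map_eq_one]
  intro x hx
  have h1 : f x = 1 := congrArg Units.val hx
  rcases x with i | i
  · have h2 : ((ZMod.toCircle i : Circle) : ℂ) = 1 := by
      exact Complex.ext (congrArg (fun q : ℍ[ℝ] => q.re) h1) (congrArg (fun q : ℍ[ℝ] => q.imI) h1)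
    have h3 : i = 0 := ZMod.injective_toCircle (by
      rw [AddChar.map_zero_eq_one]; exact Subtype.ext h2)
    rw [h3]; rfl
  · exfalso
    have h2 := congrArg (fun q : ℍ[ℝ] => q.re) h1
    simp [f, J, ψ, cq, Quaternion.re_mul] at h2

end H28
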