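import Cfsg.Agent.H28.CharSimpleMaxCent
import Cfsg.Agent.H84.NoncyclicFixed
import Cfsg.Agent.H6.Basic
import Cfsg.Agent.H2.FrobeniusBasic
import Cfsg.Prelude.Def_Transfer

/-!
A normal subgroup whose non-central elements have maximal centralizers in the whole group.
-/

set_option autoImplicit false
set_option linter.style.haveILetI false

universe u

namespace H28.MaxCentN

open Subgroup
open scoped commutatorElement

variable {G : Type u} [Group G] [Finite G]

/-- The central elements of `N`. -/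
abbrev zc (N : Subgroup G) : Subgroup G := N ⊓ centralizer (N : Set G)

/-- The hypothesis: non-central elements of `N` have maximal centralizers. -/
def Hyp (N : Subgroup G) : Prop :=
  ∀ x ∈ N, x ∉ zc N → IsCoatom (centralizer ({x} : Set G))

variable {N : Subgroup G} [hN : N.Normal]

theorem zc_mem {z : G} : z ∈ zc N ↔ z ∈ N ∧ ∀ n ∈ N, n * z = z * n :=
  ⟨fun h => ⟨h.1, fun n hn => mem_centralizer_iff.mp h.2 n hn⟩,
    fun h => ⟨h.1, mem_centralizer_iff.mpr h.2⟩⟩

instance zc_normal : (zc N).Normal := by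
  haveI : (centralizer (N : Set G)).Normal := Subgroup.normal_centralizer
  exact Subgroup.normal_inf_normal N _

theorem zc_le_cent {x : G} (hx : x ∈ N) : zc N ≤ centralizer ({x} : Set G) := fun z hz =>
  mem_centralizer_singleton_iff.mpr ((zc_mem.mp hz).2 x hx).symm

omit [Finite G] in
theorem sup_cent_eq_top (h : Hyp N) {x : G} (hx : x ∈ N) (hxz : x ∉ zc N) {T : Subgroup G}
    (hT : ¬ T ≤ centralizer ({x} : Set G)) : centralizer ({x} : Set G) ⊔ T = ⊤ :=
  ((h x hx hxz).le_iff.mp le_sup_left).resolve_right fun e => hT (le_sup_right.trans e.le)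

omit [Finite G] in
theorem exists_decomp (h : Hyp N) {x : G} (hx : x ∈ N) (hxz : x ∉ zc N) {T : Subgroup G}
    [hTn : T.Normal] (hT : ¬ T ≤ centralizer ({x} : Set G)) (g : G) :
    ∃ t ∈ T, ∃ c ∈ centralizer ({x} : Set G), g = t * c := by
  have hg : g ∈ ((T ⊔ centralizer ({x} : Set G) : Subgroup G) : Set G) := by
    rw [sup_comm, sup_cent_eq_top h hx hxz hT]; exact mem_top g
  rw [Subgroup.normal_mul] at hg
  obtain ⟨t, ht, c, hc, e⟩ := hg
  exact ⟨t, ht, c, hc, e.symm⟩

theorem N_not_le (h : Hyp N) {x : G} (hx : x ∈ N) (hxz : x ∉ zc N) :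
    ¬ N ≤ centralizer ({x} : Set G) := fun hle =>
  hxz (zc_mem.mpr ⟨hx, fun _ hn => mem_centralizer_singleton_iff.mp (hle hn)⟩)

omit [Finite G] hN in
theorem comm_mem {n m : G} {T : Subgroup G} (hT : T.Normal) (hm : m ∈ T) :
    n * m * n⁻¹ * m⁻¹ ∈ T := T.mul_mem (hT.conj_mem m hm n) (T.inv_mem hm)

/-- Nilpotent `N` has class at most two. -/
theorem class_two_of_nilpotent (h : Hyp N) (hnil : Group.IsNilpotent N) :
    ∀ a ∈ N, ∀ b ∈ N, a * b * a⁻¹ * b⁻¹ ∈ zc N := by
  classical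
  intro a ha b hb
  refine zc_mem.mpr ⟨comm_mem hN hb, fun x hx => ?_⟩
  by_cases hxz : x ∈ zc N
  · exact ((zc_mem.mp hxz).2 _ (comm_mem hN hb)).symm
  set M := centralizer ({x} : Set G)
  set K := N ⊓ M
  -- normalizers grow
  have hKN : K.subgroupOf N ≠ ⊤ := fun e => N_not_le h hx hxz
    ((Subgroup.subgroupOf_eq_top.mp e).trans inf_le_right)
  have hnc := normalizerCondition_iff_only_full_group_self_normalizing.mp
    (Group.normalizerCondition_of_isNilpotent (G := N))
  have hgrow : ¬ normalizer ((K.subgroupOf N : Subgroup N) : Set N) = K.subgroupOf N :=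
    fun e => hKN (hnc _ e)
  obtain ⟨w, hw, hwK⟩ : ∃ w ∈ normalizer ((K.subgroupOf N : Subgroup N) : Set N),
      w ∉ K.subgroupOf N := by
    by_contra hall
    push Not at hall
    exact hgrow (le_antisymm hall le_normalizer)
  have hwG : (w : G) ∈ normalizer (K : Set G) := by
    rw [mem_normalizer_iff]
    intro y
    by_cases hy : y ∈ N
    · have := mem_normalizer_iff.mp hw ⟨y, hy⟩
      simpa [mem_subgroupOf] using this
    · exact ⟨fun h' => absurd h'.1 hy, fun h' => absurd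
        (by simpa [mul_assoc] using hN.conj_mem _ h'.1 (w : G)⁻¹) hy⟩
  have hMK : M ≤ normalizer (K : Set G) := by
    intro m hm
    rw [mem_normalizer_iff]
    intro y
    exact ⟨fun h' => ⟨hN.conj_mem y h'.1 m, M.mul_mem (M.mul_mem hm h'.2) (M.inv_mem hm)⟩,
      fun h' => ⟨by simpa [mul_assoc] using hN.conj_mem _ h'.1 m⁻¹, by
        simpa [mul_assoc] using M.mul_mem (M.mul_mem (M.inv_mem hm) h'.2) hm⟩⟩
  haveI hKn : K.Normal := by
    refine normalizer_eq_top_iff.mp (((h x hx hxz).le_iff.mp hMK).resolve_right fun e => hwK ?_)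
    exact mem_subgroupOf.mpr ⟨w.2, show (w : G) ∈ centralizer ({x} : Set G) by rw [← e]; exact hwG⟩
  -- the derived subgroup
  haveI : Group.IsSolvable N := inferInstance
  have hder : ⁅N, N⁆ ≤ K := by
    by_contra hnot
    have hTn : (⁅N, N⁆ ⊔ K).Normal := Subgroup.sup_normal _ _
    have hle : ¬ ⁅N, N⁆ ⊔ K ≤ M := fun e => hnot (le_inf (commutator_le.mpr fun p hp q hq =>
      comm_mem hN hq) (le_sup_left.trans e))
    have hall : N ≤ ⁅N, N⁆ ⊔ K := by
      intro n hn
      obtain ⟨t, ht, c, hc, rfl⟩ := exists_decomp (hTn := hTn) h hx hxz hle n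
      have hTN : ⁅N, N⁆ ⊔ K ≤ N :=
        sup_le (commutator_le.mpr fun p hp q hq => comm_mem hN hq) inf_le_left
      have hcN : c ∈ N := by simpa using N.mul_mem (N.inv_mem (hTN ht)) hn
      exact mul_mem ht (mem_sup_right ⟨hcN, hc⟩)
    -- in the nilpotent group
    haveI : (K.subgroupOf N).Normal := Subgroup.normal_subgroupOf
    haveI : Nontrivial (N ⧸ K.subgroupOf N) := QuotientGroup.nontrivial_iff.mpr hKN
    haveI : Group.IsSolvable (N ⧸ K.subgroupOf N) :=
      Group.isSolvable_of_surjective (f := QuotientGroup.mk' (K.subgroupOf N))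
        (QuotientGroup.mk'_surjective _)
    have htop : commutator (N ⧸ K.subgroupOf N) = ⊤ := by
      rw [eq_top_iff]
      intro q _
      obtain ⟨n, rfl⟩ := QuotientGroup.mk'_surjective _ q
      have e1 : ⁅N, N⁆ = (commutator N).map N.subtype := by
        rw [_root_.commutator_def, map_commutator, ← MonoidHom.range_eq_map, range_subtype]
      have hle' : (⁅N, N⁆ ⊔ K) ≤ (commutator N ⊔ K.subgroupOf N).map N.subtype := by
        rw [Subgroup.map_sup, subgroupOf_map_subtype, e1]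
        exact sup_le_sup_left (le_inf le_rfl inf_le_left) _
      obtain ⟨m, hm, hmn⟩ := hle' (hall n.2)
      have hmn' : m = n := Subtype.ext hmn
      subst hmn'
      have hle2 : commutator N ⊔ K.subgroupOf N ≤
          (commutator (N ⧸ K.subgroupOf N)).comap (QuotientGroup.mk' _) := sup_le
        (by rw [← map_le_iff_le_comap, _root_.commutator_def, map_commutator, _root_.commutator_def]
            exact commutator_mono le_top le_top)
        (fun z hz => by
          rw [mem_comap]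
          rw [(QuotientGroup.eq_one_iff z).mpr hz |> fun e =>
            (show QuotientGroup.mk' (K.subgroupOf N) z = 1 from e)]
          exact one_mem _)
      exact hle2 hm
    exact (Group.IsSolvable.commutator_lt_top_of_nontrivial (G := N ⧸ K.subgroupOf N)).ne htop
  have := (hder (commutator_mem_commutator ha hb)).2
  rw [commutatorElement_def] at this
  exact (mem_centralizer_singleton_iff.mp this).symm

omit hN in
/-- An element lies in a subgroup containing all its powers of prime power order. -/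
theorem mem_of_primePow_parts {H : Subgroup G} : ∀ g : G,
    (∀ w ∈ zpowers g, (∃ q i, q.Prime ∧ orderOf w = q ^ i) → w ∈ H) → g ∈ H := by
  suffices ∀ k, ∀ g : G, orderOf g = k →
      (∀ w ∈ zpowers g, (∃ q i, q.Prime ∧ orderOf w = q ^ i) → w ∈ H) → g ∈ H from
    fun g => this _ g rfl
  intro k
  induction' k using Nat.strong_induction_on with k ih
  intro g hk hg
  by_cases hk1 : k = 1
  · rw [hk1] at hk; rw [orderOf_eq_one_iff.mp hk]; exact one_mem _
  obtain ⟨q, hq, hd⟩ := Nat.exists_prime_and_dvd hk1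
  have hd' : q ∣ orderOf g := hk ▸ hd
  obtain ⟨e, r, hr, he⟩ := Nat.exists_eq_pow_mul_and_not_dvd (orderOf_pos g).ne' q hq.ne_one
  have he0 : e ≠ 0 := fun h0 => hr (by rw [he, h0, pow_zero, one_mul] at hd'; exact hd')
  have hr0 : r ≠ 0 := fun h0 => hr (h0 ▸ dvd_zero q)
  have hm0 : q ^ e ≠ 0 := pow_ne_zero _ hq.ne_zero
  have ho1 : orderOf (g ^ r) = q ^ e := by
    rw [orderOf_pow_of_dvd hr0 (he ▸ dvd_mul_left r (q ^ e)), he,
      Nat.mul_div_cancel _ (Nat.pos_of_ne_zero hr0)]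
  have ho2 : orderOf (g ^ q ^ e) = r := by
    rw [orderOf_pow_of_dvd hm0 (he ▸ dvd_mul_right (q ^ e) r), he,
      Nat.mul_div_cancel_left _ (Nat.pos_of_ne_zero hm0)]
  have h1 : g ^ r ∈ H := hg _ (pow_mem (mem_zpowers g) r) ⟨q, e, hq, ho1⟩
  have h2 : g ^ q ^ e ∈ H := ih r (hk ▸ he ▸ lt_mul_of_one_lt_left (Nat.pos_of_ne_zero hr0)
    (Nat.one_lt_pow he0 hq.one_lt)) _ ho2 fun w hw hwq =>
      hg w ((zpowers_le.mpr (pow_mem (mem_zpowers g) _)) hw) hwq
  have hcr : Nat.Coprime r (q ^ e) := ((hq.coprime_iff_not_dvd.mpr hr).pow_left e).symm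
  have e' : g = (g ^ (r : ℤ)) ^ Nat.gcdA r (q ^ e) * (g ^ ((q ^ e : ℕ) : ℤ)) ^ Nat.gcdB r (q ^ e) := by
    rw [← zpow_mul, ← zpow_mul, ← zpow_add, ← Nat.gcd_eq_gcd_ab, hcr.gcd_eq_one, Nat.cast_one,
      zpow_one]
  rw [e', zpow_natCast, zpow_natCast]
  exact mul_mem (zpow_mem h1 _) (zpow_mem h2 _)

/-- The conclusion for class two. -/
theorem elementary_of_class_two (h : Hyp N)
    (h2 : ∀ a ∈ N, ∀ b ∈ N, a * b * a⁻¹ * b⁻¹ ∈ zc N) (hne : ¬ N ≤ zc N) :
    ∃ p : ℕ, p.Prime ∧ ∀ n ∈ N, n ^ p ∈ zc N := by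
  classical
  have hKn : ∀ x ∈ N, x ∉ zc N → (N ⊓ centralizer ({x} : Set G)).Normal := by
    intro x hx hxz
    refine normalizer_eq_top_iff.mp ?_
    rw [eq_top_iff, ← sup_cent_eq_top h hx hxz (N_not_le h hx hxz), sup_le_iff]
    refine ⟨fun m hm => ?_, fun n hn => ?_⟩
    · rw [mem_normalizer_iff]
      intro y
      exact ⟨fun h' => ⟨hN.conj_mem y h'.1 m, (centralizer ({x} : Set G)).mul_mem ((centralizer ({x} : Set G)).mul_mem hm h'.2) ((centralizer ({x} : Set G)).inv_mem hm)⟩,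
        fun h' => ⟨by simpa [mul_assoc] using hN.conj_mem _ h'.1 m⁻¹, by
          simpa [mul_assoc] using mul_mem (mul_mem (inv_mem hm) h'.2) hm⟩⟩
    · have key : ∀ n ∈ N, ∀ y ∈ N ⊓ centralizer ({x} : Set G),
          n * y * n⁻¹ ∈ N ⊓ centralizer ({x} : Set G) := by
        intro n hn y hy
        rw [show n * y * n⁻¹ = (n * y * n⁻¹ * y⁻¹) * y by group]
        exact mul_mem ⟨(h2 n hn y hy.1).1, zc_le_cent hx (h2 n hn y hy.1)⟩ hy
      rw [mem_normalizer_iff]
      intro y
      exact ⟨key n hn y, fun h' => by simpa [mul_assoc] using key n⁻¹ (N.inv_mem hn) _ h'⟩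
  -- commuting elements of coprime orders
  have hcop : ∀ u ∈ N, ∀ v ∈ N, (orderOf u).Coprime (orderOf v) → u * v = v * u := by
    intro u hu v hv hc
    set c := u * v * u⁻¹ * v⁻¹ with hc'
    have hcz := zc_mem.mp (h2 u hu v hv)
    have hcv : Commute c v := (hcz.2 v hv).symm
    have hcu : Commute c u := (hcz.2 u hu).symm
    have e1 : c ^ orderOf v = 1 := by
      have e : (u * v * u⁻¹) ^ orderOf v = 1 := by
        rw [conj_pow, pow_orderOf_eq_one, mul_one, mul_inv_cancel]
      rwa [show u * v * u⁻¹ = c * v by rw [hc']; group, hcv.mul_pow, pow_orderOf_eq_one, mul_one] at e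
    have e2 : c ^ orderOf u = 1 := by
      have e : (v * u⁻¹ * v⁻¹) ^ orderOf u = 1 := by
        rw [conj_pow, inv_pow, pow_orderOf_eq_one, inv_one, mul_one, mul_inv_cancel]
      rwa [show v * u⁻¹ * v⁻¹ = u⁻¹ * c by rw [hc']; group, hcu.symm.inv_left.mul_pow, inv_pow,
        pow_orderOf_eq_one, inv_one, one_mul] at e
    have : c = 1 := orderOf_eq_one_iff.mp (Nat.eq_one_of_dvd_coprimes hc
      (orderOf_dvd_of_pow_eq_one e2) (orderOf_dvd_of_pow_eq_one e1))
    rw [hc', mul_inv_eq_one] at this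
    exact mul_inv_eq_iff_eq_mul.mp this
  -- two primes cannot occur
  have hone : ∀ p q : ℕ, p.Prime → q.Prime → p ≠ q → ∀ u ∈ N, ∀ v ∈ N,
      (∃ i, orderOf u = p ^ i) → (∃ j, orderOf v = q ^ j) → u ∈ zc N ∨ v ∈ zc N := by
    intro p q hp hq hpq u hu v hv hui hvj
    by_contra hcon
    push Not at hcon
    obtain ⟨huz, hvz⟩ := hcon
    have heq : ∀ a ∈ N, ∀ b ∈ N, a ∉ zc N → b ∉ zc N → (orderOf a).Coprime (orderOf b) →
        centralizer ({a} : Set G) = centralizer ({b} : Set G) := by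
      intro a ha b hb haz hbz hc
      have hab : Commute a b := hcop a ha b hb hc
      have habz : a * b ∉ zc N := fun hz => haz (by
        obtain ⟨t, ht⟩ := exists_pow_eq_self_of_coprime (x := a) (n := orderOf b) hc.symm
        have e : (a * b) ^ orderOf b = a ^ orderOf b := by
          rw [hab.mul_pow, pow_orderOf_eq_one, mul_one]
        rw [← ht, ← e]
        exact pow_mem (pow_mem hz _) _)
      have sub : ∀ a b : G, Commute a b → (orderOf a).Coprime (orderOf b) →
          centralizer ({a * b} : Set G) ≤ centralizer ({a} : Set G) := by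
        intro a b hab hc y hy
        obtain ⟨t, ht⟩ := exists_pow_eq_self_of_coprime (x := a) (n := orderOf b) hc.symm
        have e : (a * b) ^ orderOf b = a ^ orderOf b := by
          rw [hab.mul_pow, pow_orderOf_eq_one, mul_one]
        have hy' : Commute y (a * b) := mem_centralizer_singleton_iff.mp hy
        refine mem_centralizer_singleton_iff.mpr ?_
        rw [← ht, ← e]
        exact ((hy'.pow_right _).pow_right t).eq
      have h1 := ((h _ (N.mul_mem ha hb) habz).le_iff.mp (sub a b hab hc)).resolve_left (h a ha haz).1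
      have h2' := ((h _ (N.mul_mem ha hb) habz).le_iff.mp
        (hab.eq ▸ sub b a hab.symm hc.symm)).resolve_left (h b hb hbz).1
      rw [h1, h2']
    refine huz (zc_mem.mpr ⟨hu, fun n hn => ?_⟩)
    -- decompose `n`
    obtain ⟨i, hi⟩ := hui
    obtain ⟨j, hj⟩ := hvj
    have hmem : n ∈ centralizer ({u} : Set G) := by
      refine mem_of_primePow_parts n fun w hw ⟨l, k, hl, hwo⟩ => ?_
      have hwN : w ∈ N := (zpowers_le.mpr hn) hw
      by_cases hlp : l = p
      · subst hlp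
        by_cases hz : w ∈ zc N
        · exact zc_le_cent hu hz
        have h1 := heq u hu v hv huz hvz (by
          rw [hi, hj]; exact ((Nat.coprime_primes hp hq).mpr hpq).pow _ _)
        have h2' := heq w hwN v hv hz hvz (by
          rw [hwo, hj]; exact ((Nat.coprime_primes hl hq).mpr hpq).pow _ _)
        rw [h1, ← h2']
        exact mem_centralizer_singleton_iff.mpr rfl
      · refine mem_centralizer_singleton_iff.mpr (hcop w hwN u hu ?_)
        rw [hwo, hi]; exact ((Nat.coprime_primes hl hp).mpr hlp).pow _ _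
    exact mem_centralizer_singleton_iff.mp hmem
  -- a prime
  obtain ⟨x, hx, hxz⟩ := SetLike.not_le_iff_exists.mp hne
  obtain ⟨p, hp, x, hx, hxz, hxi⟩ : ∃ p : ℕ, p.Prime ∧ ∃ x ∈ N, x ∉ zc N ∧
      ∃ i, orderOf x = p ^ i := by
    by_contra hall
    push Not at hall
    refine hxz (mem_of_primePow_parts x fun w hw ⟨l, k, hl, hwo⟩ => ?_)
    by_contra hwz
    exact hall l hl w ((zpowers_le.mpr hx) hw) hwz k hwo
  haveI := Fact.mk hp
  have hpow : ∀ n ∈ N, ∃ k, n ^ p ^ k ∈ zc N := by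
    intro n hn
    refine ⟨(orderOf n).factorization p, mem_of_primePow_parts _ fun w hw ⟨l, k, hl, hwo⟩ => ?_⟩
    have hwN : w ∈ N := (zpowers_le.mpr (N.pow_mem hn _)) hw
    by_cases hlp : l = p
    · have h1 : orderOf w ∣ orderOf (n ^ p ^ (orderOf n).factorization p) :=
        orderOf_dvd_of_mem_zpowers hw
      rw [orderOf_pow_of_dvd (pow_ne_zero _ hp.ne_zero) (Nat.ordProj_dvd _ _), hwo, hlp] at h1
      rcases Nat.eq_zero_or_pos k with rfl | hk
      · rw [pow_zero] at hwo
        rw [orderOf_eq_one_iff.mp hwo]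
        exact one_mem _
      · exact absurd ((dvd_pow_self p hk.ne').trans h1)
          (Nat.not_dvd_ordCompl hp (orderOf_pos n).ne')
    · exact (hone p l hp hl (Ne.symm hlp) x hx w hwN hxi ⟨k, hwo⟩).resolve_left hxz
  refine ⟨p, hp, fun n hn => zc_mem.mpr ⟨N.pow_mem hn p, fun y hy => ?_⟩⟩
  by_cases hyz : y ∈ zc N
  · exact ((zc_mem.mp hyz).2 _ (N.pow_mem hn p)).symm
  haveI := hKn y hy hyz
  set K := N ⊓ centralizer ({y} : Set G)
  -- the subgroup of elements with `p`-th power in `K`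
  let T : Subgroup G :=
    { carrier := {t | t ∈ N ∧ t ^ p ∈ K}
      one_mem' := ⟨one_mem _, by rw [one_pow]; exact one_mem _⟩
      mul_mem' := by
        rintro a b ⟨ha, ha'⟩ ⟨hb, hb'⟩
        refine ⟨N.mul_mem ha hb, ?_⟩
        rw [← QuotientGroup.eq_one_iff, QuotientGroup.mk_pow, QuotientGroup.mk_mul]
        have hab : Commute (QuotientGroup.mk a : G ⧸ K) (QuotientGroup.mk b) := by
          have : a * b * a⁻¹ * b⁻¹ ∈ K := ⟨(h2 a ha b hb).1, zc_le_cent hy (h2 a ha b hb)⟩
          rw [← QuotientGroup.eq_one_iff] at this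
          simp only [QuotientGroup.mk_mul, QuotientGroup.mk_inv] at this
          rw [mul_inv_eq_one] at this
          exact mul_inv_eq_iff_eq_mul.mp this
        rw [hab.mul_pow, ← QuotientGroup.mk_pow, ← QuotientGroup.mk_pow,
          (QuotientGroup.eq_one_iff _).mpr ha', (QuotientGroup.eq_one_iff _).mpr hb', one_mul]
      inv_mem' := by
        rintro a ⟨ha, ha'⟩
        exact ⟨inv_mem ha, by rw [inv_pow]; exact inv_mem ha'⟩ }
  haveI hTn : T.Normal := ⟨fun t ht g => ⟨hN.conj_mem t ht.1 g, by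
    rw [conj_pow]; exact ‹K.Normal›.conj_mem _ ht.2 g⟩⟩
  have hTle : ¬ T ≤ centralizer ({y} : Set G) := by
    intro hle
    obtain ⟨w, hw, hwK⟩ := SetLike.not_le_iff_exists.mp (N_not_le h hy hyz)
    obtain ⟨k, hk⟩ := hpow w hw
    have hkK : w ^ p ^ k ∈ K := ⟨N.pow_mem hw _, zc_le_cent hy hk⟩
    have key : ∀ k : ℕ, ∀ w ∈ N, w ^ p ^ k ∈ K → w ∈ K := by
      intro k
      induction k with
      | zero => intro w _ h'; simpa using h'
      | succ k ih =>
        intro w hw h'
        rw [pow_succ', pow_mul] at h'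
        have := ih _ (N.pow_mem hw p) h'
        exact ⟨hw, hle ⟨hw, this⟩⟩
    exact hwK (key k w hw hkK).2
  obtain ⟨t, ht, c, hc, e⟩ := exists_decomp h hy hyz hTle n
  have hcN : c ∈ N := by
    have := N.mul_mem (N.inv_mem ht.1) hn
    rwa [e, inv_mul_cancel_left] at this
  have : n ∈ T := e ▸ T.mul_mem ht ⟨hcN, N.pow_mem hcN p, pow_mem hc p⟩
  exact (mem_centralizer_singleton_iff.mp this.2.2).symm

/-- `N` is solvable. -/
theorem solvable (h : Hyp N) : Group.IsSolvable N := by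
  classical
  by_contra hns
  set S := {L : Subgroup G | L.Normal ∧ L ≤ N ∧ ¬ Group.IsSolvable L}
  obtain ⟨L, ⟨hLn, hLN, hLs⟩, hLmin⟩ := Set.exists_min_image S (fun L => Nat.card L) (Set.toFinite S)
    ⟨N, hN, le_rfl, hns⟩
  haveI := hLn
  have hperf : ⁅L, L⁆ = L := by
    have hle : ⁅L, L⁆ ≤ L := commutator_le.mpr fun a ha b hb => comm_mem hLn hb
    refine eq_of_le_of_card_ge hle (hLmin _ ⟨Subgroup.commutator_normal L L, hle.trans hLN, ?_⟩)
    intro hs
    apply hLs
    have e : ⁅L, L⁆ = (commutator L).map L.subtype := by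
      rw [_root_.commutator_def, map_commutator, ← MonoidHom.range_eq_map, range_subtype]
    haveI : Group.IsSolvable ((commutator L).map L.subtype) := e ▸ hs
    haveI : Group.IsSolvable (commutator L) :=
      Group.isSolvable_of_isSolvable_injective
        (f := ((commutator L).equivMapOfInjective L.subtype L.subtype_injective).toMonoidHom)
        (MulEquiv.injective _)
    haveI : IsMulCommutative (L ⧸ commutator L) :=
      Subgroup.Normal.quotient_commutative_iff_commutator_le.mpr le_rfl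
    haveI : Group.IsSolvable (L ⧸ commutator L) :=
      Group.isSolvable_of_comm fun a b => mul_comm' a b
    exact Group.isSolvable_of_ker_le_range (commutator L).subtype (QuotientGroup.mk' (commutator L))
      (by rw [QuotientGroup.ker_mk', range_subtype])
  set S' := {R : Subgroup G | R.Normal ∧ R < L}
  obtain ⟨R, ⟨hRn, hRL⟩, hRmax⟩ := Set.exists_max_image S' (fun R => Nat.card R) (Set.toFinite S')
    ⟨⊥, inferInstance, bot_lt_iff_ne_bot.mpr fun e => hLs (by rw [e]; infer_instance)⟩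
  haveI := hRn
  have hmax : ∀ T : Subgroup G, T.Normal → R ≤ T → T ≤ L → T = R ∨ T = L := by
    intro T hT hRT hTL
    by_cases hTL' : T = L
    · exact Or.inr hTL'
    · exact Or.inl (eq_of_le_of_card_ge hRT (hRmax T ⟨hT, lt_of_le_of_ne hTL hTL'⟩)).symm
  set R' := R.subgroupOf L
  haveI : R'.Normal := Subgroup.normal_subgroupOf
  have hconj : ∀ g : G, R' ≤ R'.comap (MulAut.conjNormal g : MulAut L).toMonoidHom := fun g z hz =>
    mem_subgroupOf.mpr (by
      show ((MulAut.conjNormal g z : L) : G) ∈ R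
      rw [MulAut.conjNormal_apply]; exact hRn.conj_mem _ (mem_subgroupOf.mp hz) g)
  let F : G → (L ⧸ R' →* L ⧸ R') := fun g => QuotientGroup.map R' R' _ (hconj g)
  have hF : ∀ (g : G) (y : L), F g (QuotientGroup.mk y) =
      QuotientGroup.mk (MulAut.conjNormal g y) := fun g y => rfl
  have hFmul : ∀ (a b : G) (y : L ⧸ R'), F (a * b) y = F a (F b y) := by
    intro a b y
    obtain ⟨y, rfl⟩ := QuotientGroup.mk_surjective y
    rw [hF, hF, hF, map_mul]
    rfl
  have hFone : ∀ y : L ⧸ R', F 1 y = y := by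
    intro y
    obtain ⟨y, rfl⟩ := QuotientGroup.mk_surjective y
    rw [hF, map_one]
    rfl
  let act : G →* Equiv.Perm (L ⧸ R') :=
    { toFun := fun g =>
        { toFun := F g
          invFun := F g⁻¹
          left_inv := fun y => by rw [← hFmul, inv_mul_cancel, hFone]
          right_inv := fun y => by rw [← hFmul, mul_inv_cancel, hFone] }
      map_one' := Equiv.ext hFone
      map_mul' := fun a b => Equiv.ext (hFmul a b) }
  have hact : ∀ (g : G) (y : L), act g (QuotientGroup.mk y) =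
      QuotientGroup.mk (MulAut.conjNormal g y) := hF
  have hnab : ¬ ∀ a b : L ⧸ R', a * b = b * a := by
    intro hab
    refine hRL.not_ge (hperf.ge.trans (commutator_le.mpr fun a ha b hb => ?_))
    have := hab (QuotientGroup.mk ⟨a, ha⟩) (QuotientGroup.mk ⟨b, hb⟩)
    rw [← commutatorElement_eq_one_iff_mul_comm] at this
    rw [← QuotientGroup.mk'_apply, ← QuotientGroup.mk'_apply, ← map_commutatorElement] at this
    exact mem_subgroupOf.mp ((QuotientGroup.eq_one_iff _).mp this)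
  haveI : Nontrivial (L ⧸ R') := by
    by_contra hne
    haveI := not_nontrivial_iff_subsingleton.mp hne
    exact hnab fun a b => Subsingleton.elim _ _
  have hirr : ∀ T : Subgroup (L ⧸ R'), (∀ g, ∀ y ∈ T, act g y ∈ T) → T = ⊥ ∨ T = ⊤ := by
    intro T hT
    set T' := (T.comap (QuotientGroup.mk' R')).map L.subtype with hT'
    have hT'n : T'.Normal := ⟨by
      rintro _ ⟨y, hy, rfl⟩ g
      refine ⟨MulAut.conjNormal g y, ?_, by simp⟩
      show QuotientGroup.mk (MulAut.conjNormal g y) ∈ T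
      rw [← hact]
      exact hT g _ hy⟩
    have hRT' : R ≤ T' := fun r hr => ⟨⟨r, hRL.le hr⟩, by
      show QuotientGroup.mk (⟨r, hRL.le hr⟩ : L) ∈ T
      rw [(QuotientGroup.eq_one_iff _).mpr (mem_subgroupOf.mpr hr)]; exact one_mem _, rfl⟩
    rcases hmax T' hT'n hRT' (map_subtype_le _) with e | e
    · left
      rw [eq_bot_iff]
      intro y hy
      obtain ⟨y, rfl⟩ := QuotientGroup.mk_surjective y
      exact mem_bot.mpr ((QuotientGroup.eq_one_iff y).mpr
        (mem_subgroupOf.mpr (e ▸ ⟨y, hy, rfl⟩ : (y : G) ∈ R)))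
    · right
      rw [eq_top_iff]
      intro y _
      obtain ⟨y, rfl⟩ := QuotientGroup.mk_surjective y
      obtain ⟨z, hz, hzy⟩ : (y : G) ∈ T' := by rw [e]; exact y.2
      have hzy' : z = y := Subtype.ext hzy
      rw [← hzy']
      exact hz
  refine H28.CharSimple.no_maximal_centralizers hnab act (fun g a b => ?_) hirr (fun c => ?_) fun y hy => ?_
  · exact map_mul (F g) a b
  · obtain ⟨c, rfl⟩ := QuotientGroup.mk_surjective c
    refine ⟨(c : G), fun y => ?_⟩
    obtain ⟨y, rfl⟩ := QuotientGroup.mk_surjective y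
    rw [hact, ← QuotientGroup.mk_mul, ← QuotientGroup.mk_inv, ← QuotientGroup.mk_mul]
    exact congrArg _ (Subtype.ext (by simp))
  · obtain ⟨y, rfl⟩ := QuotientGroup.mk_surjective y
    have hyR : (y : G) ∉ R := fun h' => hy ((QuotientGroup.eq_one_iff y).mpr (mem_subgroupOf.mpr h'))
    have hyz : (y : G) ∉ zc N := by
      intro hz
      haveI : (L ⊓ zc N).Normal := Subgroup.normal_inf_normal L _
      rcases hmax (R ⊔ (L ⊓ zc N)) (Subgroup.sup_normal _ _) le_sup_left (sup_le hRL.le inf_le_left)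
        with e | e
      · exact hyR (e ▸ mem_sup_right ⟨y.2, hz⟩)
      · refine hnab fun a b => ?_
        obtain ⟨a, rfl⟩ := QuotientGroup.mk_surjective a
        obtain ⟨b, rfl⟩ := QuotientGroup.mk_surjective b
        have ha : (a : G) ∈ ((R ⊔ (L ⊓ zc N) : Subgroup G) : Set G) := e.symm ▸ a.2
        rw [Subgroup.normal_mul] at ha
        obtain ⟨r, hr, z, hz, hrz⟩ := ha
        have e1 : (QuotientGroup.mk a : L ⧸ R') = QuotientGroup.mk (⟨z, hz.1⟩ : L) := by
          refine (QuotientGroup.eq).mpr (mem_subgroupOf.mpr ?_)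
          push_cast
          rw [← hrz, mul_inv_rev]
          simpa [mul_assoc] using hRn.conj_mem _ (inv_mem hr) z⁻¹
        rw [e1, ← QuotientGroup.mk_mul, ← QuotientGroup.mk_mul]
        congr 1
        exact Subtype.ext ((zc_mem.mp hz.2).2 b (hLN b.2)).symm
    have hco := h _ (hLN y.2) hyz
    have hle : centralizer ({(y : G)} : Set G) ≤ H28.CharSimple.fixer act (QuotientGroup.mk y) := by
      intro g hg
      rw [H28.CharSimple.mem_fixer, hact]
      congr 1
      exact Subtype.ext (by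
        rw [MulAut.conjNormal_apply, mem_centralizer_singleton_iff.mp hg, mul_inv_cancel_right])
    rcases hco.le_iff.mp hle with e | e
    · exfalso
      rcases hirr (center (L ⧸ R')) (fun g z hz => mem_center_iff.mpr fun c => by
        obtain ⟨c, rfl⟩ := (act g).surjective c
        show act g c * act g z = act g z * act g c
        have hm : ∀ a b, act g (a * b) = act g a * act g b := fun a b => map_mul (F g) a b
        exact (hm c z).symm.trans ((congrArg _ (mem_center_iff.mp hz c)).trans (hm z c))) with e' | e'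
      · refine hy (mem_bot.mp (e' ▸ mem_center_iff.mpr fun c => ?_))
        obtain ⟨c, rfl⟩ := QuotientGroup.mk_surjective c
        have h' : (c : G) ∈ H28.CharSimple.fixer act (QuotientGroup.mk y) := e ▸ mem_top _
        rw [H28.CharSimple.mem_fixer, hact] at h'
        have e2 : MulAut.conjNormal (c : G) y = c * y * c⁻¹ := Subtype.ext (by simp)
        rw [e2, QuotientGroup.mk_mul, QuotientGroup.mk_mul, QuotientGroup.mk_inv,
          mul_inv_eq_iff_eq_mul] at h'
        exact h'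
      · exact hnab fun a b => (mem_center_iff.mp (e' ▸ mem_top a) b).symm
    · rw [e]; exact hco

/-- A normal section above the centre of `N` which is a chief factor. -/
structure IsMinOver (N F : Subgroup G) : Prop where
  normal : F.Normal
  zle : zc N ≤ F
  leN : F ≤ N
  not_le : ¬ F ≤ zc N
  min : ∀ T : Subgroup G, T.Normal → zc N ≤ T → T ≤ F → T = zc N ∨ T = F

theorem exists_minOver {B : Subgroup G} (hB : B.Normal) (hzB : zc N ≤ B) (hBN : B ≤ N)
    (hne : ¬ B ≤ zc N) : ∃ F, IsMinOver N F ∧ F ≤ B := by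
  classical
  set S := {T : Subgroup G | T.Normal ∧ zc N ≤ T ∧ T ≤ B ∧ ¬ T ≤ zc N}
  obtain ⟨F, ⟨hFn, hzF, hFB, hFne⟩, hmin⟩ := Set.exists_min_image S (fun T => Nat.card T)
    (Set.toFinite S) ⟨B, hB, hzB, le_rfl, hne⟩
  refine ⟨F, ⟨hFn, hzF, hFB.trans hBN, hFne, fun T hT hzT hTF => ?_⟩, hFB⟩
  by_cases h : T ≤ zc N
  · exact Or.inl (le_antisymm h hzT)
  · exact Or.inr (eq_of_le_of_card_ge hTF (hmin T ⟨hT, hzT, hTF.trans hFB, h⟩))

theorem comm_sq_zc {a b c : G} (hc : a * b * a⁻¹ * b⁻¹ = c) : a * b = c * (b * a) := by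
  rw [← hc]; group

/-- The chief factor is elementary abelian. -/
theorem minOver_elementary (hs : Group.IsSolvable N) {F : Subgroup G} (hF : IsMinOver N F) :
    (∀ a ∈ F, ∀ b ∈ F, a * b * a⁻¹ * b⁻¹ ∈ zc N) ∧ ∃ q : ℕ, q.Prime ∧ ∀ a ∈ F, a ^ q ∈ zc N := by
  classical
  haveI := hs
  haveI := hF.normal
  haveI : Group.IsSolvable F :=
    Group.isSolvable_of_isSolvable_injective (f := Subgroup.inclusion hF.leN)
      (Subgroup.inclusion_injective _)
  have hFle : ⁅F, F⁆ ≤ F := commutator_le.mpr fun a ha b hb => comm_mem hF.normal hb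
  have hcomm : ∀ a ∈ F, ∀ b ∈ F, a * b * a⁻¹ * b⁻¹ ∈ zc N := by
    haveI : ⁅F, F⁆.Normal := Subgroup.commutator_normal F F
    rcases hF.min (⁅F, F⁆ ⊔ zc N) (Subgroup.sup_normal _ _) le_sup_right (sup_le hFle hF.zle) with e | e
    · intro a ha b hb
      rw [← e]
      exact mem_sup_left (commutatorElement_def a b ▸ commutator_mem_commutator ha hb)
    · exfalso
      -- modulo the centre
      haveI : ((zc N).subgroupOf F).Normal := Subgroup.normal_subgroupOf
      haveI : Nontrivial (F ⧸ (zc N).subgroupOf F) := QuotientGroup.nontrivial_iff.mpr fun h' =>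
        hF.not_le (Subgroup.subgroupOf_eq_top.mp h')
      haveI : Group.IsSolvable (F ⧸ (zc N).subgroupOf F) :=
        Group.isSolvable_of_surjective (f := QuotientGroup.mk' _) (QuotientGroup.mk'_surjective _)
      refine (Group.IsSolvable.commutator_lt_top_of_nontrivial
        (G := F ⧸ (zc N).subgroupOf F)).ne ?_
      rw [eq_top_iff]
      intro y _
      obtain ⟨y, rfl⟩ := QuotientGroup.mk'_surjective _ y
      have hle : ⁅F, F⁆ ⊔ zc N ≤ (commutator F ⊔ (zc N).subgroupOf F).map F.subtype := by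
        rw [Subgroup.map_sup, subgroupOf_map_subtype, _root_.commutator_def, map_commutator,
          ← MonoidHom.range_eq_map, range_subtype]
        exact sup_le_sup_left (le_inf le_rfl hF.zle) _
      obtain ⟨m, hm, hmn⟩ : (y : G) ∈ (commutator F ⊔ (zc N).subgroupOf F).map F.subtype :=
        hle (by rw [e]; exact y.2)
      have hmn' : m = y := Subtype.ext hmn
      rw [← hmn']
      have hle2 : commutator F ⊔ (zc N).subgroupOf F ≤
          (commutator (F ⧸ (zc N).subgroupOf F)).comap (QuotientGroup.mk' _) := sup_le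
        (by rw [← map_le_iff_le_comap, _root_.commutator_def, map_commutator, _root_.commutator_def]
            exact commutator_mono le_top le_top)
        (fun z hz => by
          rw [mem_comap, show QuotientGroup.mk' ((zc N).subgroupOf F) z = 1 from
            (QuotientGroup.eq_one_iff z).mpr hz]
          exact one_mem _)
      exact hle2 hm
  refine ⟨hcomm, ?_⟩
  obtain ⟨f, hf, hfz⟩ := SetLike.not_le_iff_exists.mp hF.not_le
  -- a prime
  obtain ⟨q, hq, w, hw, hwz, hwq⟩ : ∃ q : ℕ, q.Prime ∧ ∃ w ∈ F, w ∉ zc N ∧ w ^ q ∈ zc N := by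
    have key : ∀ k, ∀ w ∈ F, orderOf w = k → w ∉ zc N →
        ∃ q : ℕ, q.Prime ∧ ∃ w ∈ F, w ∉ zc N ∧ w ^ q ∈ zc N := by
      intro k
      induction' k using Nat.strong_induction_on with k ih
      intro w hw hk hwz
      have hk1 : k ≠ 1 := fun e => hwz (by
        rw [e] at hk; rw [orderOf_eq_one_iff.mp hk]; exact one_mem _)
      obtain ⟨q, hq, hd⟩ := Nat.exists_prime_and_dvd hk1
      by_cases hz : w ^ q ∈ zc N
      · exact ⟨q, hq, w, hw, hwz, hz⟩
      · refine ih _ ?_ _ (F.pow_mem hw q) rfl hz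
        rw [orderOf_pow_of_dvd hq.ne_zero (hk ▸ hd), hk]
        exact Nat.div_lt_self (hk ▸ orderOf_pos w) hq.one_lt
    exact key _ f hf rfl hfz
  refine ⟨q, hq, ?_⟩
  let T : Subgroup G :=
    { carrier := {t | t ∈ F ∧ t ^ q ∈ zc N}
      one_mem' := ⟨one_mem _, by rw [one_pow]; exact one_mem _⟩
      mul_mem' := by
        rintro a b ⟨ha, ha'⟩ ⟨hb, hb'⟩
        refine ⟨F.mul_mem ha hb, ?_⟩
        rw [← QuotientGroup.eq_one_iff, QuotientGroup.mk_pow, QuotientGroup.mk_mul]
        have hab : Commute (QuotientGroup.mk a : G ⧸ zc N) (QuotientGroup.mk b) := by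
          have := hcomm a ha b hb
          rw [← QuotientGroup.eq_one_iff] at this
          simp only [QuotientGroup.mk_mul, QuotientGroup.mk_inv] at this
          rw [mul_inv_eq_one] at this
          exact mul_inv_eq_iff_eq_mul.mp this
        rw [hab.mul_pow, ← QuotientGroup.mk_pow, ← QuotientGroup.mk_pow,
          (QuotientGroup.eq_one_iff _).mpr ha', (QuotientGroup.eq_one_iff _).mpr hb', one_mul]
      inv_mem' := by
        rintro a ⟨ha, ha'⟩
        exact ⟨inv_mem ha, by rw [inv_pow]; exact inv_mem ha'⟩ }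
  have hTn : T.Normal := ⟨fun t ht g => ⟨hF.normal.conj_mem t ht.1 g, by
    rw [conj_pow]; exact zc_normal.conj_mem _ ht.2 g⟩⟩
  rcases hF.min T hTn (fun z hz => ⟨hF.zle hz, pow_mem hz q⟩) (fun t ht => ht.1) with e | e
  · exact absurd (e ▸ (⟨hw, hwq⟩ : w ∈ T) : w ∈ zc N) hwz
  · intro a ha
    exact ((e.symm ▸ ha : a ∈ T)).2

/-- Outside class two, a chief factor above the centre is self-centralizing and abelian. -/
theorem minOver_self_centralizing (h : Hyp N)
    (h2 : ¬ ∀ a ∈ N, ∀ b ∈ N, a * b * a⁻¹ * b⁻¹ ∈ zc N) {F : Subgroup G} (hF : IsMinOver N F) :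
    N ⊓ centralizer (F : Set G) = F ∧ ∀ y ∈ N, y ∉ F → F ⊓ centralizer ({y} : Set G) ≤ zc N := by
  classical
  haveI := hF.normal
  obtain ⟨hcomm, q, hq, hqpow⟩ := minOver_elementary (solvable h) hF
  haveI := Fact.mk hq
  have hdich : ∀ y ∈ N, y ∉ zc N → ¬ F ≤ centralizer ({y} : Set G) →
      F ⊓ centralizer ({y} : Set G) ≤ zc N := by
    intro y hy hyz hle
    set M := centralizer ({y} : Set G)
    have hn : (F ⊓ M).Normal := by
      refine normalizer_eq_top_iff.mp ?_
      rw [eq_top_iff, ← sup_cent_eq_top h hy hyz hle, sup_le_iff]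
      refine ⟨fun m hm => ?_, fun f hf => ?_⟩
      · rw [mem_normalizer_iff]
        intro w
        exact ⟨fun h' => ⟨hF.normal.conj_mem w h'.1 m, M.mul_mem (M.mul_mem hm h'.2) (M.inv_mem hm)⟩,
          fun h' => ⟨by simpa [mul_assoc] using hF.normal.conj_mem _ h'.1 m⁻¹, by
            simpa [mul_assoc] using M.mul_mem (M.mul_mem (M.inv_mem hm) h'.2) hm⟩⟩
      · have key : ∀ f ∈ F, ∀ w ∈ F ⊓ M, f * w * f⁻¹ ∈ F ⊓ M := by
          intro f hf w hw
          rw [show f * w * f⁻¹ = (f * w * f⁻¹ * w⁻¹) * w by group]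
          exact mul_mem ⟨hF.zle (hcomm f hf w hw.1), zc_le_cent hy (hcomm f hf w hw.1)⟩ hw
        rw [mem_normalizer_iff]
        intro w
        exact ⟨key f hf w, fun h' => by simpa [mul_assoc] using key f⁻¹ (F.inv_mem hf) _ h'⟩
    rcases hF.min (F ⊓ M) hn (le_inf hF.zle (zc_le_cent hy)) inf_le_left with e | e
    · exact e.le
    · exact absurd (inf_eq_left.mp e) hle
  -- the factor is abelian
  have hFc : ∀ a ∈ F, ∀ b ∈ F, a * b = b * a := by
    intro a ha b hb
    by_cases haz : a ∈ zc N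
    · exact ((zc_mem.mp haz).2 b (hF.leN hb)).symm
    have hle : F ≤ centralizer ({a} : Set G) := by
      by_contra hle
      exact haz (hdich a (hF.leN ha) haz hle ⟨ha, mem_centralizer_singleton_iff.mpr rfl⟩)
    exact (mem_centralizer_singleton_iff.mp (hle hb)).symm
  set C := N ⊓ centralizer (F : Set G) with hC
  have hFC : F ≤ C := le_inf hF.leN fun f hf => mem_centralizer_iff.mpr fun g hg => hFc g hg f hf
  have hnotC : ∀ y ∈ N, y ∉ C → y ∉ zc N ∧ ¬ F ≤ centralizer ({y} : Set G) := fun y hy hyC =>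
    ⟨fun hz => hyC ⟨hy, mem_centralizer_iff.mpr fun f hf => (zc_mem.mp hz).2 f (hF.leN hf)⟩,
      fun hle => hyC ⟨hy, mem_centralizer_iff.mpr fun f hf =>
        mem_centralizer_singleton_iff.mp (hle hf)⟩⟩
  haveI hCn : C.Normal := by
    haveI : (centralizer (F : Set G)).Normal := Subgroup.normal_centralizer
    exact Subgroup.normal_inf_normal N _
  -- the complement in `C`
  have hsmall : ∀ y ∈ N, y ∉ C → C ⊓ centralizer ({y} : Set G) ≤ zc N := by
    intro y hy hyC
    by_contra hbig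
    obtain ⟨hyz, hyF⟩ := hnotC y hy hyC
    have hFy := hdich y hy hyz hyF
    set M := centralizer ({y} : Set G)
    set D := C ⊓ M
    obtain ⟨d0, hd0, hd0z⟩ := SetLike.not_le_iff_exists.mp hbig
    have hdec : ∀ g : G, ∃ f ∈ F, ∃ c ∈ M, g = f * c := exists_decomp h hy hyz hyF
    haveI hDn : D.Normal := by
      refine ⟨fun d hd g => ?_⟩
      obtain ⟨f, hf, c, hc, rfl⟩ := hdec g
      have h1 : c * d * c⁻¹ ∈ D :=
        ⟨hCn.conj_mem d hd.1 c, M.mul_mem (M.mul_mem hc hd.2) (M.inv_mem hc)⟩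
      have e : f * c * d * (f * c)⁻¹ = c * d * c⁻¹ := by
        rw [show f * c * d * (f * c)⁻¹ = f * (c * d * c⁻¹) * f⁻¹ by group,
          mem_centralizer_iff.mp h1.1.2 f hf, mul_inv_cancel_right]
      rw [e]; exact h1
    -- central modulo `zc N`
    have hcm : ∀ x ∈ F, x ∉ zc N → ∀ d ∈ D, d ∉ zc N → ∀ g : G,
        g * x * g⁻¹ * x⁻¹ ∈ zc N ∧ g * d * g⁻¹ * d⁻¹ ∈ zc N := by
      intro x hx hxz d hd hdz
      have hxd : x * d ∉ zc N := fun hz => hxz (by
        have hxM : x * d ∈ M := zc_le_cent hy hz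
        have : x ∈ M := by simpa using M.mul_mem hxM (M.inv_mem hd.2)
        exact hFy ⟨hx, this⟩)
      have hxdC : Commute x d := mem_centralizer_iff.mp hd.1.2 x hx
      have hxN := hF.leN hx
      have hdN : d ∈ N := hd.1.1
      -- the three centralizers
      let H : ∀ w : G, Subgroup G := fun w =>
        { carrier := {g | g * w * g⁻¹ * w⁻¹ ∈ zc N}
          one_mem' := by simp
          mul_mem' := fun {a b} ha hb => by
            show a * b * w * (a * b)⁻¹ * w⁻¹ ∈ zc N
            rw [show a * b * w * (a * b)⁻¹ * w⁻¹ =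
              a * (b * w * b⁻¹ * w⁻¹) * a⁻¹ * (a * w * a⁻¹ * w⁻¹) by group]
            exact mul_mem (zc_normal.conj_mem _ hb a) ha
          inv_mem' := fun {a} ha => by
            show a⁻¹ * w * a⁻¹⁻¹ * w⁻¹ ∈ zc N
            rw [show a⁻¹ * w * a⁻¹⁻¹ * w⁻¹ = a⁻¹ * (a * w * a⁻¹ * w⁻¹)⁻¹ * a⁻¹⁻¹ by group]
            exact zc_normal.conj_mem _ (inv_mem ha) _ }
      have hMle : ∀ w : G, centralizer ({w} : Set G) ≤ H w := fun w g hg => by
        show g * w * g⁻¹ * w⁻¹ ∈ zc N
        rw [mem_centralizer_singleton_iff.mp hg, mul_inv_cancel_right, mul_inv_cancel]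
        exact one_mem _
      have hprod : ∀ g ∈ centralizer ({x * d} : Set G),
          g * x * g⁻¹ * x⁻¹ ∈ zc N ∧ g * d * g⁻¹ * d⁻¹ ∈ zc N := by
        intro g hg
        have e : (g * x * g⁻¹) * (g * d * g⁻¹) = x * d := by
          rw [show (g * x * g⁻¹) * (g * d * g⁻¹) = g * (x * d) * g⁻¹ by group,
            mem_centralizer_singleton_iff.mp hg, mul_inv_cancel_right]
        set x' := g * x * g⁻¹ with hx'
        set d' := g * d * g⁻¹ with hd'
        have hx'F : x' ∈ F := hF.normal.conj_mem x hx g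
        have hd'D : d' ∈ D := hDn.conj_mem d hd g
        have hmemz : x⁻¹ * x' ∈ zc N := by
          refine hFy ⟨F.mul_mem (F.inv_mem hx) hx'F, ?_⟩
          have : x⁻¹ * x' = d * d'⁻¹ := by
            rw [inv_mul_eq_iff_eq_mul, ← mul_assoc, ← e, mul_inv_cancel_right]
          rw [this]
          exact M.mul_mem hd.2 (M.inv_mem hd'D.2)
        have h1 : x' * x⁻¹ ∈ zc N := by
          have := zc_normal.conj_mem _ hmemz x
          simpa [mul_assoc] using this
        have hdd : d' = x'⁻¹ * x * d := by rw [mul_assoc, ← e, inv_mul_cancel_left]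
        refine ⟨h1, ?_⟩
        rw [hdd, mul_inv_cancel_right, show x'⁻¹ * x = (x⁻¹ * x')⁻¹ by group]
        exact inv_mem hmemz
      have hne : centralizer ({d} : Set G) ≠ centralizer ({x} : Set G) := fun e => by
        have : y ∈ centralizer ({x} : Set G) := e ▸ mem_centralizer_singleton_iff.mpr
          (mem_centralizer_singleton_iff.mp hd.2).symm
        exact hxz (hFy ⟨hx, mem_centralizer_singleton_iff.mpr (mem_centralizer_singleton_iff.mp this).symm⟩)
      have hcxd := h _ (N.mul_mem hxN hdN) hxd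
      have hHx : H x = ⊤ := by
        refine ((h x hxN hxz).le_iff.mp (hMle x)).resolve_right fun e => hne ?_
        have h1 : centralizer ({x} : Set G) = centralizer ({x * d} : Set G) :=
          (hcxd.le_iff.mp (fun g hg => e ▸ (hprod g hg).1)).resolve_left (h x hxN hxz).1
        refine (((h x hxN hxz).le_iff.mp fun g hg => ?_).resolve_left (h d hdN hdz).1)
        have hg1 : Commute g (x * d) := mem_centralizer_singleton_iff.mp (h1 ▸ hg)
        have hg2 : Commute g x := mem_centralizer_singleton_iff.mp hg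
        refine mem_centralizer_singleton_iff.mpr ?_
        have := hg2.inv_right.mul_right hg1
        rw [inv_mul_cancel_left] at this
        exact this.eq
      have hHd : H d = ⊤ := by
        refine ((h d hdN hdz).le_iff.mp (hMle d)).resolve_right fun e => hne ?_
        have h1 : centralizer ({d} : Set G) = centralizer ({x * d} : Set G) :=
          (hcxd.le_iff.mp (fun g hg => e ▸ (hprod g hg).2)).resolve_left (h d hdN hdz).1
        refine (((h d hdN hdz).le_iff.mp fun g hg => ?_).resolve_left (h x hxN hxz).1).symm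
        have hg1 : Commute g (x * d) := mem_centralizer_singleton_iff.mp (h1 ▸ hg)
        have hg2 : Commute g d := mem_centralizer_singleton_iff.mp hg
        refine mem_centralizer_singleton_iff.mpr ?_
        have := hg1.mul_right hg2.inv_right
        rw [mul_inv_cancel_right] at this
        exact this.eq
      exact fun g => ⟨(hHx ▸ mem_top g : g ∈ H x), (hHd ▸ mem_top g : g ∈ H d)⟩
    obtain ⟨x0, hx0, hx0z⟩ := SetLike.not_le_iff_exists.mp hF.not_le
    have hcentral : ∀ c ∈ C, ∀ g : G, g * c * g⁻¹ * c⁻¹ ∈ zc N := by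
      intro c hc g
      obtain ⟨f, hf, m, hm, rfl⟩ := hdec c
      have hmD : m ∈ D := ⟨by simpa using C.mul_mem (C.inv_mem (hFC hf)) hc, hm⟩
      rw [show g * (f * m) * g⁻¹ * (f * m)⁻¹ =
        (g * f * g⁻¹ * f⁻¹) * (f * (g * m * g⁻¹ * m⁻¹) * f⁻¹) by group]
      refine mul_mem ?_ (zc_normal.conj_mem _ ?_ f)
      · by_cases hfz : f ∈ zc N
        · exact mul_mem (zc_normal.conj_mem _ hfz g) (inv_mem hfz)
        · exact (hcm f hf hfz d0 hd0 hd0z g).1
      · by_cases hmz : m ∈ zc N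
        · exact mul_mem (zc_normal.conj_mem _ hmz g) (inv_mem hmz)
        · exact (hcm x0 hx0 hx0z m hmD hmz g).2
    -- `N` is nilpotent
    apply h2
    refine class_two_of_nilpotent h ?_
    haveI : (C.subgroupOf N).Normal := Subgroup.normal_subgroupOf
    haveI : ((zc N).subgroupOf N).Normal := Subgroup.normal_subgroupOf
    have hq' : IsPGroup q (N ⧸ C.subgroupOf N) := by
      intro w
      obtain ⟨⟨n, hn⟩, rfl⟩ := QuotientGroup.mk_surjective w
      refine ⟨(orderOf n).factorization q, ?_⟩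
      rw [← QuotientGroup.mk_pow, QuotientGroup.eq_one_iff, mem_subgroupOf]
      set a := n ^ q ^ (orderOf n).factorization q
      refine ⟨N.pow_mem hn _, mem_centralizer_iff.mpr fun f hf => ?_⟩
      set c := a * f * a⁻¹ * f⁻¹ with hc
      have hcz : c ∈ zc N := hcentral f (hFC hf) a
      have hc' := zc_mem.mp hcz
      have e0 : a * f * a⁻¹ = c * f := by rw [hc]; group
      have hcf : Commute c f := (hc'.2 f (hF.leN hf)).symm
      have e1 : c ^ q = 1 := by
        have hfq := zc_mem.mp (hqpow f hf)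
        have e : (a * f * a⁻¹) ^ q = f ^ q := by
          rw [conj_pow, hfq.2 a (N.pow_mem hn _), mul_inv_cancel_right]
        rwa [e0, hcf.mul_pow, mul_eq_right] at e
      have e2 : ∀ i : ℕ, a ^ i * f = c ^ i * f * a ^ i := by
        intro i
        induction i with
        | zero => simp
        | succ i ih =>
          have hca : Commute c (a ^ i) := ((show Commute a c from hc'.2 a (N.pow_mem hn _)).symm).pow_right i
          calc a ^ (i + 1) * f = a ^ i * (c * f * a) := by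
                rw [pow_succ, mul_assoc, ← e0]; group
            _ = c * (a ^ i * f) * a := by
                rw [← mul_assoc, ← mul_assoc, ← hca.eq]; simp only [mul_assoc]
            _ = c ^ (i + 1) * f * a ^ (i + 1) := by
                rw [ih, pow_succ' c, pow_succ a]; simp only [mul_assoc]
      have e3 : c ^ orderOf a = 1 := by
        have := e2 (orderOf a)
        rwa [pow_orderOf_eq_one, one_mul, mul_one, eq_comm, mul_eq_right] at this
      have hco : Nat.Coprime q (orderOf a) := by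
        refine hq.coprime_iff_not_dvd.mpr ?_
        rw [orderOf_pow_of_dvd (pow_ne_zero _ hq.ne_zero) (Nat.ordProj_dvd _ _)]
        exact Nat.not_dvd_ordCompl hq (orderOf_pos n).ne'
      have hc1 : c = 1 := orderOf_eq_one_iff.mp (Nat.eq_one_of_dvd_coprimes hco
        (orderOf_dvd_of_pow_eq_one e1) (orderOf_dvd_of_pow_eq_one e3))
      rw [hc1, one_mul] at e0
      exact (mul_inv_eq_iff_eq_mul.mp e0).symm
    haveI := hq'.isNilpotent
    haveI : Group.IsNilpotent (N ⧸ (zc N).subgroupOf N) := by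
      refine Subgroup.isNilpotent_of_ker_le_center
        (QuotientGroup.map ((zc N).subgroupOf N) (C.subgroupOf N) (MonoidHom.id N)
          (fun z hz => mem_subgroupOf.mpr (hFC (hF.zle (mem_subgroupOf.mp hz))))) ?_
      intro w hw
      obtain ⟨w, rfl⟩ := QuotientGroup.mk_surjective w
      have hwC : (w : G) ∈ C := mem_subgroupOf.mp ((QuotientGroup.eq_one_iff w).mp (MonoidHom.mem_ker.mp hw))
      rw [mem_center_iff]
      intro g
      obtain ⟨g, rfl⟩ := QuotientGroup.mk_surjective g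
      rw [← mul_inv_eq_iff_eq_mul, ← mul_inv_eq_one, ← QuotientGroup.mk_mul, ← QuotientGroup.mk_inv,
        ← QuotientGroup.mk_mul, ← QuotientGroup.mk_inv, ← QuotientGroup.mk_mul, QuotientGroup.eq_one_iff,
        mem_subgroupOf]
      exact hcentral w hwC g
    refine Subgroup.isNilpotent_of_ker_le_center (QuotientGroup.mk' ((zc N).subgroupOf N)) ?_
    rw [QuotientGroup.ker_mk']
    intro w hw
    rw [mem_center_iff]
    exact fun g => Subtype.ext ((zc_mem.mp (mem_subgroupOf.mp hw)).2 g g.2)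
  have hCF : C = F := by
    refine le_antisymm (fun c hc => ?_) hFC
    obtain ⟨y, hy, hyC⟩ : ∃ y ∈ N, y ∉ C := by
      by_contra hall
      push Not at hall
      exact hF.not_le fun f hf => zc_mem.mpr ⟨hF.leN hf, fun n hn =>
        (mem_centralizer_iff.mp (hall n hn).2 f hf).symm⟩
    obtain ⟨hyz, hyF⟩ := hnotC y hy hyC
    obtain ⟨f, hf, m, hm, rfl⟩ := exists_decomp h hy hyz hyF c
    have hmC : m ∈ C := by simpa using C.mul_mem (C.inv_mem (hFC hf)) hc
    exact mul_mem hf (hF.zle (hsmall y hy hyC ⟨hmC, hm⟩))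
  refine ⟨hCF, fun y hy hyF => ?_⟩
  obtain ⟨hyz, hyF'⟩ := hnotC y hy (hCF ▸ hyF)
  exact hdich y hy hyz hyF'

/-- The structure outside class two. -/
theorem frobenius_structure (h : Hyp N)
    (h2 : ¬ ∀ a ∈ N, ∀ b ∈ N, a * b * a⁻¹ * b⁻¹ ∈ zc N) :
    ∃ (F : Subgroup G) (y : G) (q r : ℕ), q.Prime ∧ r.Prime ∧ F.Normal ∧ zc N ≤ F ∧ F ≤ N ∧
      ¬ F ≤ zc N ∧ (∀ a ∈ F, ∀ b ∈ F, a * b * a⁻¹ * b⁻¹ ∈ zc N) ∧ (∀ a ∈ F, a ^ q ∈ zc N) ∧
      y ∈ N ∧ y ∉ F ∧ y ^ r ∈ zc N ∧ (∀ n ∈ N, ∃ k : ℕ, n * y ^ k ∈ F) ∧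
      ∀ n ∈ N, n ∉ F → ∀ f ∈ F, n * f * n⁻¹ * f⁻¹ ∈ zc N → f ∈ zc N := by
  classical
  have hne : ¬ N ≤ zc N := fun hle => h2 fun a ha b hb => hle (comm_mem hN hb)
  obtain ⟨F, hF, -⟩ := exists_minOver hN inf_le_left le_rfl hne
  haveI := hF.normal
  obtain ⟨hCF, hfix⟩ := minOver_self_centralizing h h2 hF
  obtain ⟨hFcomm, q, hq, hqpow⟩ := minOver_elementary (solvable h) hF
  haveI := Fact.mk hq
  have hFne : ¬ N ≤ F := fun hle => h2 fun a ha b hb => hFcomm a (hle ha) b (hle hb)
  -- an element of order prime to `q`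
  have hqelem : ∀ a ∈ N, ¬ q ∣ orderOf a → a ∈ F → a ∈ zc N := by
    intro a _ hd haF
    obtain ⟨t, ht⟩ := exists_pow_eq_self_of_coprime (x := a) (n := q) (hq.coprime_iff_not_dvd.mpr hd)
    rw [← ht]
    exact pow_mem (hqpow a haF) t
  obtain ⟨n0, hn0, hn0q, hn0z⟩ : ∃ n ∈ N, ¬ q ∣ orderOf n ∧ n ∉ zc N := by
    by_contra hall
    push Not at hall
    apply h2
    refine class_two_of_nilpotent h ?_
    haveI : ((zc N).subgroupOf N).Normal := Subgroup.normal_subgroupOf
    have hp : IsPGroup q (N ⧸ (zc N).subgroupOf N) := by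
      intro w
      obtain ⟨⟨n, hn⟩, rfl⟩ := QuotientGroup.mk_surjective w
      refine ⟨(orderOf n).factorization q, ?_⟩
      rw [← QuotientGroup.mk_pow, QuotientGroup.eq_one_iff, mem_subgroupOf]
      refine hall _ (N.pow_mem hn _) ?_
      push_cast
      rw [orderOf_pow_of_dvd (pow_ne_zero _ hq.ne_zero) (Nat.ordProj_dvd _ _)]
      exact Nat.not_dvd_ordCompl hq (orderOf_pos n).ne'
    haveI := hp.isNilpotent
    refine Subgroup.isNilpotent_of_ker_le_center (QuotientGroup.mk' ((zc N).subgroupOf N)) ?_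
    rw [QuotientGroup.ker_mk']
    intro w hw
    rw [mem_center_iff]
    exact fun g => Subtype.ext ((zc_mem.mp (mem_subgroupOf.mp hw)).2 g g.2)
  have hn0F : n0 ∉ F := fun hF' => hn0z (hqelem n0 hn0 hn0q hF')
  -- elements acting trivially modulo the centre
  let B : Subgroup G :=
    { carrier := {b | b ∈ N ∧ ∀ f ∈ F, b * f * b⁻¹ * f⁻¹ ∈ zc N}
      one_mem' := ⟨one_mem _, fun f _ => by simp⟩
      mul_mem' := by
        rintro a b ⟨ha, ha'⟩ ⟨hb, hb'⟩
        refine ⟨N.mul_mem ha hb, fun f hf => ?_⟩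
        rw [show a * b * f * (a * b)⁻¹ * f⁻¹ =
          a * (b * f * b⁻¹ * f⁻¹) * a⁻¹ * (a * f * a⁻¹ * f⁻¹) by group]
        exact mul_mem (zc_normal.conj_mem _ (hb' f hf) a) (ha' f hf)
      inv_mem' := by
        rintro a ⟨ha, ha'⟩
        refine ⟨inv_mem ha, fun f hf => ?_⟩
        rw [show a⁻¹ * f * a⁻¹⁻¹ * f⁻¹ = a⁻¹ * (a * f * a⁻¹ * f⁻¹)⁻¹ * a⁻¹⁻¹ by group]
        exact zc_normal.conj_mem _ (inv_mem (ha' f hf)) _ }
  have hBn : B.Normal := ⟨fun b hb g => ⟨hN.conj_mem b hb.1 g, fun f hf => by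
    have hf' : g⁻¹ * f * g ∈ F := by simpa using hF.normal.conj_mem f hf g⁻¹
    rw [show g * b * g⁻¹ * f * (g * b * g⁻¹)⁻¹ * f⁻¹ =
      g * (b * (g⁻¹ * f * g) * b⁻¹ * (g⁻¹ * f * g)⁻¹) * g⁻¹ by group]
    exact zc_normal.conj_mem _ (hb.2 _ hf') g⟩⟩
  have hBF : B ≤ F := by
    set M := centralizer ({n0} : Set G)
    have hn0z' : ¬ F ≤ M := fun hle => hn0z (hqelem n0 hn0 hn0q (hCF ▸ ⟨hn0,
      mem_centralizer_iff.mpr fun f hf => mem_centralizer_singleton_iff.mp (hle hf)⟩))
    have hdec : ∀ g : G, ∃ f ∈ F, ∃ c ∈ M, g = f * c := exists_decomp h hn0 hn0z hn0z'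
    haveI hB'n : (B ⊓ M).Normal := by
      refine ⟨fun b hb g => ?_⟩
      obtain ⟨f, hf, c, hc, rfl⟩ := hdec g
      have h1 : c * b * c⁻¹ ∈ B ⊓ M :=
        ⟨hBn.conj_mem b hb.1 c, M.mul_mem (M.mul_mem hc hb.2) (M.inv_mem hc)⟩
      have h3 := inv_mem (h1.1.2 f hf)
      rw [show f * c * b * (f * c)⁻¹ =
        ((c * b * c⁻¹) * f * (c * b * c⁻¹)⁻¹ * f⁻¹)⁻¹ * (c * b * c⁻¹) by group]
      exact mul_mem ⟨⟨h3.1, fun f' hf' => by
        rw [← (zc_mem.mp h3).2 f' (hF.leN hf'), mul_inv_cancel_right, mul_inv_cancel]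
        exact one_mem _⟩, zc_le_cent hn0 h3⟩ h1
    intro b hb
    obtain ⟨f, hf, m, hm, rfl⟩ := hdec b
    have hfB : f ∈ B := ⟨hF.leN hf, fun f' hf' => hFcomm f hf f' hf'⟩
    have hmB : m ∈ B := by simpa using B.mul_mem (B.inv_mem hfB) hb
    refine mul_mem hf ?_
    by_contra hmF
    have hzB : zc N ≤ B ⊓ M := fun z hz => ⟨⟨hz.1, fun f' hf' => by
        rw [← (zc_mem.mp hz).2 f' (hF.leN hf'), mul_inv_cancel_right, mul_inv_cancel]
        exact one_mem _⟩, zc_le_cent hn0 hz⟩
    obtain ⟨F2, hF2, hF2B⟩ := exists_minOver hB'n hzB (fun b hb => hb.1.1)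
      (fun hle => hmF (hF.zle (hle ⟨hmB, hm⟩)))
    have hn0F2 : n0 ∈ F2 := (minOver_self_centralizing h h2 hF2).1 ▸
      ⟨hn0, mem_centralizer_iff.mpr fun f' hf' =>
        mem_centralizer_singleton_iff.mp (hF2B hf').2⟩
    have hn0B : n0 ∈ B := (hF2B hn0F2).1
    -- `n0` has order prime to `q` modulo the centre
    refine hn0z' fun f' hf' => ?_
    set c := n0 * f' * n0⁻¹ * f'⁻¹ with hc
    have hcz := zc_mem.mp (hn0B.2 f' hf')
    have e0 : n0 * f' * n0⁻¹ = c * f' := by rw [hc]; group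
    have hcf : Commute c f' := (hcz.2 f' (hF.leN hf')).symm
    have e1 : c ^ q = 1 := by
      have hfq := zc_mem.mp (hqpow f' hf')
      have e : (n0 * f' * n0⁻¹) ^ q = f' ^ q := by
        rw [conj_pow, hfq.2 n0 hn0, mul_inv_cancel_right]
      rwa [e0, hcf.mul_pow, mul_eq_right] at e
    have e2 : ∀ i : ℕ, n0 ^ i * f' = c ^ i * f' * n0 ^ i := by
      intro i
      induction i with
      | zero => simp
      | succ i ih =>
        have hca : Commute c (n0 ^ i) := ((show Commute n0 c from hcz.2 n0 hn0).symm).pow_right i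
        calc n0 ^ (i + 1) * f' = n0 ^ i * (c * f' * n0) := by
              rw [pow_succ, mul_assoc, ← e0]; group
          _ = c * (n0 ^ i * f') * n0 := by
              rw [← mul_assoc, ← mul_assoc, ← hca.eq]; simp only [mul_assoc]
          _ = c ^ (i + 1) * f' * n0 ^ (i + 1) := by
              rw [ih, pow_succ' c, pow_succ n0]; simp only [mul_assoc]
    have e3 : c ^ orderOf n0 = 1 := by
      have := e2 (orderOf n0)
      rwa [pow_orderOf_eq_one, one_mul, mul_one, eq_comm, mul_eq_right] at this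
    have hc1 : c = 1 := orderOf_eq_one_iff.mp (Nat.eq_one_of_dvd_coprimes
      (hq.coprime_iff_not_dvd.mpr hn0q) (orderOf_dvd_of_pow_eq_one e1) (orderOf_dvd_of_pow_eq_one e3))
    rw [hc1, one_mul] at e0
    exact mem_centralizer_singleton_iff.mpr (mul_inv_eq_iff_eq_mul.mp e0).symm
  -- `N / F` is abelian
  have habF : ∀ a ∈ N, ∀ b ∈ N, a * b * a⁻¹ * b⁻¹ ∈ F := by
    intro a ha b hb
    by_cases haF : a ∈ F
    · rw [show a * b * a⁻¹ * b⁻¹ = a * (b * a⁻¹ * b⁻¹) by group]
      exact mul_mem haF (hF.normal.conj_mem _ (inv_mem haF) b)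
    have haz : a ∉ zc N := fun hz => haF (hF.zle hz)
    have hle : ¬ F ≤ centralizer ({a} : Set G) := fun hle => haF (hCF ▸
      ⟨ha, mem_centralizer_iff.mpr fun f hf => mem_centralizer_singleton_iff.mp (hle hf)⟩)
    obtain ⟨f, hf, c, hc, rfl⟩ := exists_decomp h ha haz hle b
    have hac : a * c * a⁻¹ = c := by
      rw [← mem_centralizer_singleton_iff.mp hc, mul_inv_cancel_right]
    have e : a * (f * c) * a⁻¹ * (f * c)⁻¹ = a * f * a⁻¹ * f⁻¹ := by
      calc a * (f * c) * a⁻¹ * (f * c)⁻¹ = (a * f * a⁻¹) * (a * c * a⁻¹) * c⁻¹ * f⁻¹ := by group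
        _ = a * f * a⁻¹ * f⁻¹ := by rw [hac, mul_inv_cancel_right]
    rw [e]
    exact mul_mem (hF.normal.conj_mem f hf a) (inv_mem hf)
  have habmk : ∀ a ∈ N, ∀ b ∈ N, Commute (QuotientGroup.mk a : G ⧸ F) (QuotientGroup.mk b) := by
    intro a ha b hb
    have := habF a ha b hb
    rw [← QuotientGroup.eq_one_iff] at this
    simp only [QuotientGroup.mk_mul, QuotientGroup.mk_inv] at this
    rw [mul_inv_eq_one] at this
    exact mul_inv_eq_iff_eq_mul.mp this
  have powSub : ∀ l : ℕ, ∃ T : Subgroup G, T.Normal ∧ ∀ t, t ∈ T ↔ t ∈ N ∧ t ^ l ∈ F := by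
    intro l
    refine ⟨{ carrier := {t | t ∈ N ∧ t ^ l ∈ F}
              one_mem' := ⟨one_mem _, by rw [one_pow]; exact one_mem _⟩
              mul_mem' := ?_
              inv_mem' := ?_ }, ⟨fun t ht g => ⟨hN.conj_mem t ht.1 g, by
                rw [conj_pow]; exact hF.normal.conj_mem _ ht.2 g⟩⟩, fun t => Iff.rfl⟩
    · rintro a b ⟨ha, ha'⟩ ⟨hb, hb'⟩
      refine ⟨N.mul_mem ha hb, ?_⟩
      rw [← QuotientGroup.eq_one_iff, QuotientGroup.mk_pow, QuotientGroup.mk_mul,
        (habmk a ha b hb).mul_pow, ← QuotientGroup.mk_pow, ← QuotientGroup.mk_pow,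
        (QuotientGroup.eq_one_iff _).mpr ha', (QuotientGroup.eq_one_iff _).mpr hb', one_mul]
    · rintro a ⟨ha, ha'⟩
      exact ⟨inv_mem ha, by rw [inv_pow]; exact inv_mem ha'⟩
  -- no element of order `q` modulo `F`
  have hnoq : ∀ t ∈ N, t ^ q ∈ F → t ∈ F := by
    obtain ⟨T, hTn, hT⟩ := powSub q
    haveI := hTn
    have hFT : F ≤ T := fun f hf => (hT f).mpr ⟨hF.leN hf, pow_mem hf q⟩
    haveI : ((zc N).subgroupOf T).Normal := Subgroup.normal_subgroupOf
    have hp : IsPGroup q (T ⧸ (zc N).subgroupOf T) := by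
      intro w
      obtain ⟨⟨t, ht⟩, rfl⟩ := QuotientGroup.mk_surjective w
      refine ⟨2, ?_⟩
      rw [← QuotientGroup.mk_pow, QuotientGroup.eq_one_iff, mem_subgroupOf, pow_two]
      show t ^ (q * q) ∈ zc N
      rw [pow_mul]
      exact hqpow _ ((hT t).mp ht).2
    set Fb := (F.subgroupOf T).map (QuotientGroup.mk' ((zc N).subgroupOf T)) with hFb
    haveI : Fb.Normal := (Subgroup.normal_subgroupOf (H := T) (N := F)).map _
      (QuotientGroup.mk'_surjective _)
    have hFb1 : Fb ≠ ⊥ := by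
      intro e
      obtain ⟨f, hf, hfz⟩ := SetLike.not_le_iff_exists.mp hF.not_le
      have : QuotientGroup.mk' _ (⟨f, hFT hf⟩ : T) ∈ Fb := ⟨_, mem_subgroupOf.mpr hf, rfl⟩
      rw [e, mem_bot] at this
      exact hfz (mem_subgroupOf.mp ((QuotientGroup.eq_one_iff _).mp this))
    obtain ⟨w, hw, hw1⟩ := (Subgroup.bot_or_exists_ne_one _).resolve_left
      (H6.inf_center_ne_bot hp hFb1)
    obtain ⟨⟨f, hfT, rfl⟩, hwc⟩ := hw
    let Fc : Subgroup G :=
      { carrier := {g | g ∈ F ∧ ∀ t ∈ T, t * g * t⁻¹ * g⁻¹ ∈ zc N}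
        one_mem' := ⟨one_mem _, fun t _ => by simp⟩
        mul_mem' := by
          rintro a b ⟨ha, ha'⟩ ⟨hb, hb'⟩
          refine ⟨mul_mem ha hb, fun t ht => ?_⟩
          rw [show t * (a * b) * t⁻¹ * (a * b)⁻¹ =
            (t * a * t⁻¹ * a⁻¹) * (a * (t * b * t⁻¹ * b⁻¹) * a⁻¹) by group]
          exact mul_mem (ha' t ht) (zc_normal.conj_mem _ (hb' t ht) a)
        inv_mem' := by
          rintro a ⟨ha, ha'⟩
          refine ⟨inv_mem ha, fun t ht => ?_⟩
          rw [show t * a⁻¹ * t⁻¹ * a⁻¹⁻¹ = a⁻¹ * (t * a * t⁻¹ * a⁻¹)⁻¹ * a⁻¹⁻¹ by group]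
          exact zc_normal.conj_mem _ (inv_mem (ha' t ht)) _ }
    have hFcn : Fc.Normal := ⟨fun a ha g => ⟨hF.normal.conj_mem a ha.1 g, fun t ht => by
      have ht' : g⁻¹ * t * g ∈ T := by simpa using hTn.conj_mem t ht g⁻¹
      rw [show t * (g * a * g⁻¹) * t⁻¹ * (g * a * g⁻¹)⁻¹ =
        g * ((g⁻¹ * t * g) * a * (g⁻¹ * t * g)⁻¹ * a⁻¹) * g⁻¹ by group]
      exact zc_normal.conj_mem _ (ha.2 _ ht') g⟩⟩
    have hzFc : zc N ≤ Fc := fun z hz => ⟨hF.zle hz, fun t ht => by
      rw [(zc_mem.mp hz).2 t ((hT t).mp ht).1, mul_inv_cancel_right, mul_inv_cancel]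
      exact one_mem _⟩
    have hfFc : (f : G) ∈ Fc := ⟨mem_subgroupOf.mp hfT, fun t ht => by
      have hc' := mem_center_iff.mp hwc (QuotientGroup.mk' _ ⟨t, ht⟩)
      rw [← map_mul, ← map_mul] at hc'
      have hmem : (⟨t, ht⟩ : T) * f * (⟨t, ht⟩ : T)⁻¹ * f⁻¹ ∈ (zc N).subgroupOf T := by
        rw [← QuotientGroup.eq_one_iff, ← QuotientGroup.mk'_apply, map_mul, map_mul, hc', map_mul,
          map_inv, map_inv, mul_inv_cancel_right, mul_inv_cancel]
      exact mem_subgroupOf.mp hmem⟩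
    rcases hF.min Fc hFcn hzFc (fun a ha => ha.1) with e | e
    · exact absurd ((QuotientGroup.eq_one_iff f).mpr (mem_subgroupOf.mpr (e ▸ hfFc))) hw1
    · intro t ht htq
      exact hBF ⟨ht, fun f' hf' => (e.symm ▸ hf' : f' ∈ Fc).2 t ((hT t).mpr ⟨ht, htq⟩)⟩
  have hnoq' : ∀ j : ℕ, ∀ t ∈ N, t ^ q ^ j ∈ F → t ∈ F := by
    intro j
    induction j with
    | zero => intro t _ h'; simpa using h'
    | succ j ih =>
      intro t ht h'
      rw [pow_succ', pow_mul] at h'
      exact hnoq t ht (ih _ (N.pow_mem ht q) h')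
  -- fixed-point-free
  have hfpf : ∀ n ∈ N, n ∉ F → ∀ f ∈ F, n * f * n⁻¹ * f⁻¹ ∈ zc N → f ∈ zc N := by
    intro n hn hnF f hf hc0
    set a := n ^ q ^ (orderOf n).factorization q with ha
    have haN : a ∈ N := N.pow_mem hn _
    have haF : a ∉ F := fun h' => hnF (hnoq' _ n hn h')
    have hcm : Commute (QuotientGroup.mk n : G ⧸ zc N) (QuotientGroup.mk f) := by
      rw [← QuotientGroup.eq_one_iff] at hc0
      simp only [QuotientGroup.mk_mul, QuotientGroup.mk_inv] at hc0
      rw [mul_inv_eq_one] at hc0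
      exact mul_inv_eq_iff_eq_mul.mp hc0
    set c := a * f * a⁻¹ * f⁻¹ with hc
    have hcz' : c ∈ zc N := by
      rw [hc, ← QuotientGroup.eq_one_iff]
      simp only [QuotientGroup.mk_mul, QuotientGroup.mk_inv, ha, QuotientGroup.mk_pow]
      rw [(hcm.pow_left _).eq, mul_inv_cancel_right, mul_inv_cancel]
    have hcz := zc_mem.mp hcz'
    have e0 : a * f * a⁻¹ = c * f := by rw [hc]; group
    have hcf : Commute c f := (hcz.2 f (hF.leN hf)).symm
    have e1 : c ^ q = 1 := by
      have hfq := zc_mem.mp (hqpow f hf)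
      have e : (a * f * a⁻¹) ^ q = f ^ q := by
        rw [conj_pow, hfq.2 a haN, mul_inv_cancel_right]
      rwa [e0, hcf.mul_pow, mul_eq_right] at e
    have e2 : ∀ i : ℕ, a ^ i * f = c ^ i * f * a ^ i := by
      intro i
      induction i with
      | zero => simp
      | succ i ih =>
        have hca : Commute c (a ^ i) := ((show Commute a c from hcz.2 a haN).symm).pow_right i
        calc a ^ (i + 1) * f = a ^ i * (c * f * a) := by
              rw [pow_succ, mul_assoc, ← e0]; group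
          _ = c * (a ^ i * f) * a := by
              rw [← mul_assoc, ← mul_assoc, ← hca.eq]; simp only [mul_assoc]
          _ = c ^ (i + 1) * f * a ^ (i + 1) := by
              rw [ih, pow_succ' c, pow_succ a]; simp only [mul_assoc]
    have e3 : c ^ orderOf a = 1 := by
      have := e2 (orderOf a)
      rwa [pow_orderOf_eq_one, one_mul, mul_one, eq_comm, mul_eq_right] at this
    have hco : Nat.Coprime q (orderOf a) := by
      refine hq.coprime_iff_not_dvd.mpr ?_
      rw [ha, orderOf_pow_of_dvd (pow_ne_zero _ hq.ne_zero) (Nat.ordProj_dvd _ _)]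
      exact Nat.not_dvd_ordCompl hq (orderOf_pos n).ne'
    have hc1 : c = 1 := orderOf_eq_one_iff.mp (Nat.eq_one_of_dvd_coprimes hco
      (orderOf_dvd_of_pow_eq_one e1) (orderOf_dvd_of_pow_eq_one e3))
    rw [hc1, one_mul] at e0
    refine hfix a haN haF ⟨hf, mem_centralizer_singleton_iff.mpr ?_⟩
    exact (mul_inv_eq_iff_eq_mul.mp e0).symm
  -- a prime for `N / F`
  obtain ⟨w0, hw0, hw0F⟩ := SetLike.not_le_iff_exists.mp hFne
  obtain ⟨r, hr, w, hw, hwF, hwr⟩ : ∃ r : ℕ, r.Prime ∧ ∃ w ∈ N, w ∉ F ∧ w ^ r ∈ F := by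
    have key : ∀ k, ∀ w ∈ N, orderOf w = k → w ∉ F → ∃ r : ℕ, r.Prime ∧ ∃ w ∈ N, w ∉ F ∧ w ^ r ∈ F := by
      intro k
      induction' k using Nat.strong_induction_on with k ih
      intro w hw hk hwF
      have hk1 : k ≠ 1 := fun e => hwF (by
        rw [e] at hk; rw [orderOf_eq_one_iff.mp hk]; exact one_mem _)
      obtain ⟨l, hl, hd⟩ := Nat.exists_prime_and_dvd hk1
      by_cases hz : w ^ l ∈ F
      · exact ⟨l, hl, w, hw, hwF, hz⟩
      · refine ih _ ?_ _ (N.pow_mem hw l) rfl hz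
        rw [orderOf_pow_of_dvd hl.ne_zero (hk ▸ hd), hk]
        exact Nat.div_lt_self (hk ▸ orderOf_pos w) hl.one_lt
    exact key _ w0 hw0 rfl hw0F
  haveI := Fact.mk hr
  have hrq : r ≠ q := fun e => hwF (hnoq w hw (e ▸ hwr))
  have hexp : ∀ n ∈ N, n ^ r ∈ F := by
    obtain ⟨x, hx, hxz⟩ := SetLike.not_le_iff_exists.mp hF.not_le
    obtain ⟨E, hEn, hE⟩ := powSub r
    haveI := hEn
    have hMx : ∀ c ∈ centralizer ({x} : Set G), c ∈ N → c ∈ F := by
      intro c hc hcN
      by_contra hcF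
      refine hxz (hfpf c hcN hcF x hx ?_)
      rw [mem_centralizer_singleton_iff.mp hc, mul_inv_cancel_right, mul_inv_cancel]
      exact one_mem _
    have hEle : ¬ E ≤ centralizer ({x} : Set G) := fun hle =>
      hwF (hMx w (hle ((hE w).mpr ⟨hw, hwr⟩)) hw)
    intro n hn
    obtain ⟨e, he, c, hc, rfl⟩ := exists_decomp h (hF.leN hx) hxz hEle n
    have hcN : c ∈ N := by simpa using N.mul_mem (N.inv_mem ((hE e).mp he).1) hn
    exact ((hE _).mp (mul_mem he ((hE c).mpr ⟨hcN, pow_mem (hMx c hc hcN) r⟩))).2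
  -- the complement
  have hwz : w ∉ zc N := fun hz => hwF (hF.zle hz)
  have hwle : ¬ F ≤ centralizer ({w} : Set G) := fun hle => hwF (hCF ▸
    ⟨hw, mem_centralizer_iff.mpr fun f hf => mem_centralizer_singleton_iff.mp (hle hf)⟩)
  have hwM : w ∈ centralizer ({w} : Set G) := mem_centralizer_singleton_iff.mpr rfl
  have hwz' : w ^ r ∈ zc N := hfix w hw hwF ⟨hexp w hw, pow_mem hwM r⟩
  refine ⟨F, w, q, r, hq, hr, hF.normal, hF.zle, hF.leN, hF.not_le, hFcomm, hqpow, hw, hwF, hwz',
    ?_, hfpf⟩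
  intro n hn
  by_contra hnone
  push Not at hnone
  obtain ⟨f0, hf0, k, hk, rfl⟩ := exists_decomp h hw hwz hwle n
  have hkN : k ∈ N := by simpa using N.mul_mem (N.inv_mem (hF.leN hf0)) hn
  have hkF : k ∉ F := fun h' => hnone 0 (by simpa using mul_mem hf0 h')
  have hkz' : k ^ r ∈ zc N := hfix w hw hwF ⟨hexp k hkN, pow_mem hk r⟩
  -- act on the chief factor
  let π : G →* G ⧸ zc N := QuotientGroup.mk' (zc N)
  set V := F.map π with hV
  haveI : IsMulCommutative V := ⟨⟨by
    rintro ⟨_, a, ha, rfl⟩ ⟨_, b, hb, rfl⟩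
    apply Subtype.ext
    show π a * π b = π b * π a
    have h1 : π (a * b * a⁻¹ * b⁻¹) = 1 := (QuotientGroup.eq_one_iff _).mpr (hFcomm a ha b hb)
    simp only [map_mul, map_inv] at h1
    rw [mul_inv_eq_one] at h1
    exact mul_inv_eq_iff_eq_mul.mp h1⟩⟩
  haveI : V.Normal := hF.normal.map π (QuotientGroup.mk'_surjective _)
  have hV1 : V ≠ ⊥ := fun e => by
    obtain ⟨f, hf, hfz⟩ := SetLike.not_le_iff_exists.mp hF.not_le
    have : π f ∈ V := ⟨f, hf, rfl⟩
    rw [e, mem_bot] at this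
    exact hfz ((QuotientGroup.eq_one_iff f).mp this)
  have hrV : ¬ r ∣ Nat.card V := by
    intro hd
    obtain ⟨⟨_, f, hf, rfl⟩, hv⟩ := exists_prime_orderOf_dvd_card' r hd
    have h1 : orderOf (π f) ∣ q := orderOf_dvd_of_pow_eq_one (by
      rw [← map_pow]; exact (QuotientGroup.eq_one_iff _).mpr (hqpow f hf))
    rw [← Subgroup.orderOf_mk (H := V) (π f) ⟨f, hf, rfl⟩, hv] at h1
    exact hrq ((Nat.prime_dvd_prime_iff_eq hr hq).mp h1)
  obtain ⟨a, ha, hne'⟩ := H84.exists_fixed_of_lines (p := r) V hV1 hrV (σ := π k) (τ := π w)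
    (by rw [normalizer_eq_top]; exact mem_top _) (by rw [normalizer_eq_top]; exact mem_top _)
    (by rw [← map_mul, ← map_mul, mem_centralizer_singleton_iff.mp hk])
    (by rw [← map_pow]; exact (QuotientGroup.eq_one_iff _).mpr hkz')
    (by rw [← map_pow]; exact (QuotientGroup.eq_one_iff _).mpr hwz')
  obtain ⟨v, hv, hv1⟩ := (Subgroup.bot_or_exists_ne_one _).resolve_left hne'
  obtain ⟨⟨f, hf, rfl⟩, hvc⟩ := hv
  have hfix' : ∀ b ∈ N, π b = a → b ∈ F := by
    intro b hb e
    by_contra hbF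
    refine hv1 ((QuotientGroup.eq_one_iff f).mpr (hfpf b hb hbF f hf ?_))
    rw [← QuotientGroup.eq_one_iff]
    show π (b * f * b⁻¹ * f⁻¹) = 1
    have hvc' : Commute (π f) a := mem_centralizer_singleton_iff.mp hvc
    simp only [map_mul, map_inv, e]
    rw [← hvc'.eq, mul_inv_cancel_right, mul_inv_cancel]
  rcases ha with rfl | ⟨i, rfl⟩
  · exact hwF (hfix' w hw rfl)
  · refine hnone i ?_
    rw [mul_assoc]
    exact mul_mem hf0 (hfix' _ (N.mul_mem hkN (N.pow_mem hw _)) (by rw [map_mul, map_pow]))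

theorem center_eq : Subgroup.center N = (zc N).subgroupOf N := by
  ext x
  rw [mem_center_iff, mem_subgroupOf, zc_mem]
  exact ⟨fun hx => ⟨x.2, fun n hn => congrArg Subtype.val (hx ⟨n, hn⟩)⟩,
    fun hx g => Subtype.ext (hx.2 g g.2)⟩

/-- The structure of `N` modulo its centre. -/
theorem main (h : Hyp N) :
    (∃ p : ℕ, p.Prime ∧ Cfsg.IsElementaryAbelian p (⊤ : Subgroup (↥N ⧸ Subgroup.center ↥N))) ∨
    (∃ (Q K : Subgroup (↥N ⧸ Subgroup.center ↥N)) (p : ℕ), p.Prime ∧ Cfsg.IsFrobeniusComplement Q ∧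
      (Nat.card ↥Q).Prime ∧ K.Normal ∧
      (K : Set (↥N ⧸ Subgroup.center ↥N)) = Cfsg.frobeniusKernel Q ∧
      Cfsg.IsElementaryAbelian p K) := by
  classical
  let π : N →* N ⧸ center N := QuotientGroup.mk' (center N)
  have hπ : ∀ x : N, π x = 1 ↔ (x : G) ∈ zc N := fun x => by
    rw [QuotientGroup.mk'_apply, QuotientGroup.eq_one_iff, center_eq, mem_subgroupOf]
  have hπc : ∀ a b : N, (a : G) * b * (a : G)⁻¹ * (b : G)⁻¹ ∈ zc N → π a * π b = π b * π a := by
    intro a b hab
    have h1 : π (a * b * a⁻¹ * b⁻¹) = 1 := (hπ _).mpr hab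
    simp only [map_mul, map_inv] at h1
    rw [mul_inv_eq_one] at h1
    exact mul_inv_eq_iff_eq_mul.mp h1
  by_cases h2 : ∀ a ∈ N, ∀ b ∈ N, a * b * a⁻¹ * b⁻¹ ∈ zc N
  · left
    obtain ⟨p, hp, hpow⟩ : ∃ p : ℕ, p.Prime ∧ ∀ n ∈ N, n ^ p ∈ zc N := by
      by_cases hne : N ≤ zc N
      · exact ⟨2, Nat.prime_two, fun n hn => pow_mem (hne hn) 2⟩
      · exact elementary_of_class_two h h2 hne
    refine ⟨p, hp, ⟨⟨fun a b => Subtype.ext ?_⟩⟩, fun a _ => ?_⟩
    · obtain ⟨u, hu⟩ := QuotientGroup.mk'_surjective (center N) (a : N ⧸ center N)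
      obtain ⟨v, hv⟩ := QuotientGroup.mk'_surjective (center N) (b : N ⧸ center N)
      show (a : N ⧸ center N) * b = b * a
      rw [← hu, ← hv]
      exact hπc u v (h2 u u.2 v v.2)
    · obtain ⟨u, hu⟩ := QuotientGroup.mk'_surjective (center N) a
      rw [← hu, ← map_pow]
      exact (hπ _).mpr (hpow u u.2)
  right
  obtain ⟨F, y, q, r, hq, hr, hFn, hzF, hFN, hFz, hFc, hFq, hyN, hyF, hyr, hcover, hfpf⟩ :=
    frobenius_structure h h2
  haveI := hFn
  haveI := Fact.mk hr
  set K := (F.subgroupOf N).map π with hK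
  haveI hKn : K.Normal := (Subgroup.normal_subgroupOf (H := N) (N := F)).map π
    (QuotientGroup.mk'_surjective _)
  have hKmem : ∀ x : N, π x ∈ K ↔ (x : G) ∈ F := by
    intro x
    refine ⟨?_, fun hx => ⟨x, mem_subgroupOf.mpr hx, rfl⟩⟩
    rintro ⟨z, hz, e⟩
    have h1 : π (z⁻¹ * x) = 1 := by rw [map_mul, map_inv, e, inv_mul_cancel]
    have := F.mul_mem (mem_subgroupOf.mp hz) (hzF ((hπ _).mp h1))
    simpa using this
  set t := π ⟨y, hyN⟩ with ht
  have htr : t ^ r = 1 := by rw [ht, ← map_pow]; exact (hπ _).mpr hyr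
  have ht1 : t ≠ 1 := fun e => hyF (hzF ((hπ _).mp e))
  have htord : orderOf t = r := orderOf_eq_prime htr ht1
  have htK : t ∉ K := fun h' => hyF ((hKmem _).mp h')
  have hTcard : Nat.card (zpowers t) = r := by rw [Nat.card_zpowers, htord]
  have hcomp : Subgroup.IsComplement' K (zpowers t) := by
    refine Subgroup.isComplement'_of_disjoint_and_mul_eq_univ ?_ ?_
    · rw [Subgroup.disjoint_def]
      intro z hzK hzT
      by_contra hz1
      have hzo : orderOf z = r := ((Nat.dvd_prime hr).mp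
        (htord ▸ orderOf_dvd_of_mem_zpowers hzT)).resolve_left fun e => hz1 (orderOf_eq_one_iff.mp e)
      have : zpowers z = zpowers t := eq_of_le_of_card_ge (zpowers_le.mpr hzT)
        (by rw [Nat.card_zpowers, Nat.card_zpowers, hzo, htord])
      exact htK ((zpowers_le.mpr hzK) (this ▸ mem_zpowers t))
    · rw [Set.eq_univ_iff_forall]
      intro z
      obtain ⟨⟨n, hn⟩, rfl⟩ := QuotientGroup.mk'_surjective (center N) z
      obtain ⟨k, hk⟩ := hcover n hn
      refine ⟨π (⟨n, hn⟩ * ⟨y, hyN⟩ ^ k), (hKmem _).mpr (by simpa using hk), (t ^ k)⁻¹,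
        inv_mem (pow_mem (mem_zpowers t) k), ?_⟩
      show π (⟨n, hn⟩ * ⟨y, hyN⟩ ^ k) * (t ^ k)⁻¹ = π ⟨n, hn⟩
      rw [map_mul, map_pow, ← ht, mul_inv_cancel_right]
  have hK1 : K ≠ ⊥ := fun e => by
    obtain ⟨f, hf, hfz⟩ := SetLike.not_le_iff_exists.mp hFz
    have : π ⟨f, hFN hf⟩ ∈ K := (hKmem _).mpr hf
    rw [e, mem_bot] at this
    exact hfz ((hπ _).mp this)
  have hT1 : zpowers t ≠ ⊥ := by simpa using ht1
  have hfix : ∀ x ∈ zpowers t, x ≠ 1 → K ⊓ centralizer {x} = ⊥ := by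
    intro x hx hx1
    rw [eq_bot_iff_forall]
    rintro _ ⟨⟨f, hf, rfl⟩, hc⟩
    obtain ⟨n, rfl⟩ := QuotientGroup.mk'_surjective (center N) x
    by_contra hf1
    refine hx1 ?_
    by_cases hnF : (n : G) ∈ F
    · exact (Subgroup.disjoint_def.mp hcomp.disjoint) ((hKmem n).mpr hnF) hx
    · refine absurd ((hπ f).mpr (hfpf n n.2 hnF f (mem_subgroupOf.mp hf) ?_)) hf1
      have hc' : π f * π n = π n * π f := mem_centralizer_singleton_iff.mp hc
      have : π (n * f * n⁻¹ * f⁻¹) = 1 := by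
        simp only [map_mul, map_inv]
        rw [← hc', mul_inv_cancel_right, mul_inv_cancel]
      exact (hπ _).mp this
  have hFC := H2.frobenius_of_fpf hcomp hK1 hT1 hfix
  refine ⟨zpowers t, K, q, hq, hFC, hTcard ▸ hr, hKn, H2.coe_eq_frobeniusKernel hcomp hFC, ?_, ?_⟩
  · refine ⟨⟨?_⟩⟩
    rintro ⟨_, a, ha, rfl⟩ ⟨_, b, hb, rfl⟩
    apply Subtype.ext
    exact hπc a b (hFc _ (mem_subgroupOf.mp ha) _ (mem_subgroupOf.mp hb))
  · rintro _ ⟨a, ha, rfl⟩
    rw [← map_pow]
    exact (hπ _).mpr (hFq _ (mem_subgroupOf.mp ha))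

end H28.MaxCentN
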