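import Cfsg.Agent.S0159
import Cfsg.Agent.H25.Indicator
import Cfsg.Agent.H12.Linear
import Cfsg.Agent.H12.Integral

/-!
The number of solutions of `x ^ 2 = 1` in a `2`-group with many generators, by
Frobenius–Schur and the action of the sign characters on irreducible characters.
-/

set_option autoImplicit false
set_option linter.style.haveILetI false

namespace H28

open Cfsg
open scoped ComplexConjugate

/-- The group of homomorphisms to `±1`, as a subgroup of the linear characters. -/
noncomputable def signChars (G : Type*) [Group G] : Subgroup (G →* ℂˣ) :=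
  (powMonoidHom 2 : (G →* ℂˣ) →* (G →* ℂˣ)).ker

theorem signChars_sq {G : Type*} [Group G] (l : signChars G) (g : G) :
    ((l.1 g : ℂ)) * (l.1 g : ℂ) = 1 := by
  have h : (l.1 : G →* ℂˣ) ^ 2 = 1 := l.2
  have h1 := DFunLike.congr_fun h g
  rw [MonoidHom.pow_apply, MonoidHom.one_apply, sq] at h1
  simpa using congrArg Units.val h1

theorem signChars_conj {G : Type*} [Group G] (l : signChars G) (g : G) :
    conj ((l.1 g : ℂ)) = (l.1 g : ℂ) := by
  rcases mul_self_eq_one_iff.mp (signChars_sq l g) with h | h <;> simp [h]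

/-- Twisting an irreducible character by a sign character. -/
noncomputable def signTwist {G : Type*} [Group G] [Fintype G] (l : signChars G)
    (χ : IrrCharacter G) : IrrCharacter G :=
  ⟨fun g => (χ : G → ℂ) g * (l.1 g : ℂ), H12.isIrrCharacter_of_classInner_self_eq_one
    (H12.IsCharacter.mul (H12.isCharacter_irr χ) (H12.isCharacter_irr (H12.linIrr l.1))) (by
      rw [← H12.classInner_irr_self χ, H12.classInner_def, H12.classInner_def]
      congr 1
      refine Finset.sum_congr rfl fun g _ => ?_
      rw [map_mul, signChars_conj]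
      have := signChars_sq l g
      linear_combination ((χ : G → ℂ) g * conj ((χ : G → ℂ) g)) * this)⟩

theorem signTwist_apply {G : Type*} [Group G] [Fintype G] (l : signChars G) (χ : IrrCharacter G)
    (g : G) : (signTwist l χ : G → ℂ) g = (χ : G → ℂ) g * (l.1 g : ℂ) := rfl

/-- The action by twisting. -/
@[reducible] noncomputable def signTwistAction (G : Type*) [Group G] [Fintype G] :
    MulAction (signChars G) (IrrCharacter G) where
  smul := signTwist
  one_smul χ := Subtype.ext (funext fun g => by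
    change (χ : G → ℂ) g * ((1 : signChars G).1 g : ℂ) = _
    simp)
  mul_smul a b χ := Subtype.ext (funext fun g => by
    change (χ : G → ℂ) g * ((a * b).1 g : ℂ) = (χ : G → ℂ) g * (b.1 g : ℂ) * (a.1 g : ℂ)
    simp; ring)

theorem two_pow_le_card_signChars {G : Type*} [Group G] [Finite G] (hG : IsPGroup 2 G) :
    Nat.card (G ⧸ frattini G) ≤ Nat.card (signChars G) := by
  haveI : Fact (Nat.Prime 2) := ⟨Nat.prime_two⟩
  haveI := hG.isNilpotent
  haveI : (frattini G).Normal := inferInstance
  set Q := G ⧸ frattini G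
  have hsq : ∀ y : Q, y * y = 1 := by
    intro y
    obtain ⟨x, rfl⟩ := QuotientGroup.mk_surjective y
    rw [← QuotientGroup.mk_mul, QuotientGroup.eq_one_iff]
    rw [frattini, Order.radical, Subgroup.mem_iInf]
    intro M
    rw [Subgroup.mem_iInf]
    intro hM
    haveI := Subgroup.NormalizerCondition.normal_of_coatom M Group.normalizerCondition_of_isNilpotent hM
    haveI : Nontrivial (G ⧸ M) := QuotientGroup.nontrivial_iff.mpr hM.1
    obtain ⟨k, hk, hk'⟩ := (hG.to_quotient M).nontrivial_iff_card.mp inferInstance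
    obtain ⟨z, hz⟩ := exists_prime_orderOf_dvd_card' 2 (hk' ▸ dvd_pow_self 2 hk.ne')
    have htop : Subgroup.zpowers z = ⊤ := by
      have hlt : M < (Subgroup.zpowers z).comap (QuotientGroup.mk' M) := by
        refine lt_of_le_of_ne (fun m hm => ?_) fun heq => ?_
        · rw [Subgroup.mem_comap, QuotientGroup.mk'_apply, (QuotientGroup.eq_one_iff m).mpr hm]
          exact one_mem _
        · obtain ⟨g, rfl⟩ := QuotientGroup.mk_surjective z
          have hg : g ∈ M := heq ▸ (Subgroup.mem_comap.mpr (Subgroup.mem_zpowers _))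
          rw [(QuotientGroup.eq_one_iff g).mpr hg, orderOf_one] at hz
          omega
      rw [← Subgroup.map_comap_eq_self_of_surjective (QuotientGroup.mk'_surjective M) (Subgroup.zpowers z),
        hM.2 _ hlt, Subgroup.map_top_of_surjective _ (QuotientGroup.mk'_surjective M)]
    have hc : Nat.card (G ⧸ M) = 2 := by
      rw [← Subgroup.card_top, ← htop, Nat.card_zpowers, hz]
    rw [← QuotientGroup.eq_one_iff, QuotientGroup.mk_mul, ← sq, ← hc]
    exact pow_card_eq_one'
  have hcomm : commutator Q = ⊥ := by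
    rw [commutator_eq_bot_iff_center_eq_top, eq_top_iff]
    intro a _
    rw [Subgroup.mem_center_iff]
    intro b
    have h := hsq (a * b)
    calc b * a = (a * a) * (b * a) * (b * b) := by rw [hsq a, hsq b, one_mul, mul_one]
      _ = a * (a * b * (a * b)) * b := by group
      _ = a * b := by rw [h, mul_one]
  have h1 : Nat.card (Q →* ℂˣ) = Nat.card Q := by
    rw [H12.card_monoidHom_units, hcomm, Subgroup.index_bot]
  rw [← h1]
  haveI : Finite (signChars G) := by
    haveI : Finite (G →* ℂˣ) := Nat.finite_of_card_ne_zero (by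
      rw [H12.card_monoidHom_units]; exact Subgroup.index_ne_zero_of_finite)
    infer_instance
  refine Nat.card_le_card_of_injective
    (fun f => (⟨f.comp (QuotientGroup.mk' _), ?_⟩ : signChars G)) fun a b h => ?_
  · refine MonoidHom.ext fun g => ?_
    change (f (QuotientGroup.mk g)) ^ 2 = 1
    rw [sq, ← map_mul, hsq, map_one]
  · refine MonoidHom.ext fun y => ?_
    obtain ⟨g, rfl⟩ := QuotientGroup.mk_surjective y
    exact DFunLike.congr_fun (congrArg Subtype.val h) g

theorem pow_two_dvd_card_sq_eq_one {G : Type*} [Group G] [Finite G] (hG : IsPGroup 2 G) (k : ℕ)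
    (hgen : 2 ^ (2 * k + 1) ≤ Nat.card (G ⧸ frattini G)) :
    2 ^ (k + 1) ∣ Nat.card {x : G // x ^ 2 = 1} := by
  classical
  haveI := Fintype.ofFinite G
  haveI : Fact (Nat.Prime 2) := ⟨Nat.prime_two⟩
  letI := signTwistAction G
  haveI : Finite (G →* ℂˣ) := Nat.finite_of_card_ne_zero (by
    rw [H12.card_monoidHom_units]; exact Subgroup.index_ne_zero_of_finite)
  have hLcard : 2 ^ (2 * k + 1) ≤ Nat.card (signChars G) := hgen.trans (two_pow_le_card_signChars hG)
  obtain ⟨e, he⟩ : ∃ e, Nat.card G = 2 ^ e := IsPGroup.iff_card.mp hG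
  obtain ⟨l, hl⟩ : ∃ l, Nat.card (signChars G) = 2 ^ l := by
    refine IsPGroup.iff_card.mp fun a => ⟨1, ?_⟩
    exact Subtype.ext a.2
  have hl' : 2 * k + 1 ≤ l := (Nat.pow_le_pow_iff_right (le_refl 2)).mp (hl ▸ hLcard)
  have key : ∀ χ : IrrCharacter G,
      2 ^ (k + 1) ∣ Nat.card (MulAction.orbit (signChars G) χ) * H12.degree (χ : G → ℂ) := by
    intro χ
    set d := H12.degree (χ : G → ℂ) with hd
    obtain ⟨b, -, hb⟩ := (Nat.dvd_prime_pow Nat.prime_two).mp (he ▸ H12.irr_degree_dvd_card χ)
    set St := MulAction.stabilizer (signChars G) χ with hSt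
    let T : Subgroup G := ⨅ a : St, (a.1.1).ker
    have hout : ∀ g : G, g ∉ T → (χ : G → ℂ) g = 0 := by
      intro g hg
      simp only [T, Subgroup.mem_iInf, not_forall] at hg
      obtain ⟨a, ha⟩ := hg
      have h1 : (χ : G → ℂ) g * (a.1.1 g : ℂ) = (χ : G → ℂ) g :=
        congrFun (congrArg Subtype.val (MulAction.mem_stabilizer_iff.mp a.2)) g
      by_contra hne
      apply ha
      rw [MonoidHom.mem_ker]
      exact Units.ext ((mul_eq_left₀ hne).mp h1)
    have hsum : ∑ g : G, (χ : G → ℂ) g * conj ((χ : G → ℂ) g) = (Nat.card G : ℂ) := by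
      rw [H12.sum_mul_conj_eq_card_mul, H12.classInner_irr_self, mul_one]
    have hidx : T.index ≤ d * d := by
      have h1 : ∀ g, ‖(χ : G → ℂ) g‖ ≤ d := by
        intro g
        obtain ⟨n, ρ, hρ, hρχ⟩ := χ.2
        rw [hd, ← hρχ, H12.degree_character]
        exact H12.norm_character_le ρ g
      have h2 : (Nat.card G : ℝ) ≤ Nat.card T * ((d : ℝ) * d) := by
        have h3 : (Nat.card G : ℝ) = ∑ g : G, ‖(χ : G → ℂ) g‖ * ‖(χ : G → ℂ) g‖ := by
          have h4 : ((Nat.card G : ℝ) : ℂ) =
              ((∑ g : G, ‖(χ : G → ℂ) g‖ * ‖(χ : G → ℂ) g‖ : ℝ) : ℂ) := by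
            push_cast
            rw [← hsum]
            refine Finset.sum_congr rfl fun g _ => ?_
            rw [Complex.mul_conj, Complex.normSq_eq_norm_sq]
            push_cast
            ring
          exact_mod_cast h4
        rw [h3, ← Finset.sum_subset (Finset.subset_univ (Finset.univ.filter (· ∈ T)))
          (fun g _ hg => by
            rw [hout g (by simpa using hg)]; simp)]
        refine (Finset.sum_le_card_nsmul _ _ ((d : ℝ) * d) fun g _ => ?_).trans ?_
        · exact mul_le_mul (h1 g) (h1 g) (norm_nonneg _) (Nat.cast_nonneg _)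
        · rw [nsmul_eq_mul, Nat.card_eq_fintype_card, Fintype.card_subtype]
      rw [← Subgroup.card_mul_index T] at h2
      push_cast at h2
      have := le_of_mul_le_mul_left h2 (by exact_mod_cast Nat.card_pos)
      exact_mod_cast this
    have hst : Nat.card St ≤ T.index := by
      haveI : T.Normal := by
        refine ⟨fun x hx g => ?_⟩
        simp only [T, Subgroup.mem_iInf, MonoidHom.mem_ker] at hx ⊢
        intro a
        simp [map_mul, hx a]
      have hTa : ∀ a : St, T ≤ (a.1.1).ker := fun a => iInf_le _ a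
      haveI : Finite (G ⧸ T →* ℂˣ) := Nat.finite_of_card_ne_zero (by
        rw [H12.card_monoidHom_units]; exact Subgroup.index_ne_zero_of_finite)
      refine (Nat.card_le_card_of_injective
        (fun a : St => QuotientGroup.lift T a.1.1 (hTa a)) fun a a' h => ?_).trans ?_
      · refine Subtype.ext (Subtype.ext (MonoidHom.ext fun g => ?_))
        exact DFunLike.congr_fun h (QuotientGroup.mk g)
      · rw [H12.card_monoidHom_units]
        exact Nat.le_of_dvd Nat.card_pos (Subgroup.index_dvd_card _)
    obtain ⟨s, hs, hs'⟩ := (Nat.dvd_prime_pow Nat.prime_two).mp (hl ▸ Subgroup.card_subgroup_dvd_card St)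
    have hsb : s ≤ 2 * b := by
      have := hst.trans hidx
      rw [hs', show d = 2 ^ b from hb, ← pow_add] at this
      have := (Nat.pow_le_pow_iff_right (le_refl 2)).mp this
      omega
    obtain ⟨a, ha⟩ : ∃ a, Nat.card (MulAction.orbit (signChars G) χ) = 2 ^ a ∧ a + s = l := by
      refine ⟨l - s, ?_, by omega⟩
      rw [Nat.card_congr (MulAction.orbitEquivQuotientStabilizer _ χ), ← Subgroup.index]
      have h1 := Subgroup.card_mul_index St
      rw [hl, hs'] at h1
      rw [← Nat.pow_div hs Nat.two_pos, ← h1, Nat.mul_div_cancel_left _ (pow_pos Nat.two_pos s)]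
    rw [ha.1, show d = 2 ^ b from hb, ← pow_add]
    exact pow_dvd_pow 2 (by omega)
  have hν : ∀ χ : IrrCharacter G, ∃ z : ℤ, H17.fsInd (χ : G → ℂ) = (z : ℂ) := fun χ => by
    rcases H25.fsInd_irr_cases χ with h | ⟨h | h, -⟩
    exacts [⟨0, by simp [h]⟩, ⟨1, by simp [h]⟩, ⟨-1, by simp [h]⟩]
  let F : IrrCharacter G → ℂ := fun χ => H17.fsInd (χ : G → ℂ) * (χ : G → ℂ) 1
  have hFinv : ∀ (a : signChars G) χ, F (a • χ) = F χ := by
    intro a χ
    change H17.fsInd (signTwist a χ : G → ℂ) * (signTwist a χ : G → ℂ) 1 = _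
    simp [F, H17.fsInd, signTwist_apply, map_mul, signChars_sq, mul_assoc]
  have horb : ∀ o : MulAction.orbitRel.Quotient (signChars G) (IrrCharacter G), ∃ z : ℤ,
      ∑ χ ∈ Finset.univ.filter (fun χ => (Quotient.mk'' χ : MulAction.orbitRel.Quotient (signChars G) (IrrCharacter G)) = o),
        F χ = (((2 ^ (k + 1) : ℕ) : ℤ) * z : ℤ) := by
    intro o
    induction o using Quotient.inductionOn' with
    | h χ₀ =>
      obtain ⟨z, hz⟩ := hν χ₀
      obtain ⟨c, hc⟩ := key χ₀
      refine ⟨c * z, ?_⟩
      have hfilter : ∀ χ ∈ Finset.univ.filter (fun χ => (Quotient.mk'' χ :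
          MulAction.orbitRel.Quotient (signChars G) (IrrCharacter G)) = Quotient.mk'' χ₀), F χ = F χ₀ := by
        intro χ hχ
        obtain ⟨a, ha⟩ := Quotient.exact' (Finset.mem_filter.mp hχ).2
        rw [← ha]
        exact hFinv a χ₀
      have hcard : (Finset.univ.filter (fun χ => (Quotient.mk'' χ :
          MulAction.orbitRel.Quotient (signChars G) (IrrCharacter G)) = Quotient.mk'' χ₀)).card =
          Nat.card (MulAction.orbit (signChars G) χ₀) := by
        rw [← Fintype.card_subtype, ← Nat.card_eq_fintype_card]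
        exact Nat.card_congr (Equiv.subtypeEquivRight fun χ => Quotient.eq'')
      rw [Finset.sum_congr rfl hfilter, Finset.sum_const, hcard, nsmul_eq_mul]
      have hc' : ((Nat.card (MulAction.orbit (signChars G) χ₀) : ℂ)) * (H12.degree (χ₀ : G → ℂ) : ℂ) =
          ((2 ^ (k + 1) : ℕ) : ℂ) * (c : ℂ) := by exact_mod_cast congrArg (Nat.cast : ℕ → ℂ) hc
      simp only [F, hz, H12.irr_apply_one]
      push_cast at hc' ⊢
      linear_combination (z : ℂ) * hc'
  choose z hz using horb
  have htot : (Nat.card {x : G // x ^ 2 = 1} : ℂ) = ((((2 ^ (k + 1) : ℕ) : ℤ) * ∑ o, z o : ℤ) : ℂ) := by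
    have h1 : Nat.card {x : G // x ^ 2 = 1} = Nat.card {s : G // s * s = 1} :=
      Nat.card_congr (Equiv.subtypeEquivRight fun s => by rw [sq])
    rw [h1, Cfsg.Agent.S0159.result, finsum_eq_sum_of_fintype]
    rw [← Finset.sum_fiberwise (g := fun χ : IrrCharacter G =>
      (Quotient.mk'' χ : MulAction.orbitRel.Quotient (signChars G) (IrrCharacter G)))]
    rw [Finset.mul_sum]
    push_cast
    refine Finset.sum_congr rfl fun o _ => ?_
    have := hz o
    push_cast at this
    rw [← this]
    rfl
  have htot' : (Nat.card {x : G // x ^ 2 = 1} : ℤ) = ((2 ^ (k + 1) : ℕ) : ℤ) * ∑ o, z o := by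
    exact_mod_cast htot
  exact Int.natCast_dvd_natCast.mp ⟨_, htot'⟩

end H28
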