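import Mathlib.GroupTheory.Sylow
import Mathlib.GroupTheory.QuotientGroup.Basic
import Mathlib.GroupTheory.Subgroup.Centralizer

/-!
Sylow numbers and central quotients.
-/

set_option autoImplicit false

namespace H28

theorem card_sylow_quotient_center {G : Type*} [Group G] [Finite G] (p : ℕ) [Fact p.Prime] :
    Nat.card (Sylow p (G ⧸ Subgroup.center G)) = Nat.card (Sylow p G) := by
  set f := QuotientGroup.mk' (Subgroup.center G)
  have hf : Function.Surjective f := QuotientGroup.mk'_surjective _
  obtain ⟨P⟩ : Nonempty (Sylow p G) := inferInstance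
  rw [Sylow.card_eq_index_normalizer P, Sylow.card_eq_index_normalizer (P.mapSurjective hf),
    ← Subgroup.index_comap_of_surjective _ hf]
  congr 1
  rw [← P.coe_coe, ← (P.mapSurjective hf).coe_coe, Subgroup.comap_normalizer_eq_of_surjective _ hf, Sylow.coe_mapSurjective,
    Subgroup.comap_map_eq, QuotientGroup.ker_mk']
  set PZ := (P : Subgroup G) ⊔ Subgroup.center G
  have hZ : PZ ≤ Subgroup.normalizer ((P : Subgroup G) : Set G) :=
    sup_le Subgroup.le_normalizer (fun z hz => by
      rw [Subgroup.mem_normalizer_iff]
      intro y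
      rw [← Subgroup.mem_center_iff.mp hz y, mul_inv_cancel_right])
  apply le_antisymm
  · intro g hg
    rw [Subgroup.mem_normalizer_iff_map_conj_eq] at hg ⊢
    have hle : (P : Subgroup G).map (MulAut.conj g).toMonoidHom ≤ PZ :=
      (Subgroup.map_mono le_sup_left).trans hg.le
    have hpg := IsPGroup.to_sup_of_normal_right' (P.isPGroup'.map (MulAut.conj g).toMonoidHom)
      P.isPGroup' (hle.trans hZ)
    exact Subgroup.eq_of_le_of_card_ge (le_sup_left.trans (P.is_maximal' hpg le_sup_right).le)
      (le_of_eq (Subgroup.card_map_of_injective (MulEquiv.injective (MulAut.conj g))).symm)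
  · intro g hg
    rw [Subgroup.mem_normalizer_iff_map_conj_eq] at hg ⊢
    rw [Subgroup.map_sup]
    congr 1
    exact Subgroup.Normal.map_conj_eq _ g

end H28
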