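import Mathlib
import Cfsg.Agent.H29.Basic

/-!
The product formula for Sylow numbers along a normal subgroup.
-/

set_option autoImplicit false
set_option linter.style.haveILetI false

namespace H28

open Pointwise

variable {G : Type*} [Group G] [Finite G] {p : ℕ} [Fact p.Prime]

/-- Quotient by a normal `p`-subgroup does not change the number of Sylow `p`-subgroups. -/
theorem card_sylow_quotient_of_isPGroup (T : Subgroup G) [T.Normal] (hT : IsPGroup p T) :
    Nat.card (Sylow p (G ⧸ T)) = Nat.card (Sylow p G) := by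
  set f := QuotientGroup.mk' T
  have hf : Function.Surjective f := QuotientGroup.mk'_surjective _
  obtain ⟨P⟩ : Nonempty (Sylow p G) := inferInstance
  have hTP : T ≤ P := by
    have h := IsPGroup.to_sup_of_normal_left hT P.isPGroup'
    exact le_sup_left.trans (P.is_maximal' h le_sup_right).le
  rw [Sylow.card_eq_index_normalizer P, Sylow.card_eq_index_normalizer (P.mapSurjective hf),
    ← Subgroup.index_comap_of_surjective _ hf]
  congr 1
  rw [← P.coe_coe, ← (P.mapSurjective hf).coe_coe, Subgroup.comap_normalizer_eq_of_surjective _ hf,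
    Sylow.coe_mapSurjective, Subgroup.comap_map_eq, QuotientGroup.ker_mk', sup_eq_left.mpr hTP]

/-- `n_p(G) = n_p(G/K) · n_p(K) · n_p(N/(P ∩ K))` where `N = N_{PK}(P ∩ K)`. -/
theorem card_sylow_eq_mul (K : Subgroup G) [K.Normal] (P : Sylow p G) (N : Subgroup G)
    (hN : N = ((P : Subgroup G) ⊔ K) ⊓
      Subgroup.normalizer ((((P : Subgroup G) ⊓ K : Subgroup G)) : Set G))
    [(((P : Subgroup G) ⊓ K).subgroupOf N).Normal] :
    Nat.card (Sylow p G) = Nat.card (Sylow p (G ⧸ K)) * Nat.card (Sylow p K) *
      Nat.card (Sylow p (N ⧸ ((P : Subgroup G) ⊓ K).subgroupOf N)) := by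
  set T := (P : Subgroup G) ⊓ K with hT
  set X := (P : Subgroup G) ⊔ K with hX
  set f := QuotientGroup.mk' K
  have hf : Function.Surjective f := QuotientGroup.mk'_surjective _
  have hTp : IsPGroup p T := P.isPGroup'.to_le inf_le_left
  have hPN : (P : Subgroup G) ≤ N := by
    rw [hN]
    refine le_inf le_sup_left fun x hx => ?_
    rw [Subgroup.mem_normalizer_iff_map_conj_eq, hT, Subgroup.map_inf _ _ _ (MulEquiv.injective (MulAut.conj x)),
      Subgroup.Normal.map_conj_eq K x]
    congr 1
    exact Subgroup.mem_normalizer_iff_map_conj_eq.mp (Subgroup.le_normalizer hx)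
  have hNP : Subgroup.normalizer ((P : Subgroup G) : Set G) ⊓ X ≤ N := by
    rw [hN]
    rintro x ⟨hx, hxX⟩
    refine ⟨hxX, ?_⟩
    change x ∈ Subgroup.normalizer (T : Set G)
    rw [Subgroup.mem_normalizer_iff_map_conj_eq, hT, Subgroup.map_inf _ _ _ (MulEquiv.injective (MulAut.conj x)),
      Subgroup.Normal.map_conj_eq K x]
    congr 1
    exact Subgroup.mem_normalizer_iff_map_conj_eq.mp hx
  set Y := Subgroup.normalizer (X : Set G) with hY
  have hNPY : Subgroup.normalizer ((P : Subgroup G) : Set G) ≤ Y := by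
    intro x hx
    rw [Subgroup.mem_normalizer_iff_map_conj_eq] at hx
    rw [hY, Subgroup.mem_normalizer_iff_map_conj_eq, hX, Subgroup.map_sup, hx,
      Subgroup.Normal.map_conj_eq K x]
  -- the three indices
  have e1 : Nat.card (Sylow p (G ⧸ K)) = Y.index := by
    rw [Sylow.card_eq_index_normalizer (P.mapSurjective hf),
      ← Subgroup.index_comap_of_surjective _ hf]
    congr 1
    rw [← (P.mapSurjective hf).coe_coe, Subgroup.comap_normalizer_eq_of_surjective _ hf,
      Sylow.coe_mapSurjective, Subgroup.comap_map_eq, QuotientGroup.ker_mk']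
  have hXY : X ≤ Y := Subgroup.le_normalizer
  haveI : (X.subgroupOf Y).Normal := Subgroup.normal_in_normalizer
  have hPX : (P : Subgroup G) ≤ X := le_sup_left
  have e2 : (Subgroup.normalizer ((P : Subgroup G) : Set G)).relIndex Y =
      (Subgroup.normalizer ((P : Subgroup G) : Set G)).relIndex X := by
    set PY : Sylow p Y := P.subtype (hPX.trans hXY)
    have hfr := Sylow.normalizer_sup_eq_top' PY (N := X.subgroupOf Y) (fun y hy => hPX hy)
    have hmap := congrArg (Subgroup.map Y.subtype) hfr
    rw [Subgroup.map_sup, Subgroup.map_subgroupOf_eq_of_le hXY, ← MonoidHom.range_eq_map,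
      Subgroup.range_subtype] at hmap
    have hle : (Subgroup.normalizer (PY : Set Y)).map Y.subtype ≤
        Subgroup.normalizer ((P : Subgroup G) : Set G) := by
      rintro _ ⟨y, hy, rfl⟩
      rw [Subgroup.mem_normalizer_iff]
      intro z
      constructor
      · intro hz
        exact ((Subgroup.mem_normalizer_iff.mp hy) ⟨z, hXY (hPX hz)⟩).mp hz
      · intro hz
        have hzY : z ∈ Y := by
          have := Y.mul_mem (Y.mul_mem (Y.inv_mem y.2) (hXY (hPX hz))) y.2
          simpa [mul_assoc] using this
        exact ((Subgroup.mem_normalizer_iff.mp hy) ⟨z, hzY⟩).mpr hz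
    have hsup : X ⊔ Subgroup.normalizer ((P : Subgroup G) : Set G) = Y := by
      refine le_antisymm (sup_le hXY hNPY) ?_
      conv_lhs => rw [← hmap]
      exact sup_le (hle.trans le_sup_right) le_sup_left
    haveI : ((Subgroup.normalizer ((P : Subgroup G) : Set G))).FiniteIndex := inferInstance
    have hXn : Subgroup.normalizer ((P : Subgroup G) : Set G) ≤ Subgroup.normalizer (X : Set G) := hNPY
    have h1 : Nat.card ↥(X ⊔ Subgroup.normalizer ((P : Subgroup G) : Set G)) *
        Nat.card ↥(X ⊓ Subgroup.normalizer ((P : Subgroup G) : Set G)) =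
        Nat.card X * Nat.card (Subgroup.normalizer ((P : Subgroup G) : Set G)) := by
      have h2 := Cfsg.Agent.H29.card_prod_mul_card_inf X (Subgroup.normalizer ((P : Subgroup G) : Set G))
      rw [← Subgroup.coe_mul_of_right_le_normalizer_left _ _ hXn] at h2
      exact h2
    rw [hsup] at h1
    have hA : ∀ (A B : Subgroup G), A.relIndex B * Nat.card ↥(A ⊓ B) = Nat.card B := fun A B => by
      rw [← Subgroup.inf_relIndex_right, ← Subgroup.relIndex_bot_left (A ⊓ B),
        ← Subgroup.relIndex_bot_left B, mul_comm,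
        Subgroup.relIndex_mul_relIndex _ _ _ bot_le inf_le_right]
    have h3 := hA (Subgroup.normalizer ((P : Subgroup G) : Set G)) Y
    have h4 := hA (Subgroup.normalizer ((P : Subgroup G) : Set G)) X
    rw [inf_eq_left.mpr hNPY] at h3
    rw [inf_comm] at h4
    have hpos : 0 < Nat.card ↥(X ⊓ Subgroup.normalizer ((P : Subgroup G) : Set G)) := Nat.card_pos
    have hpos2 : 0 < Nat.card (Subgroup.normalizer ((P : Subgroup G) : Set G)) := Nat.card_pos
    refine Nat.eq_of_mul_eq_mul_right (Nat.mul_pos hpos hpos2) ?_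
    calc _ = (Subgroup.normalizer ((P : Subgroup G) : Set G)).relIndex Y *
          Nat.card (Subgroup.normalizer ((P : Subgroup G) : Set G)) *
          Nat.card ↥(X ⊓ Subgroup.normalizer ((P : Subgroup G) : Set G)) := by ring
      _ = Nat.card X * Nat.card (Subgroup.normalizer ((P : Subgroup G) : Set G)) := by rw [h3, h1]
      _ = _ := by rw [← h4]; ring
  have e3 : N.relIndex X = Nat.card (Sylow p K) := by
    have hTK : ∀ Q : Sylow p K, (Q : Subgroup K) ≤ T.subgroupOf K →
        (Q : Subgroup K) = T.subgroupOf K := by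
      intro Q hQ
      exact (Q.is_maximal' (hTp.comap_subtype) hQ).symm
    obtain ⟨Q, hQ⟩ := IsPGroup.exists_le_sylow (hTp.comap_subtype (K := K))
    have hTQ : T.subgroupOf K = (Q : Subgroup K) := by
      refine le_antisymm hQ ?_
      obtain ⟨g, hg⟩ : ∃ g : G, ((Q : Subgroup K).map K.subtype) ≤
          (P : Subgroup G).map (MulAut.conj g).toMonoidHom := by
        obtain ⟨R, hR⟩ := (Q.isPGroup'.map K.subtype).exists_le_sylow
        obtain ⟨g, hg⟩ := MulAction.exists_smul_eq G P R
        exact ⟨g, hR.trans (le_of_eq (by rw [← hg]; rfl))⟩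
      have hcard : Nat.card (Q : Subgroup K) ≤ Nat.card (T.subgroupOf K) := by
        rw [Nat.card_congr (Subgroup.subgroupOfEquivOfLe (inf_le_right : T ≤ K)).toEquiv,
          ← Subgroup.card_map_of_injective K.subtype_injective,
          ← Subgroup.card_map_of_injective (f := (MulAut.conj g).toMonoidHom) (MulEquiv.injective (MulAut.conj g)) (K := T)]
        refine Nat.le_of_dvd Nat.card_pos (Subgroup.card_dvd_of_le ?_)
        change _ ≤ T.map (MulAut.conj g).toMonoidHom
        rw [hT, Subgroup.map_inf _ _ _ (MulEquiv.injective (MulAut.conj g)),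
          (show K.map (MulAut.conj g).toMonoidHom = K from Subgroup.Normal.map_conj_eq K g)]
        refine le_inf hg ?_
        rintro _ ⟨x, -, rfl⟩
        exact x.2
      exact (Subgroup.eq_of_le_of_card_ge hQ hcard).ge
    rw [Sylow.card_eq_index_normalizer Q, ← Q.coe_coe, ← hTQ, hN, inf_comm X,
      Subgroup.inf_relIndex_right]
    have hnKX : X = (P : Subgroup G) ⊔ K := hX
    have h5 : (Subgroup.normalizer (T : Set G)).relIndex X =
        (Subgroup.normalizer (T : Set G)).relIndex K := by
      have hPT : (P : Subgroup G) ≤ Subgroup.normalizer (T : Set G) := hPN.trans (hN ▸ inf_le_right)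
      have hA : ∀ (A B : Subgroup G), A.relIndex B * Nat.card ↥(A ⊓ B) = Nat.card B := fun A B => by
        rw [← Subgroup.inf_relIndex_right, ← Subgroup.relIndex_bot_left (A ⊓ B),
          ← Subgroup.relIndex_bot_left B, mul_comm,
          Subgroup.relIndex_mul_relIndex _ _ _ bot_le inf_le_right]
      refine le_antisymm ?_ (Subgroup.relIndex_le_of_le_right le_sup_right Subgroup.index_ne_zero_of_finite)
      refine Nat.card_le_card_of_surjective
        (fun q : K ⧸ (Subgroup.normalizer (T : Set G)).subgroupOf K => Quotient.map'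
          (Subgroup.inclusion (le_sup_right : K ≤ X))
          (fun a b hab => by
            rw [QuotientGroup.leftRel_apply] at hab ⊢
            exact hab) q) ?_
      intro y
      obtain ⟨⟨y, hy⟩, rfl⟩ := QuotientGroup.mk_surjective y
      have hy' : y ∈ ((K : Set G) * ((P : Subgroup G) : Set G)) := by
        rw [← Subgroup.normal_mul, SetLike.mem_coe, sup_comm]
        exact hy
      obtain ⟨k, hk, q, hq, rfl⟩ := hy'
      refine ⟨QuotientGroup.mk ⟨k, hk⟩, QuotientGroup.eq.mpr ?_⟩
      change (Subgroup.inclusion le_sup_right ⟨k, hk⟩ : X)⁻¹ * ⟨k * q, hy⟩ ∈ _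
      simpa [Subgroup.mem_subgroupOf] using hPT hq
    rw [h5, Subgroup.relIndex]
    congr 1
    exact (Subgroup.subgroupOf_normalizer_eq (H := T) (show T ≤ K from inf_le_right))
  have e4 : (Subgroup.normalizer ((P : Subgroup G) : Set G)).relIndex N =
      Nat.card (Sylow p (N ⧸ T.subgroupOf N)) := by
    rw [card_sylow_quotient_of_isPGroup (T.subgroupOf N) hTp.comap_subtype,
      Sylow.card_eq_index_normalizer (P.subtype hPN), Subgroup.relIndex, ← Sylow.coe_coe,
      Sylow.coe_subtype, Subgroup.subgroupOf_normalizer_eq hPN]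
  have hNX : N ≤ X := hN ▸ inf_le_left
  rw [Sylow.card_eq_index_normalizer P, ← P.coe_coe, ← Subgroup.relIndex_mul_index hNPY, e2,
    ← Subgroup.inf_relIndex_right, ← Subgroup.relIndex_mul_relIndex _ N X hNP hNX,
    ← Subgroup.inf_relIndex_right (Subgroup.normalizer ((P : Subgroup G) : Set G) ⊓ X) N, e3, e1,
    inf_assoc, inf_eq_right.mpr hNX, Subgroup.inf_relIndex_right, e4]
  ring

end H28
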