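import Cfsg.Agent.H28.SylowFormula
import Cfsg.Agent.H1.Cores

/-!
Sylow numbers of solvable groups: every prime-power part is congruent to one modulo `p`.
-/

set_option autoImplicit false
set_option linter.style.haveILetI false

universe u

namespace H28

theorem card_sylow_factor_modEq_one {p : ℕ} [Fact p.Prime] : ∀ (n : ℕ) {G : Type u} [Group G]
    [Finite G], Nat.card G ≤ n → Group.IsSolvable G → ∀ {ℓ : ℕ}, ℓ.Prime →
    ℓ ^ (Nat.card (Sylow p G)).factorization ℓ ≡ 1 [MOD p] := by
  intro n
  induction n with
  | zero => intro G _ _ hn; exact absurd hn (by simpa using Nat.card_pos.ne')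
  | succ n ih =>
    intro G _ _ hn hsol ℓ hℓ
    haveI := hsol
    rcases subsingleton_or_nontrivial G with hG | hG
    · haveI : Subsingleton (Sylow p G) := ⟨fun P Q => Sylow.ext (Subsingleton.elim _ _)⟩
      rw [Nat.card_of_subsingleton (default : Sylow p G), Nat.factorization_one]
      simp only [Finsupp.coe_zero, Pi.zero_apply, pow_zero]
      exact Nat.ModEq.refl 1
    -- a normal subgroup of prime power order
    obtain ⟨d, hd⟩ := (Group.IsSolvable.solvable : ∃ k, derivedSeries G k = ⊥)
    have hex : ∃ m, derivedSeries G m = ⊥ := ⟨d, hd⟩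
    classical
    set m := Nat.find hex
    obtain ⟨m', hm'⟩ : ∃ m', m = m' + 1 := by
      refine ⟨m - 1, ?_⟩
      have : m ≠ 0 := fun h => by
        have h2 := Nat.find_spec hex
        rw [show Nat.find hex = 0 from h, derivedSeries_zero] at h2
        exact top_ne_bot h2
      omega
    set D := derivedSeries G m'
    have hD1 : D ≠ ⊥ := Nat.find_min hex (show m' < Nat.find hex by omega)
    haveI hDn : D.Normal := derivedSeries_normal G m'
    have hDab : ⁅D, D⁆ = ⊥ := by
      have h2 := Nat.find_spec hex
      rw [show Nat.find hex = m' + 1 from hm', derivedSeries_succ] at h2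
      exact h2
    haveI : Nontrivial D := (Subgroup.nontrivial_iff_ne_bot D).mpr hD1
    obtain ⟨r, hr, hrd⟩ := Nat.exists_prime_and_dvd (Finite.one_lt_card (α := D)).ne'
    haveI := Fact.mk hr
    obtain ⟨R⟩ : Nonempty (Sylow r D) := inferInstance
    have hDc : ∀ a b : D, a * b = b * a := fun a b => Subtype.ext (by
      have h1 := Subgroup.commutator_mem_commutator a.2 b.2
      rw [hDab, Subgroup.mem_bot] at h1
      exact commutatorElement_eq_one_iff_mul_comm.mp h1)
    haveI : (R : Subgroup D).Normal := ⟨fun x hx g => by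
      rw [hDc g x, mul_inv_cancel_right]; exact hx⟩
    haveI : (R : Subgroup D).Characteristic := R.characteristic_of_normal inferInstance
    set K := (R : Subgroup D).map D.subtype
    haveI : K.Normal := inferInstance
    have hK1 : K ≠ ⊥ := fun h => R.ne_bot_of_dvd_card hrd
      ((Subgroup.map_eq_bot_iff_of_injective _ D.subtype_injective).mp h)
    obtain ⟨a, ha⟩ := IsPGroup.iff_card.mp (R.isPGroup'.map D.subtype)
    have hlt : Nat.card (G ⧸ K) < Nat.card G := by
      haveI : Nontrivial K := (Subgroup.nontrivial_iff_ne_bot K).mpr hK1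
      rw [Subgroup.card_eq_card_quotient_mul_card_subgroup K]
      exact lt_mul_of_one_lt_right Nat.card_pos Finite.one_lt_card
    have h1 := ih (G := G ⧸ K) (by omega) inferInstance hℓ
    obtain ⟨P⟩ : Nonempty (Sylow p G) := inferInstance
    set N := ((P : Subgroup G) ⊔ K) ⊓
      Subgroup.normalizer ((((P : Subgroup G) ⊓ K : Subgroup G)) : Set G) with hN
    haveI : (((P : Subgroup G) ⊓ K).subgroupOf N).Normal :=
      Subgroup.normal_subgroupOf_iff_le_normalizer (le_inf (inf_le_left.trans le_sup_left)
        Subgroup.le_normalizer) |>.mpr inf_le_right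
    rw [card_sylow_eq_mul K P N hN]
    have hKnum : Nat.card (Sylow p K) = 1 := by
      obtain ⟨Q⟩ : Nonempty (Sylow p K) := inferInstance
      have hKc : ∀ x y : K, x * y = y * x := fun x y => by
        obtain ⟨x', -, hx'⟩ := x.2
        obtain ⟨y', -, hy'⟩ := y.2
        refine Subtype.ext ?_
        change (x : G) * y = y * x
        rw [← hx', ← hy', ← map_mul, ← map_mul, hDc]
      haveI : (Q : Subgroup K).Normal := ⟨fun x hx g => by
        rw [hKc g x, mul_inv_cancel_right]; exact hx⟩
      letI := Sylow.unique_of_normal Q inferInstance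
      exact Nat.card_unique
    set X := N ⧸ ((P : Subgroup G) ⊓ K).subgroupOf N
    set n3 := Nat.card (Sylow p X)
    rw [hKnum, mul_one, Nat.factorization_mul Nat.card_pos.ne' Nat.card_pos.ne', Finsupp.add_apply,
      pow_add]
    have hn3 : ∃ b, n3 = r ^ b := by
      have hd1 : n3 ∣ Nat.card ↥((P : Subgroup G) ⊔ K) := by
        obtain ⟨Q⟩ : Nonempty (Sylow p X) := inferInstance
        exact (Q.card_dvd_index.trans (Subgroup.index_dvd_card _)).trans
          ((Subgroup.card_quotient_dvd_card _).trans (Subgroup.card_dvd_of_le inf_le_left))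
      obtain ⟨c, hc⟩ := IsPGroup.iff_card.mp P.isPGroup'
      have hd2 : n3 ∣ p ^ c * r ^ a := by
        refine hd1.trans ?_
        rw [← hc, ← ha]
        have := H1.card_sup_dvd_mul (P : Subgroup G) K
        exact this
      have hcop : n3.Coprime (p ^ c) := by
        refine Nat.Coprime.pow_right c (Nat.Coprime.symm ?_)
        refine ((Fact.out : p.Prime).coprime_iff_not_dvd).mpr fun h => ?_
        exact not_dvd_card_sylow p X h
      obtain ⟨b, -, hb⟩ := (Nat.dvd_prime_pow hr).mp (hcop.dvd_of_dvd_mul_left hd2)
      exact ⟨b, hb⟩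
    obtain ⟨b, hb⟩ := hn3
    have h3 : ℓ ^ n3.factorization ℓ ≡ 1 [MOD p] := by
      by_cases hℓr : ℓ = r
      · subst hℓr
        have h4 : n3 ≡ 1 [MOD p] := card_sylow_modEq_one p X
        rw [hb] at h4 ⊢
        rw [hℓ.factorization_pow, Finsupp.single_eq_same]
        exact h4
      · rw [hb, hr.factorization_pow, Finsupp.single_eq_of_ne hℓr, pow_zero]
    have := h1.mul h3
    rwa [one_mul] at this

end H28
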