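import Cfsg.Agent.H28.TwoRankThree

/-!
2-groups with exactly three involutions permuted transitively: automorphisms of order 3 fixing the
involutions are trivial.
-/

set_option autoImplicit false
set_option linter.style.haveILetI false

universe u

namespace H28.Rank3

variable {X : Type u} [Group X] [Finite X]

theorem four_group_elems {W : Subgroup X} (hW4 : Nat.card W = 4) {a b c : X} (ha : a ∈ W)
    (hb : b ∈ W) (hc : c ∈ W) (ha1 : a ≠ 1) (hb1 : b ≠ 1) (hc1 : c ≠ 1) (hab : a ≠ b) (hac : a ≠ c)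
    (hbc : b ≠ c) {x : X} (hx : x ∈ W) (hx1 : x ≠ 1) : x = a ∨ x = b ∨ x = c := by
  classical
  haveI := Fintype.ofFinite X
  set s := ((Finset.univ : Finset X).filter fun y => y ∈ W) with hs
  have hcard : s.card = 4 := by
    rw [hs, ← Fintype.card_subtype, ← Nat.card_eq_fintype_card, hW4]
  have hsub : ({1, a, b, c} : Finset X) ⊆ s := by
    intro y hy
    simp only [Finset.mem_insert, Finset.mem_singleton] at hy
    rcases hy with rfl | rfl | rfl | rfl <;> simp [hs, ha, hb, hc]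
  have h4 : ({1, a, b, c} : Finset X).card = 4 := by
    rw [Finset.card_insert_of_notMem (by simp [ha1.symm, hb1.symm, hc1.symm]),
      Finset.card_insert_of_notMem (by simp [hab, hac]), Finset.card_insert_of_notMem (by simp [hbc]),
      Finset.card_singleton]
  have := Finset.eq_of_subset_of_card_le hsub (by rw [hcard, h4])
  have hxs : x ∈ ({1, a, b, c} : Finset X) := by rw [this]; simp [hs, hx]
  simpa [hx1] using hxs

/-- A fixed-point-free automorphism of a four group is transitive. -/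
theorem four_group_transitive {W : Subgroup X} (hW4 : Nat.card W = 4) {d : X}
    (hdW : ∀ x ∈ W, d * x * d⁻¹ ∈ W) (hfpf : ∀ x ∈ W, d * x = x * d → x = 1)
    (hWc : ∀ a ∈ W, ∀ b ∈ W, a * b = b * a) (hW2 : ∀ a ∈ W, a ^ 2 = 1) {x : X} (hx : x ∈ W)
    (hx1 : x ≠ 1) {y : X} (hy : y ∈ W) (hy1 : y ≠ 1) :
    y = x ∨ y = d * x * d⁻¹ ∨ y = d * (d * x * d⁻¹) * d⁻¹ := by
  have hne : ∀ z ∈ W, z ≠ 1 → d * z * d⁻¹ ≠ z ∧ d * z * d⁻¹ ≠ 1 := fun z hz hz1 =>
    ⟨fun h => hz1 (hfpf z hz (mul_inv_eq_iff_eq_mul.mp h)), fun h => hz1 (by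
      rwa [conj_eq_one_iff] at h)⟩
  set x1 := d * x * d⁻¹ with hx1def
  set x2 := d * x1 * d⁻¹ with hx2def
  have h1 := hne x hx hx1
  have h2 := hne x1 (hdW x hx) h1.2
  have h02 : x ≠ x2 := by
    intro h
    have hm : d * (x * x1) * d⁻¹ = x * x1 := by
      rw [show d * (x * x1) * d⁻¹ = (d * x * d⁻¹) * (d * x1 * d⁻¹) by group, ← hx1def, ← hx2def,
        ← h]
      exact hWc _ (hdW x hx) _ hx
    have e := hfpf _ (W.mul_mem hx (hdW x hx)) (mul_inv_eq_iff_eq_mul.mp hm)
    refine h1.1 ?_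
    rw [eq_inv_of_mul_eq_one_right e]
    exact inv_eq_of_mul_eq_one_right ((pow_two x).symm.trans (hW2 x hx))
  exact four_group_elems hW4 hx (hdW x hx) (hdW x1 (hdW x hx)) hx1 h1.2 h2.2 h1.1.symm h02 h2.1.symm
    hy hy1

section Fibres

variable (R W : Subgroup X)

/-- The elements of `R` outside `W` with square `c`. -/
def fib (c : X) : Set X := {x | x ∈ R ∧ x ∉ W ∧ x ^ 2 = c}

variable {R W}

theorem card_fib_conj {g : X} (hgR : g ∈ Subgroup.normalizer (R : Set X))
    (hgW : g ∈ Subgroup.normalizer (W : Set X)) (c : X) :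
    Nat.card (fib R W (g * c * g⁻¹)) = Nat.card (fib R W c) := by
  refine (Nat.card_congr ((MulAut.conj g).toEquiv.subtypeEquiv fun x => ?_)).symm
  show x ∈ fib R W c ↔ g * x * g⁻¹ ∈ fib R W (g * c * g⁻¹)
  simp only [fib, Set.mem_setOf_eq, conj_pow, mul_left_inj, mul_right_inj]
  rw [← Subgroup.mem_normalizer_iff.mp hgR x, ← Subgroup.mem_normalizer_iff.mp hgW x]

theorem four_dvd_fib (hWR : W ≤ R) (hW4 : Nat.card W = 4)
    (hcen : ∀ z ∈ W, ∀ q ∈ R, z * q = q * z) (hW2 : ∀ z ∈ W, z ^ 2 = 1) (c : X) :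
    4 ∣ Nat.card (fib R W c) := by
  letI : MulAction W (fib R W c) :=
    { smul := fun w x => ⟨(w : X) * x.1, R.mul_mem (hWR w.2) x.2.1,
        fun h => x.2.2.1 (by simpa using W.mul_mem (W.inv_mem w.2) h), by
          rw [(show Commute (w : X) x.1 from hcen w w.2 x.1 x.2.1).mul_pow, hW2 w w.2, one_mul,
            x.2.2.2]⟩
      one_smul := fun x => Subtype.ext (one_mul x.1)
      mul_smul := fun g h x => Subtype.ext (mul_assoc (g : X) h x.1) }
  have hfree : ∀ x : fib R W c, MulAction.stabilizer W x = ⊥ := fun x => by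
    rw [Subgroup.eq_bot_iff_forall]
    intro w hw
    have h : (w : X) * x.1 = x.1 := congrArg Subtype.val (MulAction.mem_stabilizer_iff.mp hw)
    exact Subtype.ext (mul_eq_right.mp h)
  rw [Nat.card_congr (MulAction.selfEquivOrbitsQuotientProd hfree), Nat.card_prod, hW4]
  exact dvd_mul_left _ _

theorem card_eq_sum_fib (hWR : W ≤ R) (hW4 : Nat.card W = 4) {a b c : X}
    (hab : a ≠ b) (hac : a ≠ c) (hbc : b ≠ c)
    (hsq : ∀ x ∈ R, x ∉ W → x ^ 2 = a ∨ x ^ 2 = b ∨ x ^ 2 = c) :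
    Nat.card R = 4 + Nat.card (fib R W a) + Nat.card (fib R W b) + Nat.card (fib R W c) := by
  classical
  haveI := Fintype.ofFinite X
  simp only [Nat.card_eq_fintype_card, ← Set.toFinset_card] at hW4 ⊢
  have e : ∀ S : Subgroup X, Fintype.card S = ((Finset.univ : Finset X).filter (· ∈ S)).card :=
    fun S => Fintype.card_subtype _
  have e' : ∀ S : Set X, S.toFinset = (Finset.univ : Finset X).filter (· ∈ S) := fun S => by
    ext; simp
  rw [e] at hW4
  rw [e, e', e', e', ← hW4]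
  rw [← Finset.card_union_of_disjoint, ← Finset.card_union_of_disjoint,
    ← Finset.card_union_of_disjoint]
  · congr 1
    ext x
    simp only [Finset.mem_filter, Finset.mem_univ, true_and, Finset.mem_union, fib, Set.mem_setOf_eq]
    constructor
    · intro hx
      by_cases hxW : x ∈ W
      · tauto
      · rcases hsq x hx hxW with h | h | h <;> tauto
    · rintro (((h | h) | h) | h)
      · exact hWR h
      all_goals exact h.1
  all_goals
    rw [Finset.disjoint_left]
    intro x hx hx'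
    simp only [Finset.mem_filter, Finset.mem_univ, true_and, Finset.mem_union, fib,
      Set.mem_setOf_eq] at hx hx'
    aesop

theorem card_fib_modEq {h : X} (h3 : orderOf h = 3) (hhR : h ∈ Subgroup.normalizer (R : Set X))
    (hhW : h ∈ Subgroup.normalizer (W : Set X)) {c : X} (hc : h * c = c * h) :
    Nat.card (fib R W c) ≡
      Nat.card (fib (R ⊓ Subgroup.centralizer ({h} : Set X)) W c) [MOD 3] := by
  haveI := Fact.mk Nat.prime_three
  set H := Subgroup.zpowers h
  have hgc : ∀ g ∈ H, g * c * g⁻¹ = c := fun g hg => by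
    have : g ∈ Subgroup.centralizer ({c} : Set X) :=
      (Subgroup.zpowers_le.mpr (Subgroup.mem_centralizer_singleton_iff.mpr hc)) hg
    rw [Subgroup.mem_centralizer_singleton_iff.mp this, mul_inv_cancel_right]
  letI : MulAction H (fib R W c) :=
    { smul := fun g x => ⟨(g : X) * x.1 * (g : X)⁻¹,
        (Subgroup.mem_normalizer_iff.mp ((Subgroup.zpowers_le.mpr hhR) g.2) _).mp x.2.1,
        fun hw => x.2.2.1
          ((Subgroup.mem_normalizer_iff.mp ((Subgroup.zpowers_le.mpr hhW) g.2) _).mpr hw), by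
          rw [conj_pow, x.2.2.2, hgc g g.2]⟩
      one_smul := fun x => Subtype.ext (by
        show ((1 : H) : X) * x.1 * ((1 : H) : X)⁻¹ = x.1
        simp)
      mul_smul := fun g k x => Subtype.ext (by
        show ((g * k : H) : X) * x.1 * ((g * k : H) : X)⁻¹ =
          (g : X) * ((k : X) * x.1 * (k : X)⁻¹) * (g : X)⁻¹
        push_cast; group) }
  have hH : IsPGroup 3 H := IsPGroup.of_card (n := 1) (by rw [Nat.card_zpowers, h3, pow_one])
  refine (hH.card_modEq_card_fixedPoints (fib R W c)).trans (Eq.congr_right ?_ |>.mp rfl)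
  refine congrArg (· % 3) (Nat.card_congr
    { toFun := fun x => ⟨x.1.1, ⟨x.1.2.1, Subgroup.mem_centralizer_singleton_iff.mpr (by
        have := congrArg Subtype.val (x.2 ⟨h, Subgroup.mem_zpowers h⟩)
        exact (mul_inv_eq_iff_eq_mul.mp this).symm)⟩, x.1.2.2⟩
      invFun := fun x => ⟨⟨x.1, x.2.1.1, x.2.2⟩, fun g => Subtype.ext (by
        have hg : (g : X) ∈ Subgroup.centralizer ({x.1} : Set X) :=
          (Subgroup.zpowers_le.mpr (Subgroup.mem_centralizer_singleton_iff.mpr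
            (Subgroup.mem_centralizer_singleton_iff.mp x.2.1.2).symm)) g.2
        show (g : X) * x.1 * (g : X)⁻¹ = x.1
        rw [Subgroup.mem_centralizer_singleton_iff.mp hg, mul_inv_cancel_right])⟩
      left_inv := fun x => rfl
      right_inv := fun x => rfl })

end Fibres

theorem two_pow_fibres {a b n : ℕ} {f g k : ℕ} (ha : a ≤ 6) (hR : 2 ^ a = 4 + n + n + n)
    (hC : 2 ^ b = 4 + f + g + k) (hba : b ≤ a) (hf : f % 3 = n % 3) (hg : g % 3 = n % 3)
    (hk : k % 3 = n % 3) (hf4 : 4 ∣ f) (hg4 : 4 ∣ g) (hk4 : 4 ∣ k) : b = a := by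
  interval_cases a <;> interval_cases b <;> omega

/-- An automorphism `h` of order 3 fixing the four group `W` of all involutions of `K`. -/
theorem fixes_of_three_involutions (P W : Subgroup X) (hP : IsPGroup 2 P) (hWP : W ≤ P)
    (hW4 : Nat.card W = 4) (hW2 : ∀ z ∈ W, z ^ 2 = 1) (hWcen : ∀ z ∈ W, ∀ q ∈ P, z * q = q * z)
    (hinv : ∀ x ∈ P, x ^ 2 = 1 → x ∈ W) (d : X) (hdP : d ∈ Subgroup.normalizer (P : Set X))
    (hdW : d ∈ Subgroup.normalizer (W : Set X)) (hfpf : ∀ x ∈ W, d * x = x * d → x = 1) (h : X)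
    (h3 : orderOf h = 3) (hhP : h ∈ Subgroup.normalizer (P : Set X))
    (hhW : ∀ w ∈ W, h * w = w * h) : ∀ x ∈ P, h * x = x * h := by
  classical
  haveI := Fact.mk Nat.prime_two
  by_contra hne
  set S := {K : Subgroup X | W ≤ K ∧ K ≤ P ∧ d ∈ Subgroup.normalizer (K : Set X) ∧
    h ∈ Subgroup.normalizer (K : Set X) ∧ ∃ x ∈ K, h * x ≠ x * h}
  obtain ⟨K, ⟨hWK, hKP, hdK, hhK, hneK⟩, hKmin⟩ :=
    Set.exists_min_image S (fun K => Nat.card K) (Set.toFinite S)
      ⟨P, hWP, le_rfl, hdP, hhP, by push Not at hne; exact hne⟩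
  have hWc : ∀ a ∈ W, ∀ b ∈ W, a * b = b * a := fun a ha b hb => hWcen a ha b (hWP hb)
  have hK2 : IsPGroup 2 K := hP.to_le hKP
  have hhWn : h ∈ Subgroup.normalizer (W : Set X) := mem_normalizer_of_conj fun w hw => by
    rw [hhW w hw, mul_inv_cancel_right]; exact hw
  have hcenK : ∀ z ∈ W, ∀ q ∈ K, z * q = q * z := fun z hz q hq => hWcen z hz q (hKP hq)
  have hWn : ∀ g ∈ K, ∀ w ∈ W, g * w * g⁻¹ ∈ W := fun g hg w hw => by
    rw [← hcenK w hw g hg, mul_inv_cancel_right]; exact hw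
  -- the subgroup `R`
  let R : Subgroup X :=
    { carrier := {x | x ∈ K ∧ x ^ 2 ∈ W ∧ ∀ k ∈ K, x * k * x⁻¹ * k⁻¹ ∈ W}
      one_mem' := ⟨K.one_mem, by simp, fun k _ => by simp⟩
      mul_mem' := by
        rintro x y ⟨hx, hx2, hxc⟩ ⟨hy, hy2, hyc⟩
        refine ⟨K.mul_mem hx hy, ?_, fun k hk => ?_⟩
        · have e : (x * y) ^ 2 = x ^ 2 * (x⁻¹ * (y * x * y⁻¹ * x⁻¹) * x) * y ^ 2 := by
            simp only [pow_two]; group
          rw [e]
          refine W.mul_mem (W.mul_mem hx2 ?_) hy2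
          have := hWn x⁻¹ (K.inv_mem hx) _ (hyc x hx)
          rwa [inv_inv] at this
        · rw [show x * y * k * (x * y)⁻¹ * k⁻¹ =
            x * (y * k * y⁻¹ * k⁻¹) * x⁻¹ * (x * k * x⁻¹ * k⁻¹) by group]
          exact W.mul_mem (hWn x hx _ (hyc k hk)) (hxc k hk)
      inv_mem' := by
        rintro x ⟨hx, hx2, hxc⟩
        refine ⟨K.inv_mem hx, by rw [inv_pow]; exact W.inv_mem hx2, fun k hk => ?_⟩
        rw [show x⁻¹ * k * x⁻¹⁻¹ * k⁻¹ = x⁻¹ * (x * k * x⁻¹ * k⁻¹)⁻¹ * x⁻¹⁻¹ by group]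
        exact hWn _ (K.inv_mem hx) _ (W.inv_mem (hxc k hk)) }
  have hRK : R ≤ K := fun x hx => hx.1
  have hWR : W ≤ R := fun w hw => ⟨hWK hw, by rw [hW2 w hw]; exact W.one_mem, fun k hk => by
    rw [hcenK w hw k hk, mul_inv_cancel_right, mul_inv_cancel]; exact W.one_mem⟩
  have hRn : ∀ g : X, g ∈ Subgroup.normalizer (K : Set X) → g ∈ Subgroup.normalizer (W : Set X) →
      g ∈ Subgroup.normalizer (R : Set X) := by
    intro g hgK hgW
    refine mem_normalizer_of_conj fun x hx => ?_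
    obtain ⟨hx, hx2, hxc⟩ := hx
    refine ⟨(Subgroup.mem_normalizer_iff.mp hgK x).mp hx, ?_, fun k hk => ?_⟩
    · rw [conj_pow]; exact (Subgroup.mem_normalizer_iff.mp hgW _).mp hx2
    · have hk' : g⁻¹ * k * g ∈ K := by
        refine (Subgroup.mem_normalizer_iff.mp hgK _).mpr ?_
        simpa [mul_assoc] using hk
      rw [show g * x * g⁻¹ * k * (g * x * g⁻¹)⁻¹ * k⁻¹ =
        g * (x * (g⁻¹ * k * g) * x⁻¹ * (g⁻¹ * k * g)⁻¹) * g⁻¹ by group]
      exact (Subgroup.mem_normalizer_iff.mp hgW _).mp (hxc _ hk')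
  have hdR := hRn d hdK hdW
  have hhR := hRn h hhK hhWn
  -- an involution of `W`
  obtain ⟨w0, hw0, hw01⟩ : ∃ w ∈ W, w ≠ 1 := by
    by_contra hall
    push Not at hall
    have : W = ⊥ := (Subgroup.eq_bot_iff_forall W).mpr hall
    rw [this, Subgroup.card_bot] at hW4
    omega
  have hdWc : ∀ x ∈ W, d * x * d⁻¹ ∈ W := fun x hx => (Subgroup.mem_normalizer_iff.mp hdW x).mp hx
  set w1 := d * w0 * d⁻¹ with hw1def
  set w2 := d * w1 * d⁻¹ with hw2def
  have htrans : ∀ y ∈ W, y ≠ 1 → y = w0 ∨ y = w1 ∨ y = w2 := fun y hy hy1 =>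
    four_group_transitive hW4 hdWc hfpf hWc hW2 hw0 hw01 hy hy1
  have hw11 : w1 ≠ 1 := fun e => hw01 (by rwa [hw1def, conj_eq_one_iff] at e)
  have hw21 : w2 ≠ 1 := fun e => hw11 (by rwa [hw2def, conj_eq_one_iff] at e)
  have hne01 : w0 ≠ w1 := fun e => hw01 (hfpf _ hw0 (mul_inv_eq_iff_eq_mul.mp e.symm))
  have hne12 : w1 ≠ w2 := fun e => hw11 (hfpf _ (hdWc _ hw0) (mul_inv_eq_iff_eq_mul.mp e.symm))
  have hne02 : w0 ≠ w2 := by
    intro e
    haveI := Fintype.ofFinite X
    have hsub : ((Finset.univ : Finset X).filter (· ∈ W)) ⊆ ({1, w0, w1} : Finset X) := by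
      intro y hy
      simp only [Finset.mem_filter, Finset.mem_univ, true_and] at hy
      by_cases hy1 : y = 1
      · simp [hy1]
      · rcases htrans y hy hy1 with h' | h' | h' <;> simp [h', ← e]
    have hc := (Finset.card_le_card hsub).trans Finset.card_le_three
    rw [← Fintype.card_subtype, ← Nat.card_eq_fintype_card] at hc
    omega
  have hsqR : ∀ x ∈ R, x ∉ W → x ^ 2 = w0 ∨ x ^ 2 = w1 ∨ x ^ 2 = w2 := fun x hx hxW =>
    htrans _ hx.2.1 fun e => hxW (hinv x (hKP hx.1) e)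
  -- `h` centralises `R`
  have hRfix : ∀ r ∈ R, h * r = r * h := by
    obtain ⟨a, ha⟩ := IsPGroup.iff_card.mp (hK2.to_le hRK)
    have ha6 : a ≤ 6 := by
      by_contra hbig
      push Not at hbig
      obtain ⟨x, hx, hxW, hx2⟩ := exists_involution_outside R W W (hK2.to_le hRK) hWR
        (fun z hz q hq => hcenK z hz q hq.1) hW2 le_rfl (fun x hx => hx.2.1) hW4.le
        (Or.inr ⟨hW4, by
          rw [ha, hW4]
          exact le_trans (by norm_num) (Nat.mul_le_mul_right 4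
            (Nat.pow_le_pow_right (by norm_num) (show 7 ≤ a by omega)))⟩)
      exact hxW (hinv x (hKP hx.1) hx2)
    set C := R ⊓ Subgroup.centralizer ({h} : Set X) with hCdef
    obtain ⟨b, hb⟩ := IsPGroup.iff_card.mp (hK2.to_le (inf_le_left.trans hRK) : IsPGroup 2 C)
    have hba : b ≤ a := by
      have := Subgroup.card_le_of_le (show C ≤ R from inf_le_left)
      rw [ha, hb] at this
      exact (Nat.pow_le_pow_iff_right (by norm_num)).mp this
    have hWC : W ≤ C := fun w hw =>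
      ⟨hWR hw, Subgroup.mem_centralizer_singleton_iff.mpr (hhW w hw).symm⟩
    have hn1 : Nat.card (fib R W w1) = Nat.card (fib R W w0) := card_fib_conj hdR hdW w0
    have hn2 : Nat.card (fib R W w2) = Nat.card (fib R W w0) :=
      (card_fib_conj hdR hdW w1).trans hn1
    have hcR := card_eq_sum_fib hWR hW4 hne01 hne02 hne12 hsqR
    have hcC := card_eq_sum_fib hWC hW4 hne01 hne02 hne12 fun x hx hxW => hsqR x hx.1 hxW
    rw [ha, hn1, hn2] at hcR
    rw [hb] at hcC
    have hmod : ∀ c ∈ W, Nat.card (fib C W c) % 3 = Nat.card (fib R W c) % 3 := fun c hc =>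
      (card_fib_modEq h3 hhR hhWn (hhW c hc)).symm
    have hcenC : ∀ z ∈ W, ∀ q ∈ C, z * q = q * z := fun z hz q hq => hcenK z hz q hq.1.1
    have := two_pow_fibres ha6 hcR hcC hba
      (hmod w0 hw0) ((hmod w1 (hdWc _ hw0)).trans (by rw [hn1]))
      ((hmod w2 (hdWc _ (hdWc _ hw0))).trans (by rw [hn2]))
      (four_dvd_fib hWC hW4 hcenC hW2 _) (four_dvd_fib hWC hW4 hcenC hW2 _)
      (four_dvd_fib hWC hW4 hcenC hW2 _)
    have hCR : C = R := Subgroup.eq_of_le_of_card_ge inf_le_left (by rw [ha, hb, this])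
    intro r hr
    rw [← hCR] at hr
    exact (Subgroup.mem_centralizer_singleton_iff.mp hr.2).symm
  -- `R` is central
  have hodd : ∀ x ∈ K, x ^ 3 = 1 → x = 1 := by
    intro x hx hx3
    obtain ⟨k, hk⟩ := hK2 ⟨x, hx⟩
    rw [← orderOf_eq_one_iff]
    exact Nat.eq_one_of_dvd_coprimes (Nat.Coprime.pow_left k (by norm_num))
      (orderOf_dvd_of_pow_eq_one (n := 2 ^ k) (congrArg Subtype.val hk))
      (orderOf_dvd_of_pow_eq_one hx3)
  have hRcen : ∀ r ∈ R, ∀ k ∈ K, r * k = k * r := by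
    set C := K ⊓ Subgroup.centralizer (R : Set X) with hCdef
    have hmem : ∀ k ∈ K, k⁻¹ * (h * k * h⁻¹) ∈ C := by
      intro k hk
      refine ⟨K.mul_mem (K.inv_mem hk) ((Subgroup.mem_normalizer_iff.mp hhK k).mp hk),
        Subgroup.mem_centralizer_iff.mpr fun r hr => ?_⟩
      have hkr : k * r * k⁻¹ ∈ R := by
        rw [show k * r * k⁻¹ = (r * k * r⁻¹ * k⁻¹)⁻¹ * r by group]
        exact R.mul_mem (R.inv_mem (hWR (hr.2.2 k hk))) hr
      have h1 := hRfix r hr
      have h2 := hRfix _ hkr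
      have e : h⁻¹ * r * h = r := by rw [mul_assoc, ← h1, inv_mul_cancel_left]
      set s := h * k * h⁻¹ with hs
      have h4 : s * r * s⁻¹ = k * r * k⁻¹ := by
        calc s * r * s⁻¹ = h * (k * (h⁻¹ * r * h) * k⁻¹) * h⁻¹ := by rw [hs]; group
          _ = h * (k * r * k⁻¹) * h⁻¹ := by rw [e]
          _ = k * r * k⁻¹ := by rw [h2, mul_inv_cancel_right]
      calc r * (k⁻¹ * s) = k⁻¹ * (k * r * k⁻¹) * s := by group
        _ = k⁻¹ * (s * r * s⁻¹) * s := by rw [h4]
        _ = k⁻¹ * s * r := by group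
    by_contra hnc
    push Not at hnc
    obtain ⟨r, hr, k, hk, hrk⟩ := hnc
    have hCK : C ≠ K := fun e => hrk (by
      have : k ∈ C := e.symm ▸ hk
      exact Subgroup.mem_centralizer_iff.mp this.2 r hr)
    have hCn : ∀ g : X, g ∈ Subgroup.normalizer (K : Set X) →
        g ∈ Subgroup.normalizer (R : Set X) → g ∈ Subgroup.normalizer (C : Set X) := by
      intro g hgK hgR
      refine mem_normalizer_of_conj fun x hx => ⟨(Subgroup.mem_normalizer_iff.mp hgK x).mp hx.1,
        Subgroup.mem_centralizer_iff.mpr fun r hr => ?_⟩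
      have hr' : g⁻¹ * r * g ∈ R := by
        refine (Subgroup.mem_normalizer_iff.mp hgR _).mpr ?_
        simpa [mul_assoc] using hr
      have := Subgroup.mem_centralizer_iff.mp hx.2 _ hr'
      calc r * (g * x * g⁻¹) = g * ((g⁻¹ * r * g) * x) * g⁻¹ := by group
        _ = g * (x * (g⁻¹ * r * g)) * g⁻¹ := by rw [this]
        _ = g * x * g⁻¹ * r := by group
    have hWC : W ≤ C := fun w hw => ⟨hWK hw,
      Subgroup.mem_centralizer_iff.mpr fun r hr => (hcenK w hw r hr.1).symm⟩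
    have hCfix : ∀ c ∈ C, h * c = c * h := by
      intro c hc
      by_contra hmv
      exact hCK (Subgroup.eq_of_le_of_card_ge inf_le_left
        (hKmin C ⟨hWC, inf_le_left.trans hKP, hCn d hdK hdR, hCn h hhK hhR, c, hc, hmv⟩))
    obtain ⟨x, hx, hxh⟩ := hneK
    set w := x⁻¹ * (h * x * h⁻¹) with hwdef
    have hw := hCfix _ (hmem x hx)
    have h1 : h * x * h⁻¹ = x * w := by rw [hwdef]; group
    have hww : h * w * h⁻¹ = w := by rw [hw, mul_inv_cancel_right]
    have h2 : h * h * x * (h * h)⁻¹ = x * w * w := by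
      rw [show h * h * x * (h * h)⁻¹ = h * (h * x * h⁻¹) * h⁻¹ by group, h1,
        show h * (x * w) * h⁻¹ = (h * x * h⁻¹) * (h * w * h⁻¹) by group, h1, hww]
    have h3' : h * h * h * x * (h * h * h)⁻¹ = x * w * w * w := by
      rw [show h * h * h * x * (h * h * h)⁻¹ = h * (h * h * x * (h * h)⁻¹) * h⁻¹ by group, h2,
        show h * (x * w * w) * h⁻¹ = (h * x * h⁻¹) * (h * w * h⁻¹) * (h * w * h⁻¹) by group, h1, hww]
    have e3 : h * h * h = 1 := by
      rw [← pow_two, ← pow_succ, show 2 + 1 = orderOf h by rw [h3], pow_orderOf_eq_one]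
    rw [e3, one_mul, inv_one, mul_one, mul_assoc, mul_assoc, eq_comm, mul_eq_left] at h3'
    have := hodd w (hmem x hx).1 (by rw [pow_succ, pow_two, mul_assoc]; exact h3')
    rw [hwdef, inv_mul_eq_one] at this
    exact hxh (mul_inv_eq_iff_eq_mul.mp this.symm)
  -- every element of `W` is a square in `R`
  obtain ⟨r0, hr0, hr0W⟩ : ∃ r ∈ R, r ∉ W := by
    haveI : (W.subgroupOf K).Normal := ⟨fun n hn g => Subgroup.mem_subgroupOf.mpr
      (hWn g g.2 n (Subgroup.mem_subgroupOf.mp hn))⟩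
    haveI : Nontrivial (K ⧸ W.subgroupOf K) := by
      obtain ⟨x, hx, hxh⟩ := hneK
      refine ⟨⟨QuotientGroup.mk ⟨x, hx⟩, 1, fun e => hxh (hhW x ?_)⟩⟩
      exact Subgroup.mem_subgroupOf.mp ((QuotientGroup.eq_one_iff (⟨x, hx⟩ : K)).mp e)
    haveI : Nontrivial (Subgroup.center (K ⧸ W.subgroupOf K)) := (hK2.to_quotient _).center_nontrivial
    obtain ⟨z, hz⟩ := exists_prime_orderOf_dvd_card' (G := Subgroup.center (K ⧸ W.subgroupOf K)) 2 (by
      obtain ⟨n, hn, hcard⟩ := ((hK2.to_quotient (W.subgroupOf K)).to_subgroup _).nontrivial_iff_card.mp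
        (inferInstance : Nontrivial (Subgroup.center (K ⧸ W.subgroupOf K)))
      rw [hcard]; exact dvd_pow_self 2 (by omega))
    obtain ⟨r, hr⟩ := QuotientGroup.mk_surjective (z : K ⧸ W.subgroupOf K)
    refine ⟨r, ⟨r.2, ?_, fun k hk => ?_⟩, fun hrW => ?_⟩
    · have h2 : (r ^ 2 : K) ∈ W.subgroupOf K := by
        rw [← QuotientGroup.eq_one_iff, QuotientGroup.mk_pow, hr, ← SubgroupClass.coe_pow,
          show z ^ 2 = 1 from hz ▸ pow_orderOf_eq_one z]
        rfl
      exact Subgroup.mem_subgroupOf.mp h2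
    · have hc := Subgroup.mem_center_iff.mp z.2 (QuotientGroup.mk ⟨k, hk⟩)
      rw [← hr] at hc
      have hm : r * ⟨k, hk⟩ * r⁻¹ * (⟨k, hk⟩ : K)⁻¹ ∈ W.subgroupOf K := by
        rw [← QuotientGroup.eq_one_iff]
        simp only [QuotientGroup.mk_mul, QuotientGroup.mk_inv]
        rw [← hc, mul_inv_cancel_right, mul_inv_cancel]
      exact Subgroup.mem_subgroupOf.mp hm
    · have : (z : K ⧸ W.subgroupOf K) = 1 := by
        rw [← hr, QuotientGroup.eq_one_iff]; exact Subgroup.mem_subgroupOf.mpr hrW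
      rw [show z = 1 from Subtype.ext this, orderOf_one] at hz
      omega
  have hsurj : ∀ c ∈ W, ∃ r ∈ R, r ^ 2 = c := by
    intro c hc
    by_cases hc1 : c = 1
    · exact ⟨1, R.one_mem, by rw [hc1, one_pow]⟩
    have hsq0 : r0 ^ 2 ∈ W := hr0.2.1
    have hsq1 : r0 ^ 2 ≠ 1 := fun e => hr0W (hinv r0 (hKP hr0.1) e)
    have hdr : ∀ r ∈ R, d * r * d⁻¹ ∈ R := fun r hr => (Subgroup.mem_normalizer_iff.mp hdR r).mp hr
    rcases four_group_transitive hW4 hdWc hfpf hWc hW2 hsq0 hsq1 hc hc1 with e | e | e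
    · exact ⟨r0, hr0, e.symm⟩
    · exact ⟨_, hdr _ hr0, by rw [conj_pow]; exact e.symm⟩
    · exact ⟨_, hdr _ (hdr _ hr0), by rw [conj_pow, conj_pow]; exact e.symm⟩
  -- conclusion
  obtain ⟨Q, Φ, hQK, hΦQ, -, -, -, hΦ2, hsqΦ, -, -, q, hq, hqh⟩ :=
    exists_min K hK2 h h hhK (Subgroup.mem_zpowers h) (h3 ▸ pow_orderOf_eq_one h) hneK
  have hq2 : q ^ 2 ∈ W := hinv _ (hKP (K.pow_mem (hQK hq) 2)) (hΦ2 _ (hsqΦ q hq))
  obtain ⟨r, hr, hrq⟩ := hsurj _ hq2
  have hcomm : Commute q r⁻¹ := (show Commute r q from hRcen r hr q (hQK hq)).symm.inv_right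
  have hqr : q * r⁻¹ ∈ W := hinv _ (hKP (K.mul_mem (hQK hq) (K.inv_mem hr.1)))
    (by rw [hcomm.mul_pow, inv_pow, hrq, mul_inv_cancel])
  have hqR : q ∈ R := by
    have := R.mul_mem (hWR hqr) hr
    rwa [inv_mul_cancel_right] at this
  exact hqh (hRfix q hqR)

/-- An element of order 6 and a fixed-point-free 3-element on a four group force `E₈`. -/
theorem exists_eight (P : Subgroup X) [P.Normal] (hP : IsPGroup 2 P)
    (hC : Subgroup.centralizer (P : Set X) ≤ P) (g : X) (hg : orderOf g = 6) (W : Subgroup X)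
    (hWc : ∀ a ∈ W, ∀ b ∈ W, a * b = b * a) (hW2 : ∀ a ∈ W, a ^ 2 = 1) (hW1 : W ≠ ⊥) (d : X)
    (hdW : d ∈ Subgroup.normalizer (W : Set X)) (hfpf : ∀ x ∈ W, d * x = x * d → x = 1) :
    ∃ E : Subgroup X, (∀ a ∈ E, ∀ b ∈ E, a * b = b * a) ∧ (∀ a ∈ E, a ^ 2 = 1) ∧
      Nat.card E = 8 := by
  classical
  haveI := Fact.mk Nat.prime_two
  by_contra hno
  have hle4 : ∀ E : Subgroup X, (∀ a ∈ E, ∀ b ∈ E, a * b = b * a) → (∀ a ∈ E, a ^ 2 = 1) →
      Nat.card E ≤ 4 := by
    intro E hEc hE2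
    obtain ⟨k, hk⟩ := IsPGroup.iff_card.mp (show IsPGroup 2 E from fun x =>
      ⟨1, Subtype.ext (by simpa using hE2 x x.2)⟩)
    by_contra hbig
    rw [hk] at hbig
    have hk3 : 3 ≤ k := by
      by_contra h
      exact hbig (le_trans (Nat.pow_le_pow_right (by norm_num) (show k ≤ 2 by omega)) (by norm_num))
    obtain ⟨F, hF⟩ := Sylow.exists_subgroup_card_pow_prime (G := E) 2 (n := 3)
      (hk ▸ pow_dvd_pow 2 hk3)
    refine hno ⟨F.map E.subtype, fun a ha b hb => ?_, fun a ha => ?_, ?_⟩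
    · exact hEc a (Subgroup.map_subtype_le F ha) b (Subgroup.map_subtype_le F hb)
    · exact hE2 a (Subgroup.map_subtype_le F ha)
    · rw [Subgroup.card_map_of_injective E.subtype_injective, hF]; rfl
  have hdWc : ∀ x ∈ W, d * x * d⁻¹ ∈ W := fun x hx => (Subgroup.mem_normalizer_iff.mp hdW x).mp hx
  have hWp : IsPGroup 2 W := fun x => ⟨1, Subtype.ext (by simpa using hW2 x x.2)⟩
  have hW4 : Nat.card W = 4 := by
    obtain ⟨k, hk⟩ := IsPGroup.iff_card.mp hWp
    have h4 := hle4 W hWc hW2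
    rw [hk] at h4 ⊢
    have hk2 : k ≤ 2 := (Nat.pow_le_pow_iff_right (show 1 < 2 by norm_num)).mp h4
    have : k ≠ 0 := fun e => hW1 (Subgroup.card_eq_one.mp (by rw [hk, e, pow_zero]))
    have : k ≠ 1 := by
      intro e
      obtain ⟨y, z, hyz, huniv⟩ := Nat.card_eq_two_iff.mp (show Nat.card W = 2 by rw [hk, e, pow_one])
      have mem : ∀ w : W, w = y ∨ w = z := fun w => by
        have := Set.ext_iff.mp huniv w; simpa using this
      obtain ⟨w, hw, hw1⟩ : ∃ w ∈ W, w ≠ 1 := by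
        by_contra hall; push Not at hall
        exact hW1 ((Subgroup.eq_bot_iff_forall W).mpr hall)
      have hw' : d * w * d⁻¹ ≠ 1 := fun e => hw1 (by rwa [conj_eq_one_iff] at e)
      refine hw1 (hfpf w hw (mul_inv_eq_iff_eq_mul.mp ?_))
      rcases mem 1 with e1 | e1 <;> rcases mem ⟨w, hw⟩ with e2 | e2 <;>
        rcases mem ⟨_, hdWc w hw⟩ with e3 | e3 <;>
        first
          | exact congrArg Subtype.val (e3.trans e2.symm)
          | exact absurd (congrArg Subtype.val (e2.trans e1.symm)) hw1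
          | exact absurd (congrArg Subtype.val (e3.trans e1.symm)) hw'
    rw [show k = 2 by omega]; rfl
  -- a 2-group containing both
  set S := P ⊔ W with hS
  have hS2 : IsPGroup 2 S := hP.to_sup_of_normal_left hWp
  have hdP : d ∈ Subgroup.normalizer (P : Set X) := by rw [Subgroup.normalizer_eq_top]; trivial
  have hdS : ∀ x ∈ S, d * x * d⁻¹ ∈ S := fun x hx => by
    have hle : S ≤ S.comap (MulAut.conj d).toMonoidHom := sup_le
      (fun y hy => Subgroup.mem_sup_left (Subgroup.Normal.conj_mem inferInstance y hy d))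
      (fun y hy => Subgroup.mem_sup_right (hdWc y hy))
    exact hle hx
  have hP1 : P ≠ ⊥ := by
    intro e
    have hbot : (⊤ : Subgroup X) ≤ ⊥ := by
      refine le_trans (fun x _ => ?_) (e ▸ hC)
      rw [Subgroup.mem_centralizer_iff]
      intro y hy
      rw [SetLike.mem_coe, Subgroup.mem_bot] at hy
      rw [hy, one_mul, mul_one]
    have : g = 1 := Subgroup.mem_bot.mp (hbot (Subgroup.mem_top g))
    rw [this, orderOf_one] at hg
    omega
  have hWS : W ≤ S := le_sup_right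
  obtain ⟨z, hzS, hz1, hz2, hzc⟩ : ∃ z ∈ S, z ≠ 1 ∧ z ^ 2 = 1 ∧ ∀ s ∈ S, z * s = s * z := by
    haveI : Nontrivial S := by
      obtain ⟨w, hw, hw1⟩ : ∃ w ∈ W, w ≠ 1 := by
        by_contra hall; push Not at hall
        exact hW1 ((Subgroup.eq_bot_iff_forall W).mpr hall)
      exact ⟨⟨⟨w, hWS hw⟩, 1, fun e => hw1 (congrArg Subtype.val e)⟩⟩
    haveI := hS2.center_nontrivial
    obtain ⟨z, hz⟩ := exists_prime_orderOf_dvd_card' (G := Subgroup.center S) 2 (by
      obtain ⟨n, hn, hcard⟩ := (hS2.to_subgroup _).nontrivial_iff_card.mp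
        (inferInstance : Nontrivial (Subgroup.center S))
      rw [hcard]; exact dvd_pow_self 2 (by omega))
    refine ⟨((z : S) : X), (z : S).2, fun e => ?_, ?_, fun s hs => ?_⟩
    · rw [show z = 1 from Subtype.ext (Subtype.ext e), orderOf_one] at hz; omega
    · have := pow_orderOf_eq_one z
      rw [hz] at this
      exact congrArg (fun t : Subgroup.center S => ((t : S) : X)) this
    · exact (congrArg Subtype.val (Subgroup.mem_center_iff.mp z.2 ⟨s, hs⟩)).symm
  have hmemW : ∀ x : X, x ^ 2 = 1 → (∀ w ∈ W, w * x = x * w) → x ∈ W := by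
    intro x hx2 hxc
    by_contra hxW
    obtain ⟨E, -, -, hEc, hE2, hEcard, -⟩ := exists_elem_adjoin W x hWc hW2 hxc hx2 hxW
    have := hle4 E hEc hE2
    omega
  have hzW : z ∈ W := hmemW z hz2 fun w hw => (hzc w (hWS hw)).symm
  have hcenS : ∀ w ∈ W, ∀ s ∈ S, w * s = s * w := by
    intro w hw s hs
    have key : ∀ y : X, (∀ s ∈ S, y * s = s * y) → ∀ s ∈ S, d * y * d⁻¹ * s = s * (d * y * d⁻¹) := by
      intro y hy s hs
      have hsd : d⁻¹ * s * d ∈ S := by
        have hn : d ∈ Subgroup.normalizer (S : Set X) := mem_normalizer_of_conj hdS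
        refine (Subgroup.mem_normalizer_iff.mp hn _).mpr ?_
        simpa [mul_assoc] using hs
      have := hy _ hsd
      calc d * y * d⁻¹ * s = d * (y * (d⁻¹ * s * d)) * d⁻¹ := by group
        _ = d * ((d⁻¹ * s * d) * y) * d⁻¹ := by rw [this]
        _ = s * (d * y * d⁻¹) := by group
    by_cases hw1 : w = 1
    · simp [hw1]
    rcases four_group_transitive hW4 hdWc hfpf hWc hW2 hzW hz1 hw hw1 with e | e | e <;> rw [e]
    · exact hzc s hs
    · exact key z hzc s hs
    · exact key _ (key z hzc) s hs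
  have hinvS : ∀ x ∈ S, x ^ 2 = 1 → x ∈ W := fun x hx hx2 =>
    hmemW x hx2 fun w hw => hcenS w hw x hx
  have hWP : W ≤ P := by
    obtain ⟨n, hn, hcard⟩ := hP.nontrivial_iff_card.mp
      ((Subgroup.nontrivial_iff_ne_bot P).mpr hP1)
    obtain ⟨u, hu⟩ := exists_prime_orderOf_dvd_card' (G := P) 2 (by
      rw [hcard]; exact dvd_pow_self 2 (by omega))
    have hu2 : (u : X) ^ 2 = 1 := by
      rw [← SubgroupClass.coe_pow, ← hu, pow_orderOf_eq_one, OneMemClass.coe_one]
    have hu1 : (u : X) ≠ 1 := fun e => by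
      rw [show u = 1 from Subtype.ext e, orderOf_one] at hu; omega
    have huW := hinvS _ (Subgroup.mem_sup_left u.2) hu2
    have hconj : ∀ y ∈ P, d * y * d⁻¹ ∈ P := fun y hy =>
      Subgroup.Normal.conj_mem inferInstance y hy d
    intro w hw
    by_cases hw1 : w = 1
    · rw [hw1]; exact P.one_mem
    rcases four_group_transitive hW4 hdWc hfpf hWc hW2 huW hu1 hw hw1 with e | e | e <;> rw [e]
    · exact u.2
    · exact hconj _ u.2
    · exact hconj _ (hconj _ u.2)
  have hinvP : ∀ x ∈ P, x ^ 2 = 1 → x ∈ W := fun x hx => hinvS x (Subgroup.mem_sup_left hx)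
  have hWn : ∀ (y : X), ∀ w ∈ W, y * w * y⁻¹ ∈ W := fun y w hw =>
    hinvP _ (Subgroup.Normal.conj_mem inferInstance w (hWP hw) y)
      (by rw [conj_pow, hW2 w hw, mul_one, mul_inv_cancel])
  -- the element of order 6
  set h := g ^ 2 with hh
  set s := g ^ 3 with hs
  have h3 : orderOf h = 3 := by
    rw [hh, orderOf_pow_of_dvd (by norm_num) (by rw [hg]; norm_num), hg]
  have hs2' : orderOf s = 2 := by
    rw [hs, orderOf_pow_of_dvd (by norm_num) (by rw [hg]; norm_num), hg]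
  have hs2 : s ^ 2 = 1 := hs2' ▸ pow_orderOf_eq_one s
  have hs1 : s ≠ 1 := fun e => by rw [e, orderOf_one] at hs2'; omega
  have hsh : Commute s h := (Commute.refl g).pow_pow 3 2
  -- a fixed involution
  obtain ⟨u, hu, hu1, hhu⟩ : ∃ u ∈ W, u ≠ 1 ∧ h * u = u * h := by
    by_cases hsW : s ∈ W
    · exact ⟨s, hsW, hs1, hsh.symm.eq⟩
    obtain ⟨w, hw, hsw⟩ : ∃ w ∈ W, w * s ≠ s * w := by
      by_contra hall; push Not at hall
      exact hsW (hmemW s hs2 hall)
    set w' := s * w * s⁻¹ with hw'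
    have hss : s * s = 1 := (pow_two s).symm.trans hs2
    have hwu : ∀ x ∈ W, s * x = x * s → x = 1 ∨ x = w * w' := by
      intro x hx hxs
      by_cases hx1 : x = 1
      · exact Or.inl hx1
      have hw1 : w ≠ 1 := fun e => hsw (by rw [e, one_mul, mul_one])
      have hwne : w ≠ w' := fun e => hsw (mul_inv_eq_iff_eq_mul.mp e.symm).symm
      have hw'1 : w' ≠ 1 := fun e => hw1 (by rwa [hw', conj_eq_one_iff] at e)
      have hprod1 : w * w' ≠ 1 := fun e => hwne (by
        rw [eq_inv_of_mul_eq_one_right e, inv_eq_of_mul_eq_one_right ((pow_two w).symm.trans (hW2 w hw))])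
      rcases four_group_elems hW4 hw (hWn s w hw) (W.mul_mem hw (hWn s w hw)) hw1 hw'1 hprod1 hwne
        (fun e => hw'1 (mul_eq_left.mp e.symm)) (fun e => hw1 (mul_eq_right.mp e.symm)) hx hx1
        with e | e | e
      · exact absurd (by rw [← e]; exact hxs.symm) hsw
      · refine absurd ?_ hsw
        rw [e] at hxs
        have : s * w' * s⁻¹ = w' := by rw [hxs, mul_inv_cancel_right]
        rw [hw', show s * (s * w * s⁻¹) * s⁻¹ = (s * s) * w * (s * s)⁻¹ by group, hss, one_mul,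
          inv_one, mul_one] at this
        exact (mul_inv_eq_iff_eq_mul.mp this.symm).symm
      · exact Or.inr e
    have hu : w * w' ∈ W := W.mul_mem hw (hWn s w hw)
    have hsu : s * (w * w') = w * w' * s := by
      apply mul_inv_eq_iff_eq_mul.mp
      rw [show s * (w * w') * s⁻¹ = (s * w * s⁻¹) * ((s * s) * w * (s * s)⁻¹) by
        rw [hw']; group, hss, one_mul, inv_one, mul_one]
      exact hWc _ (hWn s w hw) _ hw
    have hu1 : w * w' ≠ 1 := fun e => hsw (by
      have e' := eq_inv_of_mul_eq_one_right e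
      rw [inv_eq_of_mul_eq_one_right ((pow_two w).symm.trans (hW2 w hw))] at e'
      exact (mul_inv_eq_iff_eq_mul.mp e').symm)
    refine ⟨w * w', hu, hu1, mul_inv_eq_iff_eq_mul.mp ?_⟩
    set u := w * w'
    rcases hwu _ (hWn h u hu) (by
      calc s * (h * u * h⁻¹) = h * (s * u) * h⁻¹ := by
            rw [← mul_assoc, ← mul_assoc, hsh.eq]; group
        _ = h * (u * s) * h⁻¹ := by rw [hsu]
        _ = h * u * h⁻¹ * s := by
            rw [mul_assoc (h * u) h⁻¹ s, ← (hsh.inv_right).eq]; group) with e | e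
    · exact absurd (by rwa [conj_eq_one_iff] at e) hu1
    · exact e
  have hhW : ∀ w ∈ W, h * w = w * h := by
    intro w hw
    by_contra hwh
    have hmv : h * w * h⁻¹ ≠ w := fun e => hwh (mul_inv_eq_iff_eq_mul.mp e)
    have hw1 : w ≠ 1 := fun e => hwh (by rw [e, one_mul, mul_one])
    have hwu : w ≠ u := fun e => hwh (e ▸ hhu)
    have hm1 : h * w * h⁻¹ ≠ 1 := fun e => hw1 (by rwa [conj_eq_one_iff] at e)
    have hmu : h * w * h⁻¹ ≠ u := fun e => hwu (by
      rw [show w = h⁻¹ * (h * w * h⁻¹) * h by group, e, mul_assoc, ← hhu, inv_mul_cancel_left])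
    have hm2 : h * (h * w * h⁻¹) * h⁻¹ ≠ u := fun e => hmu (by
      rw [show h * w * h⁻¹ = h⁻¹ * (h * (h * w * h⁻¹) * h⁻¹) * h by group, e, mul_assoc, ← hhu,
        inv_mul_cancel_left])
    have hm21 : h * (h * w * h⁻¹) * h⁻¹ ≠ 1 := fun e => hm1 (by rwa [conj_eq_one_iff] at e)
    have hm22 : h * (h * w * h⁻¹) * h⁻¹ ≠ h * w * h⁻¹ := fun e => hmv (by
      have := congrArg (fun t => h⁻¹ * t * h) e
      simpa [mul_assoc] using this)
    rcases four_group_elems hW4 hu hw (hWn h w hw) hu1 hw1 hm1 hwu.symm hmu.symm hmv.symm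
      (hWn h _ (hWn h w hw)) hm21 with e | e | e
    · exact hm2 e
    · refine hmv ?_
      have e3 : h * h * h = 1 := by
        rw [← pow_two, ← pow_succ, show 2 + 1 = orderOf h by rw [h3], pow_orderOf_eq_one]
      calc h * w * h⁻¹ = h * (h * (h * w * h⁻¹) * h⁻¹) * h⁻¹ := by rw [e]
        _ = (h * h * h) * w * (h * h * h)⁻¹ := by group
        _ = w := by rw [e3, one_mul, inv_one, mul_one]
    · exact hm22 e
  have hfix := fixes_of_three_involutions P W hP hWP hW4 hW2
    (fun w hw q hq => hcenS w hw q (Subgroup.mem_sup_left hq)) hinvP d hdP hdW hfpf h h3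
    (by rw [Subgroup.normalizer_eq_top]; trivial) hhW
  have hhP : h ∈ P := hC (Subgroup.mem_centralizer_iff.mpr fun x hx => (hfix x hx).symm)
  obtain ⟨k, hk⟩ := IsPGroup.iff_orderOf.mp hP ⟨h, hhP⟩
  rw [Subgroup.orderOf_mk, h3] at hk
  rcases Nat.eq_zero_or_pos k with rfl | hkpos
  · norm_num at hk
  · have : 2 ∣ 3 := hk ▸ dvd_pow_self 2 (by omega)
    omega

end H28.Rank3
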