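import Cfsg.Agent.H28.CycVec
import Cfsg.Agent.H60.Irred
import Cfsg.Agent.H33.TwoPrime
import Cfsg.Agent.H15.Homogeneous
import Cfsg.Agent.H3.ComplementCenter
import Cfsg.Agent.H1.Cores
import Cfsg.Prelude.Def_Transfer

/-!
Groups of non prime power order whose automorphism group has exactly three orbits.
-/

set_option autoImplicit false
set_option linter.style.haveILetI false

universe u

namespace H28.ThreeOrbits

open Polynomial

section Lin

variable {p q : ℕ} [Fact p.Prime] [Fact q.Prime] {V : Type*} [AddCommGroup V] [Module (ZMod p) V]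

/-- Transitivity forces `p` to be a primitive root modulo `q`. -/
theorem orderOf_eq_of_transitive [Finite V] [Nontrivial V] (hpq : p ≠ q)
    (X₀ : Module.End (ZMod p) V) (hX : X₀ ^ q = 1) (hX1 : X₀ ≠ 1)
    (htrans : ∀ v w : V, v ≠ 0 → w ≠ 0 → ∃ (T : V ≃ₗ[ZMod p] V) (i : ℕ),
      (T : Module.End (ZMod p) V) * X₀ = X₀ ^ i * T ∧ T v = w)
    (hpow : ∀ i : ℕ, ¬ q ∣ i → ∃ T : V ≃ₗ[ZMod p] V,
      (T : Module.End (ZMod p) V) * X₀ = X₀ ^ i * T) :
    orderOf (p : ZMod q) = q - 1 := by
  classical
  have hp := (Fact.out : p.Prime)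
  have hq := (Fact.out : q.Prime)
  set d := orderOf (p : ZMod q) with hd
  have hp0 : (p : ZMod q) ≠ 0 := fun h => by
    rw [ZMod.natCast_eq_zero_iff] at h
    exact hpq ((Nat.prime_dvd_prime_iff_eq hq hp).mp h).symm
  have hdq : d ∣ q - 1 := orderOf_dvd_of_pow_eq_one (ZMod.pow_card_sub_one_eq_one hp0)
  have hd0 : 0 < d := Nat.pos_of_dvd_of_pos hdq (by have := hq.two_le; omega)
  set R := Algebra.adjoin (ZMod p) ({X₀} : Set (Module.End (ZMod p) V)) with hR
  haveI hRc : IsMulCommutative R := Algebra.isMulCommutative_adjoin _ (by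
    rintro _ rfl _ rfl; rfl)
  open scoped IsMulCommutative in
  letI : CommRing R := inferInstance
  haveI : Finite (Module.End (ZMod p) V) := Finite.of_injective _ DFunLike.coe_injective
  haveI : CharP R p := charP_of_injective_algebraMap (algebraMap (ZMod p) R).injective p
  have hXd : X₀ ^ (p ^ d) = X₀ := by
    have h1 : ((p ^ d : ℕ) : ZMod q) = ((1 : ℕ) : ZMod q) := by
      rw [Nat.cast_pow, Nat.cast_one, hd, pow_orderOf_eq_one]
    rw [pow_eq_pow_mod (p ^ d) hX, (ZMod.natCast_eq_natCast_iff' _ _ _).mp h1,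
      Nat.mod_eq_of_lt hq.one_lt, pow_one]
  have hfrob : ∀ r : R, r ^ (p ^ d) = r := by
    rintro ⟨k, hk⟩
    induction hk using Algebra.adjoin_induction with
    | mem x hx =>
      rw [Set.mem_singleton_iff] at hx
      exact Subtype.ext (by rw [SubmonoidClass.coe_pow]; show x ^ (p ^ d) = x; rw [hx]; exact hXd)
    | algebraMap r =>
      show (algebraMap (ZMod p) R r) ^ (p ^ d) = algebraMap (ZMod p) R r
      rw [← map_pow, ZMod.pow_card_pow]
    | add x y hx hy ihx ihy =>
      show ((⟨x, hx⟩ : R) + ⟨y, hy⟩) ^ (p ^ d) = ⟨x, hx⟩ + ⟨y, hy⟩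
      rw [add_pow_char_pow, ihx, ihy]
    | mul x y hx hy ihx ihy =>
      show ((⟨x, hx⟩ : R) * ⟨y, hy⟩) ^ (p ^ d) = ⟨x, hx⟩ * ⟨y, hy⟩
      rw [mul_pow, ihx, ihy]
  -- annihilators
  let Ann : V → Set R := fun v => {r : R | (r : Module.End (ZMod p) V) v = 0}
  have hconj : ∀ (T : V ≃ₗ[ZMod p] V) (i : ℕ),
      (T : Module.End (ZMod p) V) * X₀ = X₀ ^ i * T → ∀ k ∈ R, ∃ l ∈ R,
        l * (T : Module.End (ZMod p) V) = T * k := by
    intro T i hT k hk
    induction hk using Algebra.adjoin_induction with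
    | mem x hx =>
      rw [Set.mem_singleton_iff] at hx
      exact ⟨X₀ ^ i, R.pow_mem (Algebra.subset_adjoin rfl) i, by rw [hx]; exact hT.symm⟩
    | algebraMap r => exact ⟨_, R.algebraMap_mem r, Algebra.commutes r _⟩
    | add x y _ _ ihx ihy =>
      obtain ⟨a, ha, ha'⟩ := ihx
      obtain ⟨b, hb, hb'⟩ := ihy
      exact ⟨a + b, R.add_mem ha hb, by rw [add_mul, ha', hb', mul_add]⟩
    | mul x y _ _ ihx ihy =>
      obtain ⟨a, ha, ha'⟩ := ihx
      obtain ⟨b, hb, hb'⟩ := ihy
      exact ⟨a * b, R.mul_mem ha hb, by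
        rw [mul_assoc, hb', ← mul_assoc, ha', mul_assoc]⟩
  have hann_le : ∀ v w : V, v ≠ 0 → w ≠ 0 → Nat.card (Ann v) ≤ Nat.card (Ann w) := by
    intro v w hv hw
    obtain ⟨T, i, hT, hTv⟩ := htrans v w hv hw
    choose f hf hf' using fun r : R => hconj T i hT r r.2
    refine Nat.card_le_card_of_injective (fun r : Ann v => (⟨⟨f r.1, hf r.1⟩, ?_⟩ : Ann w)) ?_
    · show f r.1 w = 0
      have h := LinearMap.congr_fun (hf' r.1) v
      simp only [Module.End.mul_apply, LinearEquiv.coe_coe, hTv] at h
      rw [h, show (r.1 : Module.End (ZMod p) V) v = 0 from r.2, map_zero]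
    · intro r s hrs
      have h1 : f r.1 = f s.1 := congrArg (fun t : Ann w => (t.1 : Module.End (ZMod p) V)) hrs
      have h2 := (hf' r.1).symm.trans (h1 ▸ hf' s.1)
      exact Subtype.ext (Subtype.ext (LinearMap.ext fun u => T.injective
        (by simpa using LinearMap.congr_fun h2 u)))
  haveI : Nontrivial (Module.End (ZMod p) V) := ⟨X₀, 1, hX1⟩
  haveI : Nontrivial R := ⟨0, 1, fun h => one_ne_zero (congrArg Subtype.val h).symm⟩
  haveI : NoZeroDivisors R := ⟨fun {r s} hrs => by
    by_contra hne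
    push Not at hne
    obtain ⟨hr, hs⟩ := hne
    have hP : 2 ≤ p ^ d := hp.two_le.trans (Nat.le_self_pow hd0.ne' p)
    set e : R := r ^ (p ^ d - 1) with he
    have her : e * r = r := by rw [he, ← pow_succ, Nat.sub_add_cancel (by omega), hfrob]
    have hes : e * s = 0 := by
      rw [he, show p ^ d - 1 = p ^ d - 2 + 1 by omega, pow_succ, mul_assoc, hrs, mul_zero]
    have hee : e * e = e := by
      calc e * e = (e * r) * r ^ (p ^ d - 2) := by
            rw [mul_assoc, ← pow_succ', show p ^ d - 2 + 1 = p ^ d - 1 by omega, ← he]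
        _ = r * r ^ (p ^ d - 2) := by rw [her]
        _ = e := by rw [← pow_succ', show p ^ d - 2 + 1 = p ^ d - 1 by omega, ← he]
    obtain ⟨v, hv⟩ : ∃ v, (e : Module.End (ZMod p) V) v ≠ 0 := by
      by_contra hall
      push Not at hall
      refine hr ?_
      rw [← her, show e = 0 from Subtype.ext (LinearMap.ext hall), zero_mul]
    obtain ⟨w, hw⟩ : ∃ w, (s : Module.End (ZMod p) V) w ≠ 0 := by
      by_contra hall
      push Not at hall
      exact hs (Subtype.ext (LinearMap.ext hall))
    set v' := (e : Module.End (ZMod p) V) v with hv'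
    set w' := (s : Module.End (ZMod p) V) w with hw'
    have hev : (e : Module.End (ZMod p) V) v' = v' := by
      rw [hv', ← Module.End.mul_apply]
      exact LinearMap.congr_fun (congrArg Subtype.val hee) v
    have hew : (e : Module.End (ZMod p) V) w' = 0 := by
      rw [hw', ← Module.End.mul_apply]
      exact LinearMap.congr_fun (congrArg Subtype.val hes) w
    have hsum : v' + w' ≠ 0 := fun h => hv (by
      have h1 := congrArg (e : Module.End (ZMod p) V) h
      rwa [map_add, map_zero, hev, hew, add_zero] at h1)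
    have hcomm : ∀ (k : R) (u : V), (k : Module.End (ZMod p) V) ((e : Module.End (ZMod p) V) u) =
        (e : Module.End (ZMod p) V) ((k : Module.End (ZMod p) V) u) := fun k u =>
      LinearMap.congr_fun (congrArg Subtype.val (mul_comm k e)) u
    have hsub : Ann (v' + w') ⊆ Ann v' := fun k hk => by
      have h1 : (e : Module.End (ZMod p) V) ((k : Module.End (ZMod p) V) (v' + w')) = 0 := by
        rw [show (k : Module.End (ZMod p) V) (v' + w') = 0 from hk, map_zero]
      rw [← hcomm, map_add, hev, hew, add_zero] at h1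
      exact h1
    have heq : Ann (v' + w') = Ann v' :=
      Set.eq_of_subset_of_ncard_le hsub (hann_le v' _ hv hsum) (Set.toFinite _)
    have hsub2 : Ann (v' + w') ⊆ Ann w' := fun k hk => by
      have hk' : k ∈ Ann v' := hsub hk
      show (k : Module.End (ZMod p) V) w' = 0
      have h1 : (k : Module.End (ZMod p) V) (v' + w') = 0 := hk
      rwa [map_add, show (k : Module.End (ZMod p) V) v' = 0 from hk', zero_add] at h1
    have heq2 : Ann (v' + w') = Ann w' :=
      Set.eq_of_subset_of_ncard_le hsub2 (hann_le w' _ hw hsum) (Set.toFinite _)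
    have : e ∈ Ann v' := by rw [← heq, heq2]; exact hew
    exact hv (hev.symm.trans this)⟩
  haveI : IsDomain R := NoZeroDivisors.to_isDomain R
  haveI : Module.Finite (ZMod p) R := Module.Finite.of_finite
  have hcard : Nat.card R ≤ p ^ d :=
    H60.card_le_of_forall_pow_eq (Nat.one_lt_pow hd0.ne' hp.one_lt) hfrob
  have hfr : Module.finrank (ZMod p) R ≤ d := by
    rw [Module.natCard_eq_pow_finrank (K := ZMod p) (V := R), Nat.card_zmod] at hcard
    exact (Nat.pow_le_pow_iff_right hp.one_lt).mp hcard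
  let t : R := ⟨X₀, Algebra.subset_adjoin rfl⟩
  set m := minpoly (ZMod p) t with hm
  have hm0 : m ≠ 0 := minpoly.ne_zero (IsIntegral.of_finite _ _)
  have hroot : ∀ i : ℕ, ¬ q ∣ i → (m.map (algebraMap (ZMod p) R)).IsRoot (t ^ i) := by
    intro i hi
    obtain ⟨T, hT⟩ := hpow i hi
    have h0 : aeval X₀ m = 0 := by
      have h1 := congrArg Subtype.val (minpoly.aeval (ZMod p) t)
      rwa [Polynomial.aeval_subalgebra_coe] at h1
    have hreg : IsRightRegular (T : Module.End (ZMod p) V) := fun g g' hgg =>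
      LinearMap.ext fun w => by
        obtain ⟨u, rfl⟩ := T.surjective w
        exact LinearMap.congr_fun hgg u
    have h2 := H60.aeval_eq_zero_of_intertwine _ _ _ hreg hT m h0
    rw [IsRoot, eval_map, ← aeval_def]
    apply Subtype.ext
    rw [Polynomial.aeval_subalgebra_coe]
    exact h2
  have hot : orderOf t = q := by
    rw [show orderOf t = orderOf X₀ from
      (orderOf_injective (R.val : R →* Module.End (ZMod p) V) Subtype.val_injective t).symm]
    exact orderOf_eq_prime hX hX1
  let S : Finset R := (Finset.range (q - 1)).image fun i => t ^ (i + 1)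
  have hS : S.card = q - 1 := by
    rw [Finset.card_image_of_injOn, Finset.card_range]
    intro i hi j hj h
    simp only [Finset.coe_range, Set.mem_Iio] at hi hj
    have := pow_injOn_Iio_orderOf (x := t) (show i + 1 < orderOf t by omega)
      (show j + 1 < orderOf t by omega) h
    omega
  have hsubS : S ⊆ (m.map (algebraMap (ZMod p) R)).roots.toFinset := by
    intro y hy
    obtain ⟨i, hi, rfl⟩ := Finset.mem_image.mp hy
    rw [Finset.mem_range] at hi
    rw [Multiset.mem_toFinset, mem_roots (map_ne_zero hm0)]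
    exact hroot _ fun h => by have := Nat.le_of_dvd (by omega) h; omega
  have h1 := (Finset.card_le_card hsubS).trans ((Multiset.toFinset_card_le _).trans (card_roots' _))
  rw [natDegree_map, hS] at h1
  exact le_antisymm (Nat.le_of_dvd (by have := hq.two_le; omega) hdq)
    (h1.trans ((minpoly.natDegree_le t).trans hfr))

end Lin

variable {G : Type u} [Group G] [Finite G]

/-- The additive version of conjugation by `x` on a normal elementary abelian subgroup. -/
def conjAdd (A : Subgroup G) [A.Normal] (x : G) : Additive A →+ Additive A :=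
  MonoidHom.toAdditive ((MulAut.conjNormal x : MulAut A) : A →* A)

theorem conjAdd_pow (A : Subgroup G) [A.Normal] (x : G) (i : ℕ) (v : Additive A) :
    ((conjAdd A x)^[i]) v = conjAdd A (x ^ i) v := by
  induction i generalizing v with
  | zero =>
    simp only [Function.iterate_zero, id_eq, pow_zero]
    apply Additive.toMul.injective
    apply Subtype.ext
    simp [conjAdd]
  | succ i ih =>
    rw [Function.iterate_succ_apply', ih]
    apply Additive.toMul.injective
    apply Subtype.ext
    simp [conjAdd, pow_succ', mul_assoc]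

/-- Automorphisms of a split extension by a cyclic group. -/
theorem exists_aut (A : Subgroup G) [A.Normal] (x : G) (hc : A.IsComplement' (Subgroup.zpowers x))
    (T : A ≃* A) (i : ℕ) (hi : (orderOf x).Coprime i)
    (hT : ∀ a : A, T (MulAut.conjNormal x a) = MulAut.conjNormal (x ^ i) (T a)) :
    ∃ α : MulAut G, α x = x ^ i ∧ ∀ a : A, α a = T a := by
  have hf : Function.Bijective (fun y : Subgroup.zpowers x => y ^ i) :=
    (powCoprime (show (Nat.card (Subgroup.zpowers x)).Coprime i by rwa [Nat.card_zpowers])).bijective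
  let fg : Subgroup.zpowers x ≃* Subgroup.zpowers x :=
    MulEquiv.ofBijective (show Subgroup.zpowers x →* Subgroup.zpowers x from
      { toFun := fun y => y ^ i
        map_one' := one_pow i
        map_mul' := fun a b => Commute.mul_pow (IsMulCommutative.is_comm.comm a b) i }) hf
  have hTn : ∀ (k : ℕ) (a : A), T (MulAut.conjNormal (x ^ k) a) =
      MulAut.conjNormal ((x ^ i) ^ k) (T a) := by
    intro k
    induction k with
    | zero => intro a; simp
    | succ k ih =>
      intro a
      rw [pow_succ, map_mul, MulAut.mul_apply, ih, hT, ← MulAut.mul_apply, ← map_mul, ← pow_succ]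
  let e := SemidirectProduct.mulEquivSubgroup hc
  let c := SemidirectProduct.congr (φ₁ := (A.normalizerMonoidHom).comp
      (Subgroup.inclusion (A.normalizer_eq_top ▸ le_top)))
    (φ₂ := (A.normalizerMonoidHom).comp (Subgroup.inclusion (A.normalizer_eq_top ▸ le_top))) T fg
    (fun g => by
      apply MulEquiv.ext
      intro a
      obtain ⟨k, hk⟩ : ∃ k : ℕ, x ^ k = (g : G) := mem_powers_iff_mem_zpowers.mpr g.2
      have h1 := congrArg Subtype.val (hTn k a)
      apply Subtype.ext
      simp only [MulEquiv.trans_apply, MonoidHom.comp_apply]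
      show (T _ : G) = ((fg g : Subgroup.zpowers x) : G) * (T a : G) * ((fg g : Subgroup.zpowers x) : G)⁻¹
      rw [show ((fg g : Subgroup.zpowers x) : G) = (x ^ i) ^ k by
        show ((g ^ i : Subgroup.zpowers x) : G) = _
        rw [Subgroup.coe_pow, ← hk, ← pow_mul, ← pow_mul, mul_comm]]
      rw [MulAut.conjNormal_apply] at h1
      rw [← h1]
      congr 2
      apply Subtype.ext
      show (g : G) * (a : G) * (g : G)⁻¹ = _
      rw [MulAut.conjNormal_apply, hk])
  refine ⟨(e.symm.trans c).trans e, ?_, fun a => ?_⟩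
  · have h1 : e (SemidirectProduct.inr ⟨x, Subgroup.mem_zpowers x⟩) = x := by simp [e]
    show e (c (e.symm x)) = x ^ i
    rw [show e.symm x = SemidirectProduct.inr ⟨x, Subgroup.mem_zpowers x⟩ from
      e.symm_apply_eq.mpr h1.symm]
    simp [e, c, fg]
  · have h1 : e (SemidirectProduct.inl a) = (a : G) := by simp [e]
    show e (c (e.symm a)) = T a
    rw [show e.symm a = SemidirectProduct.inl a from e.symm_apply_eq.mpr h1.symm]
    simp [e, c, fg]

/-- The automorphism orbits counted by element orders. -/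
theorem card_orbits_of_transitive (S : Finset ℕ) (hS : ∀ n, n ∈ S ↔ ∃ g : G, orderOf g = n)
    (h : ∀ g g' : G, orderOf g = orderOf g' → ∃ α : MulAut G, α g = g') :
    Nat.card (MulAction.orbitRel.Quotient (MulAut G) G) = S.card := by
  let f : MulAction.orbitRel.Quotient (MulAut G) G → S := Quotient.lift
    (fun g => (⟨orderOf g, (hS _).mpr ⟨g, rfl⟩⟩ : S)) (by
      rintro a b ⟨α, rfl⟩
      exact Subtype.ext (MulEquiv.orderOf_eq α b))
  have hf : Function.Bijective f := by
    constructor
    · intro a b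
      induction a using Quotient.inductionOn with
      | h a =>
        induction b using Quotient.inductionOn with
        | h b =>
          intro hab
          obtain ⟨α, hα⟩ := h b a (congrArg Subtype.val hab).symm
          exact Quotient.sound ⟨α, hα⟩
    · rintro ⟨n, hn⟩
      obtain ⟨g, hg⟩ := (hS n).mp hn
      exact ⟨Quotient.mk'' g, Subtype.ext hg⟩
  rw [Nat.card_eq_of_bijective f hf, Nat.card_eq_finsetCard]

theorem pow_eq_one_of_not_mem (p q n : ℕ) [Fact p.Prime] [Fact q.Prime] (hpq : p ≠ q)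
    (hcard : Nat.card G = p ^ n * q) (A : Subgroup G) [A.Normal] (hAcard : Nat.card A = p ^ n)
    (hA : ∀ a ∈ A, a ^ p = 1) (hfpf : ∀ x y : G, orderOf x = q → orderOf y = p → x * y * x⁻¹ ≠ y)
    (g : G) (hg : g ∉ A) : orderOf g = q := by
  have hidx : A.index = q := by
    have h := A.card_mul_index
    rw [hAcard, hcard] at h
    exact Nat.eq_of_mul_eq_mul_left (pow_pos (Fact.out : p.Prime).pos n) h
  have hgq : g ^ q ∈ A := hidx ▸ A.pow_index_mem g
  have hne : g ≠ 1 := fun h => hg (h ▸ A.one_mem)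
  by_cases h1 : g ^ q = 1
  · exact orderOf_eq_prime h1 hne
  exfalso
  have hy : orderOf (g ^ q) = p := orderOf_eq_prime (hA _ hgq) h1
  have hpq' : (g ^ p) ^ q = 1 := by rw [← pow_mul, mul_comm, pow_mul]; exact hA _ hgq
  by_cases h2 : g ^ p = 1
  · -- `g` has order `p`, so it lies in the subgroup
    apply hg
    have h3 : orderOf (QuotientGroup.mk g : G ⧸ A) ∣ 1 := by
      rw [← (Nat.coprime_primes (Fact.out : p.Prime) (Fact.out : q.Prime)).mpr hpq]
      refine Nat.dvd_gcd (orderOf_dvd_of_pow_eq_one ?_) (orderOf_dvd_of_pow_eq_one ?_)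
      · rw [← QuotientGroup.mk_pow, h2, QuotientGroup.mk_one]
      · rw [← QuotientGroup.mk_pow]; exact (QuotientGroup.eq_one_iff _).mpr hgq
    exact (QuotientGroup.eq_one_iff g).mp (orderOf_eq_one_iff.mp (Nat.eq_one_of_dvd_one h3))
  have hx : orderOf (g ^ p) = q := orderOf_eq_prime hpq' h2
  refine hfpf _ _ hx hy ?_
  rw [mul_inv_eq_iff_eq_mul]
  exact (Commute.pow_pow (Commute.refl g) p q).eq

theorem isMulCommutative_of_elementary {p : ℕ} {A : Subgroup G}
    (h : Cfsg.IsElementaryAbelian p A) : ∀ a b : A, a * b = b * a := fun a b => by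
  haveI := h.1
  exact mul_comm' a b

theorem three_orbits_of_primitive {p q n : ℕ} [Fact p.Prime] [Fact q.Prime] (hpq : p ≠ q)
    (hn : 1 ≤ n) (hcard : Nat.card G = p ^ n * q)
    (hsyl : ∀ P : Sylow p G, (P : Subgroup G).Normal ∧ Cfsg.IsElementaryAbelian p (P : Subgroup G))
    (hord : orderOf (p : ZMod q) = q - 1)
    (hfpf : ∀ x y : G, orderOf x = q → orderOf y = p → x * y * x⁻¹ ≠ y) :
    Nat.card (MulAction.orbitRel.Quotient (MulAut G) G) = 3 := by
  classical
  have hp := (Fact.out : p.Prime)
  have hq := (Fact.out : q.Prime)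
  obtain ⟨P⟩ : Nonempty (Sylow p G) := inferInstance
  obtain ⟨hPn, hPel⟩ := hsyl P
  set A := (P : Subgroup G)
  haveI := hPn
  have hAcard : Nat.card A = p ^ n := by
    rw [P.card_eq_multiplicity, hcard, Nat.factorization_mul (pow_ne_zero _ hp.ne_zero) hq.ne_zero]
    simp [hp.factorization_self, hq.factorization, hpq.symm]
  have hout : ∀ g : G, g ∉ A → orderOf g = q := fun g hg =>
    pow_eq_one_of_not_mem p q n hpq hcard A hAcard hPel.2 hfpf g hg
  have hin : ∀ g ∈ A, g ≠ 1 → orderOf g = p := fun g hg h1 => orderOf_eq_prime (hPel.2 g hg) h1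
  obtain ⟨x, hx⟩ := exists_prime_orderOf_dvd_card' (G := G) q (hcard ▸ dvd_mul_left _ _)
  have hxA : x ∉ A := fun h => hpq ((hin x h (fun e => by
    rw [e, orderOf_one] at hx; exact hq.ne_one hx.symm)).symm.trans hx)
  obtain ⟨y₀, hy₀⟩ := exists_prime_orderOf_dvd_card' (G := A) p (by
    rw [hAcard]; exact dvd_pow_self p (by omega))
  rw [← Subgroup.orderOf_coe] at hy₀
  have hdisj : Disjoint A (Subgroup.zpowers x) := Subgroup.disjoint_of_coprime_natCard (by
    rw [hAcard, Nat.card_zpowers, hx]
    exact ((Nat.coprime_primes hp hq).mpr hpq).pow_left n)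
  have hc : A.IsComplement' (Subgroup.zpowers x) :=
    Subgroup.isComplement'_of_coprime (by rw [hAcard, Nat.card_zpowers, hx, hcard]) (by
      rw [hAcard, Nat.card_zpowers, hx]
      exact ((Nat.coprime_primes hp hq).mpr hpq).pow_left n)
  -- linear structure
  letI : CommGroup A := { (inferInstance : Group A) with
    mul_comm := isMulCommutative_of_elementary hPel }
  haveI : Finite (Additive A) := inferInstanceAs (Finite A)
  have hnsmul : ∀ v : Additive A, p • v = 0 := fun v =>
    Additive.toMul.injective (Subtype.ext (hPel.2 _ (Additive.toMul v).2))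
  haveI : Module (ZMod p) (Additive A) := AddCommGroup.zmodModule hnsmul
  let X₀ : Module.End (ZMod p) (Additive A) := AddMonoidHom.toZModLinearMap p (conjAdd A x)
  have hXpow : ∀ (i : ℕ) (v : Additive A), (X₀ ^ i) v = conjAdd A (x ^ i) v := fun i v => by
    rw [Module.End.coe_pow]
    exact conjAdd_pow A x i v
  have hX : X₀ ^ q = 1 := LinearMap.ext fun v => by
    rw [hXpow, ← hx, pow_orderOf_eq_one]
    apply Additive.toMul.injective
    apply Subtype.ext
    simp [conjAdd]
  have hfix : ∀ v, X₀ v = v → v = 0 := by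
    intro v hv
    by_contra hv0
    have h1 : x * ((Additive.toMul v : A) : G) * x⁻¹ = (Additive.toMul v : A) := by
      conv_rhs => rw [← hv]
      simp [X₀, conjAdd]
    exact hfpf x _ hx (hin _ (Additive.toMul v).2 (fun h => hv0
      (Additive.toMul.injective (Subtype.ext h)))) h1
  obtain ⟨htr, hpw⟩ := H28.CycVec.exists_equiv hpq hord X₀ hX hfix
  have haut : ∀ (T : Additive A ≃+ Additive A) (i : ℕ), ¬ q ∣ i →
      (∀ v, T (X₀ v) = (X₀ ^ i) (T v)) →
      ∃ α : MulAut G, α x = x ^ i ∧ ∀ a : A, α a = Additive.toMul (T (Additive.ofMul a)) := by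
    intro T i hi hT
    refine exists_aut A x hc (MulEquiv.toAdditive.symm T) i
      (by rw [hx]; exact (hq.coprime_iff_not_dvd).mpr hi) fun a => ?_
    have h1 := hT (Additive.ofMul a)
    rw [hXpow] at h1
    exact congrArg Additive.toMul h1
  -- elements outside the subgroup
  have hconjx : ∀ g : G, g ∉ A → ∃ i : ℕ, ¬ q ∣ i ∧ ∃ h : G, h * x ^ i * h⁻¹ = g := by
    intro g hg
    have hgo := hout g hg
    obtain ⟨h, hh⟩ : ∃ h : G, g ∈ (Subgroup.zpowers x).map (MulAut.conj h).toMonoidHom := by
      have hS : ∀ z : G, orderOf z = q →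
          Nat.card (Subgroup.zpowers z) = q ^ (Nat.card G).factorization q := fun z hz => by
        rw [Nat.card_zpowers, hz, hcard,
          Nat.factorization_mul (pow_ne_zero _ hp.ne_zero) hq.ne_zero]
        simp [hp.factorization_pow, hq.factorization, hpq]
      obtain ⟨h, hh⟩ := MulAction.exists_smul_eq G (Sylow.ofCard _ (hS x hx))
        (Sylow.ofCard _ (hS g hgo))
      refine ⟨h, ?_⟩
      have h2 := congrArg (fun S : Sylow q G => (S : Subgroup G)) hh
      simp only [Sylow.coe_subgroup_smul, Sylow.coe_ofCard] at h2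
      have h3 : g ∈ Subgroup.zpowers g := Subgroup.mem_zpowers g
      rw [← h2] at h3
      exact h3
    obtain ⟨y, hy, rfl⟩ := hh
    obtain ⟨i, rfl⟩ := mem_powers_iff_mem_zpowers.mpr hy
    refine ⟨i, fun hqi => hg ?_, h, rfl⟩
    obtain ⟨k, rfl⟩ := hqi
    show MulAut.conj h ((x : G) ^ (q * k)) ∈ A
    rw [pow_mul, ← hx, pow_orderOf_eq_one, one_pow, map_one]
    exact A.one_mem
  have hq1 : ¬ q ∣ 1 := fun h => hq.ne_one (Nat.eq_one_of_dvd_one h)
  have key : ∀ g g' : G, orderOf g = orderOf g' → ∃ α : MulAut G, α g = g' := by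
    intro g g' hgg
    by_cases h1 : g = 1
    · subst h1
      rw [orderOf_one, eq_comm, orderOf_eq_one_iff] at hgg
      exact ⟨1, hgg.symm⟩
    have h1' : g' ≠ 1 := fun h => h1 (orderOf_eq_one_iff.mp (hgg.trans (h ▸ orderOf_one)))
    by_cases hgA : g ∈ A
    · have hg'A : g' ∈ A := by
        by_contra h
        exact hpq ((hin g hgA h1).symm.trans (hgg.trans (hout g' h)))
      have hne : ∀ (z : G) (hz : z ∈ A), z ≠ 1 → Additive.ofMul (⟨z, hz⟩ : A) ≠ 0 :=
        fun z hz hz1 h => hz1 (congrArg (fun v : Additive A => ((Additive.toMul v : A) : G)) h)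
      obtain ⟨T, hT, hTv⟩ := htr _ _ (hne g hgA h1) (hne g' hg'A h1')
      obtain ⟨α, -, hα⟩ := haut T 1 hq1 (by simpa using hT)
      exact ⟨α, (hα ⟨g, hgA⟩).trans (by rw [hTv]; rfl)⟩
    · have hg'A : g' ∉ A := fun h => hpq
        ((hout g hgA).symm.trans (hgg.trans (hin g' h h1'))).symm
      have hx' : ∀ z : G, z ∉ A → ∃ α : MulAut G, α x = z := by
        intro z hz
        obtain ⟨i, hi, h, hh⟩ := hconjx z hz
        obtain ⟨T, hT⟩ := hpw i hi
        obtain ⟨α, hα, -⟩ := haut T i hi hT
        exact ⟨MulAut.conj h * α, by rw [MulAut.mul_apply, hα]; exact hh⟩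
      obtain ⟨α, hα⟩ := hx' g hgA
      obtain ⟨β, hβ⟩ := hx' g' hg'A
      exact ⟨β * α⁻¹, by rw [MulAut.mul_apply, ← hα, MulAut.inv_apply_self, hβ]⟩
  rw [card_orbits_of_transitive {1, p, q} (fun m => ?_) key]
  · rw [Finset.card_insert_of_notMem (by simp [hp.ne_one.symm, hq.ne_one.symm]),
      Finset.card_insert_of_notMem (by simp [hpq]), Finset.card_singleton]
  · simp only [Finset.mem_insert, Finset.mem_singleton]
    constructor
    · rintro (rfl | rfl | rfl)
      · exact ⟨1, orderOf_one⟩
      · exact ⟨y₀, hy₀⟩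
      · exact ⟨x, hx⟩
    · rintro ⟨g, rfl⟩
      by_cases h1 : g = 1
      · left; rw [h1, orderOf_one]
      by_cases hgA : g ∈ A
      · exact Or.inr (Or.inl (hin g hgA h1))
      · exact Or.inr (Or.inr (hout g hgA))

theorem primitive_of_three_orbits (hnpp : ¬ IsPrimePow (Nat.card G)) (hnt : Nat.card G ≠ 1)
    (h3 : Nat.card (MulAction.orbitRel.Quotient (MulAut G) G) = 3) :
    ∃ (p q n : ℕ) (_ : Fact p.Prime) (_ : Fact q.Prime), p ≠ q ∧ 1 ≤ n ∧ Nat.card G = p ^ n * q ∧
      (∀ P : Sylow p G, (P : Subgroup G).Normal ∧ Cfsg.IsElementaryAbelian p (P : Subgroup G)) ∧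
      orderOf (p : ZMod q) = q - 1 ∧
      ∀ x y : G, orderOf x = q → orderOf y = p → x * y * x⁻¹ ≠ y := by
  classical
  haveI : Finite (MulAut G) := Finite.of_injective _ DFunLike.coe_injective
  obtain ⟨r, hr, hrG⟩ := Nat.exists_prime_and_dvd hnt
  obtain ⟨s, hs, hsG, hsr⟩ : ∃ s, s.Prime ∧ s ∣ Nat.card G ∧ s ≠ r := by
    by_contra hall
    push Not at hall
    refine hnpp ?_
    have h1 : Nat.card G = r ^ (Nat.card G).primeFactorsList.length :=
      Nat.eq_prime_pow_of_unique_prime_dvd Nat.card_pos.ne' fun {d} hd hdd => hall d hd hdd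
    rw [h1]
    exact (hr.prime.isPrimePow).pow (fun h => hnt (by rw [h1, h, pow_zero]))
  let f : MulAction.orbitRel.Quotient (MulAut G) G → ℕ := Quotient.lift (fun g : G => orderOf g) (by
    rintro a b ⟨α, rfl⟩
    exact MulEquiv.orderOf_eq α b)
  haveI := Fintype.ofFinite (MulAction.orbitRel.Quotient (MulAut G) G)
  rw [Nat.card_eq_fintype_card] at h3
  set S := (Finset.univ : Finset (MulAction.orbitRel.Quotient (MulAut G) G)).image f with hSdef
  have hmem : ∀ g : G, orderOf g ∈ S := fun g =>
    Finset.mem_image.mpr ⟨Quotient.mk'' g, Finset.mem_univ _, rfl⟩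
  haveI := Fact.mk hr
  haveI := Fact.mk hs
  have hsub : ({1, r, s} : Finset ℕ) ⊆ S := by
    intro m hm
    simp only [Finset.mem_insert, Finset.mem_singleton] at hm
    rcases hm with rfl | rfl | rfl
    · simpa using hmem 1
    · obtain ⟨g, hg⟩ := exists_prime_orderOf_dvd_card' (G := G) _ hrG; exact hg ▸ hmem g
    · obtain ⟨g, hg⟩ := exists_prime_orderOf_dvd_card' (G := G) _ hsG; exact hg ▸ hmem g
  have hc3 : ({1, r, s} : Finset ℕ).card = 3 := by
    rw [Finset.card_insert_of_notMem (by simp [hr.ne_one.symm, hs.ne_one.symm]),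
      Finset.card_insert_of_notMem (by simp [hsr.symm]), Finset.card_singleton]
  have hle : S.card ≤ 3 := h3 ▸ Finset.card_image_le
  have hSeq : ({1, r, s} : Finset ℕ) = S := Finset.eq_of_subset_of_card_le hsub (by omega)
  have hords : ∀ g : G, g ≠ 1 → orderOf g = r ∨ orderOf g = s := by
    intro g hg
    have h := hmem g
    rw [← hSeq] at h
    simp only [Finset.mem_insert, Finset.mem_singleton, orderOf_eq_one_iff] at h
    exact h.resolve_left hg
  have htr : ∀ g g' : G, orderOf g = orderOf g' → ∃ α : MulAut G, α g = g' := by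
    intro g g' h
    have hinj : Set.InjOn f ↑(Finset.univ : Finset (MulAction.orbitRel.Quotient (MulAut G) G)) :=
      Finset.card_image_iff.mp (by rw [← hSdef, ← hSeq, hc3, Finset.card_univ, h3])
    have h1 : (Quotient.mk'' g' : MulAction.orbitRel.Quotient (MulAut G) G) = Quotient.mk'' g :=
      hinj (by simp) (by simp) h.symm
    exact Quotient.exact' h1
  -- the prime of a normal subgroup
  have hsol : Group.IsSolvable G := H33.isSolvable_of_two_primes hr hs fun l hl hlG => by
    haveI := Fact.mk hl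
    obtain ⟨g, hg⟩ := exists_prime_orderOf_dvd_card' (G := G) l hlG
    rcases hords g (fun h => by rw [h, orderOf_one] at hg; exact hl.ne_one hg.symm) with h | h
    · exact Or.inl (hg ▸ h)
    · exact Or.inr (hg ▸ h)
  haveI := hsol
  haveI : Nontrivial G := by
    rw [← Finite.one_lt_card_iff_nontrivial]; have := Nat.card_pos (α := G); omega
  obtain ⟨N, p, hN, hp, hN1, hNp, -, -⟩ := H15.exists_minimal_normal_elementary (G := G)
  haveI := hN
  obtain ⟨a, haN, ha1⟩ : ∃ a ∈ N, a ≠ 1 :=
    (Subgroup.ne_bot_iff_exists_ne_one.mp hN1).elim fun n hn =>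
      ⟨n, n.2, fun e => hn (Subtype.ext e)⟩
  have hao : orderOf a = p := by
    haveI := Fact.mk hp; exact orderOf_eq_prime (hNp a haN) ha1
  obtain ⟨q, hq, hqG, hpq, hord'⟩ : ∃ q, q.Prime ∧ q ∣ Nat.card G ∧ p ≠ q ∧
      ∀ g : G, g ≠ 1 → orderOf g = p ∨ orderOf g = q := by
    rcases hords a ha1 with h | h
    · exact ⟨s, hs, hsG, by rw [← hao, h]; exact hsr.symm, fun g hg => by
        rw [← hao, h]; exact hords g hg⟩
    · exact ⟨r, hr, hrG, by rw [← hao, h]; exact hsr, fun g hg => by
        rw [← hao, h]; exact (hords g hg).symm⟩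
  haveI := Fact.mk hp
  haveI := Fact.mk hq
  set A := Cfsg.pCore p G with hAdef
  haveI hAn : A.Normal := H1.pCore_normal' p G
  haveI hAch : A.Characteristic := H1.pCore_characteristic p G
  have haA : a ∈ A := H1.le_pCore (N := N) (fun x => ⟨1, by
    rw [pow_one]; exact Subtype.ext (hNp x x.2)⟩) haN
  have hinv : ∀ (B : Subgroup G) [B.Characteristic], a ∈ B → ∀ g : G, orderOf g = p → g ∈ B := by
    intro B hB hB' g hg
    obtain ⟨α, rfl⟩ := htr a g (hao.trans hg.symm)
    have := Subgroup.characteristic_iff_le_comap.mp hB α hB'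
    exact this
  have hAall : ∀ g : G, orderOf g = p → g ∈ A := hinv A haA
  have hAp : IsPGroup p A := H1.isPGroup_pCore p G
  have hAexp : ∀ g ∈ A, g ^ p = 1 := by
    intro g hg
    by_cases h1 : g = 1
    · rw [h1, one_pow]
    rcases hord' g h1 with h | h
    · rw [← h]; exact pow_orderOf_eq_one g
    · exfalso
      obtain ⟨k, hk⟩ := IsPGroup.iff_orderOf.mp hAp ⟨g, hg⟩
      rw [Subgroup.orderOf_mk, h] at hk
      exact hpq ((Nat.prime_dvd_prime_iff_eq hq hp).mp
        (hq.dvd_of_dvd_pow (n := k) (hk ▸ dvd_rfl))).symm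
  have hAcomm : ∀ x y : A, x * y = y * x := by
    haveI : Nontrivial A := ⟨⟨⟨a, haA⟩, 1, fun e => ha1 (congrArg Subtype.val e)⟩⟩
    haveI := hAp.center_nontrivial
    obtain ⟨z, hz⟩ := exists_ne (1 : Subgroup.center A)
    have hzo : orderOf (((z : A)) : G) = p := orderOf_eq_prime (hAexp _ (z : A).2) fun e =>
      hz (Subtype.ext (Subtype.ext e))
    intro x y
    by_cases hx1 : x = 1
    · simp [hx1]
    obtain ⟨α, hα⟩ := htr _ (x : G) (hzo.trans
      (orderOf_eq_prime (hAexp _ x.2) fun e => hx1 (Subtype.ext e)).symm)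
    have hy : α.symm (y : G) ∈ A :=
      Subgroup.characteristic_iff_le_comap.mp hAch α.symm y.2
    have hc := Subgroup.mem_center_iff.mp z.2 ⟨_, hy⟩
    have := congrArg (fun w : A => α (w : G)) hc
    simp only [Subgroup.coe_mul, map_mul, MulEquiv.apply_symm_apply, hα] at this
    exact Subtype.ext this.symm
  have hfpf : ∀ x y : G, orderOf x = q → orderOf y = p → x * y * x⁻¹ ≠ y := by
    intro x y hx hy he
    have hc : Commute x y := mul_inv_eq_iff_eq_mul.mp he
    have h := hc.orderOf_mul_eq_mul_orderOf_of_coprime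
      (by rw [hx, hy]; exact (Nat.coprime_primes hq hp).mpr hpq.symm)
    rw [hx, hy] at h
    have h2p := hp.two_le
    have h2q := hq.two_le
    rcases hord' (x * y) (fun e => by rw [e, orderOf_one] at h; nlinarith) with h' | h' <;>
      (rw [h'] at h; nlinarith)
  obtain ⟨n, hn⟩ := IsPGroup.iff_card.mp hAp
  have hn1 : 1 ≤ n := by
    by_contra h0
    rw [show n = 0 by omega, pow_zero] at hn
    haveI := Subgroup.card_eq_one.mp hn ▸ haA
    exact ha1 (by simpa using (Subgroup.card_eq_one.mp hn ▸ haA : a ∈ (⊥ : Subgroup G)))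
  -- the complement has order `q`
  have hidx : A.index = q := by
    have hprimes : ∀ l, l.Prime → l ∣ A.index → l = q := by
      intro l hl hlA
      haveI := Fact.mk hl
      obtain ⟨gb, hgb⟩ := exists_prime_orderOf_dvd_card' (G := G ⧸ A) l (by
        rwa [← Subgroup.index_eq_card])
      obtain ⟨g, rfl⟩ := QuotientGroup.mk_surjective gb
      have hg1 : g ≠ 1 := fun e => by
        rw [e, QuotientGroup.mk_one, orderOf_one] at hgb; exact hl.ne_one hgb.symm
      rcases hord' g hg1 with h | h
      · rw [(QuotientGroup.eq_one_iff g).mpr (hAall g h), orderOf_one] at hgb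
        exact absurd hgb.symm hl.ne_one
      · have := orderOf_map_dvd (QuotientGroup.mk' A) g
        rw [QuotientGroup.mk'_apply, hgb, h] at this
        exact (Nat.prime_dvd_prime_iff_eq hl hq).mp this
    obtain ⟨b, hb⟩ : ∃ b, A.index = q ^ b :=
      ⟨_, Nat.eq_prime_pow_of_unique_prime_dvd Subgroup.index_ne_zero_of_finite
        fun {d} hd hdd => hprimes d hd hdd⟩
    rcases b with _ | _ | b
    · exfalso
      have h := A.card_mul_index
      rw [hb, hn, pow_zero, mul_one] at h
      exact hpq ((Nat.prime_dvd_prime_iff_eq hq hp).mp (hq.dvd_of_dvd_pow (h ▸ hqG))).symm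
    · rw [hb, pow_one]
    exfalso
    obtain ⟨T, hT⟩ := Sylow.exists_subgroup_card_pow_prime (G := G) q (n := 2) (by
      rw [← A.card_mul_index, hb]
      exact (Nat.pow_dvd_pow q (by omega)).trans (dvd_mul_left _ _))
    have hTq : ∀ t ∈ T, t ≠ 1 → orderOf t = q := by
      intro t ht ht1
      refine (hord' t ht1).resolve_left fun h => ?_
      have := Subgroup.orderOf_dvd_natCard T ht
      rw [h, hT] at this
      exact hpq ((Nat.prime_dvd_prime_iff_eq hp hq).mp (hp.dvd_of_dvd_pow this))
    obtain ⟨g, hg⟩ := (H3.isCyclic_of_fpf_card_mul (K := A) (H := T)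
      (fun h => ha1 (by simpa [h] using haA)) (fun t ht ht1 => by
        rw [Subgroup.eq_bot_iff_forall]
        rintro y ⟨hy, hy'⟩
        by_contra hy1
        refine hfpf t y (hTq t ht ht1) (orderOf_eq_prime (hAexp y hy) hy1) ?_
        rw [mul_inv_eq_iff_eq_mul]
        exact (Subgroup.mem_centralizer_singleton_iff.mp hy').symm)
      T le_rfl hq hq (by rw [hT, sq])).exists_generator
    have hgo : orderOf g = q ^ 2 := by rw [orderOf_eq_card_of_forall_mem_zpowers hg, hT]
    rw [← Subgroup.orderOf_coe] at hgo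
    have h2 := hTq g g.2 (fun e => by
      rw [e, orderOf_one] at hgo
      exact absurd hgo.symm (Nat.one_lt_pow two_ne_zero hq.one_lt).ne')
    rw [h2] at hgo
    nlinarith [hq.two_le]
  have hcard : Nat.card G = p ^ n * q := by rw [← A.card_mul_index, hn, hidx]
  have hnotdvd : ¬ p ∣ A.index := by
    rw [hidx]; exact fun h => hpq ((Nat.prime_dvd_prime_iff_eq hp hq).mp h)
  refine ⟨p, q, n, inferInstance, inferInstance, hpq, hn1, hcard, fun P => ?_, ?_, hfpf⟩
  · have hPA : (P : Subgroup G) = A := (Subgroup.eq_of_le_of_card_ge (H1.pCore_le_sylow P)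
      (le_of_eq (by
        rw [hn, P.card_eq_multiplicity, hcard,
          Nat.factorization_mul (pow_ne_zero _ hp.ne_zero) hq.ne_zero]
        simp [hp.factorization_self, hq.factorization, hpq.symm]))).symm
    rw [hPA]
    exact ⟨hAn, ⟨⟨⟨hAcomm⟩⟩, hAexp⟩⟩
  -- linear structure
  letI : CommGroup A := { (inferInstance : Group A) with mul_comm := hAcomm }
  haveI : Finite (Additive A) := inferInstanceAs (Finite A)
  have hnsmul : ∀ v : Additive A, p • v = 0 := fun v =>
    Additive.toMul.injective (Subtype.ext (hAexp _ (Additive.toMul v).2))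
  haveI : Module (ZMod p) (Additive A) := AddCommGroup.zmodModule hnsmul
  obtain ⟨x, hx⟩ := exists_prime_orderOf_dvd_card' (G := G) q hqG
  let X₀ : Module.End (ZMod p) (Additive A) := AddMonoidHom.toZModLinearMap p (conjAdd A x)
  have hXpow : ∀ (i : ℕ) (v : Additive A), (X₀ ^ i) v = conjAdd A (x ^ i) v := fun i v => by
    rw [Module.End.coe_pow]
    exact conjAdd_pow A x i v
  have hX : X₀ ^ q = 1 := LinearMap.ext fun v => by
    rw [hXpow, ← hx, pow_orderOf_eq_one]
    apply Additive.toMul.injective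
    apply Subtype.ext
    simp [conjAdd]
  haveI : Nontrivial (Additive A) :=
    ⟨⟨Additive.ofMul ⟨a, haA⟩, 0, fun e => ha1 (congrArg
      (fun v : Additive A => ((Additive.toMul v : A) : G)) e)⟩⟩
  have hX1 : X₀ ≠ 1 := fun h => hfpf x a hx hao (by
    have := congrArg (fun v : Additive A => ((Additive.toMul v : A) : G))
      (LinearMap.congr_fun h (Additive.ofMul ⟨a, haA⟩))
    simpa [X₀, conjAdd] using this)
  have hAimg : ∀ (α : MulAut G) (y : G), y ∈ A → α y ∈ A := fun α y hy =>
    Subgroup.characteristic_iff_le_comap.mp hAch α hy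
  let TT : MulAut G → (Additive A ≃ₗ[ZMod p] Additive A) := fun α =>
    { AddMonoidHom.toZModLinearMap p (MonoidHom.toAdditive
        { toFun := fun y : A => (⟨α y, hAimg α y y.2⟩ : A)
          map_one' := Subtype.ext (map_one α)
          map_mul' := fun y z => Subtype.ext (map_mul α _ _) }) with
      invFun := fun v => Additive.ofMul ⟨α.symm (Additive.toMul v : A),
        hAimg α.symm _ (Additive.toMul v : A).2⟩
      left_inv := fun v => Additive.toMul.injective (Subtype.ext (α.symm_apply_apply _))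
      right_inv := fun v => Additive.toMul.injective (Subtype.ext (α.apply_symm_apply _)) }
  have hTT : ∀ (α : MulAut G) (v : Additive A),
      ((Additive.toMul (TT α v) : A) : G) = α ((Additive.toMul v : A) : G) := fun α v => rfl
  -- every automorphism normalises the cyclic group modulo `A`
  have hint : ∀ (α : MulAut G) (i : ℕ) (b : G), b ∈ A → α x = b * x ^ i →
      (TT α : Module.End (ZMod p) (Additive A)) * X₀ = X₀ ^ i * TT α := by
    intro α i b hb hαx
    refine LinearMap.ext fun v => ?_
    apply Additive.toMul.injective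
    apply Subtype.ext
    rw [Module.End.mul_apply, Module.End.mul_apply, LinearEquiv.coe_coe, hXpow]
    simp only [hTT, X₀, conjAdd, AddMonoidHom.coe_toZModLinearMap, MonoidHom.toAdditive_apply_apply,
      MonoidHom.coe_coe, MulAut.conjNormal_apply, toMul_ofMul, map_mul, map_inv, hαx]
    have hm : x ^ i * α ((Additive.toMul v : A) : G) * (x ^ i)⁻¹ ∈ A :=
      hAn.conj_mem _ (hAimg α _ (Additive.toMul v : A).2) _
    have hc := congrArg Subtype.val (hAcomm ⟨b, hb⟩ ⟨_, hm⟩)
    simp only [Subgroup.coe_mul] at hc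
    calc b * x ^ i * α ((Additive.toMul v : A) : G) * (b * x ^ i)⁻¹
        = b * (x ^ i * α ((Additive.toMul v : A) : G) * (x ^ i)⁻¹) * b⁻¹ := by group
      _ = _ := by rw [hc]; group
  refine orderOf_eq_of_transitive hpq X₀ hX hX1 ?_ ?_
  · intro v w hv hw
    have ho : ∀ v : Additive A, v ≠ 0 → orderOf ((Additive.toMul v : A) : G) = p := fun v hv =>
      orderOf_eq_prime (hAexp _ (Additive.toMul v : A).2) fun e =>
        hv (Additive.toMul.injective (Subtype.ext e))
    obtain ⟨α, hα⟩ := htr _ _ ((ho v hv).trans (ho w hw).symm)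
    have hcop : (Nat.card A).Coprime (Nat.card (Subgroup.zpowers x)) := by
      rw [hn, Nat.card_zpowers, hx]; exact ((Nat.coprime_primes hp hq).mpr hpq).pow_left n
    obtain ⟨⟨b, y⟩, hby, -⟩ := Subgroup.isComplement_iff_existsUnique.mp
      (Subgroup.isComplement'_of_coprime (H := A) (K := Subgroup.zpowers x)
        (by rw [hn, Nat.card_zpowers, hx, hcard]) hcop) (α x)
    obtain ⟨i, hi⟩ : ∃ i : ℕ, x ^ i = (y : G) := mem_powers_iff_mem_zpowers.mpr y.2
    refine ⟨TT α, i, hint α i b b.2 (by rw [hi]; exact hby.symm), ?_⟩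
    exact Additive.toMul.injective (Subtype.ext hα)
  · intro i hi
    obtain ⟨α, hα⟩ := htr x (x ^ i) (by
      rw [Nat.Coprime.orderOf_pow (by rw [hx]; exact (hq.coprime_iff_not_dvd).mpr hi)])
    exact ⟨TT α, hint α i 1 A.one_mem (by rw [one_mul]; exact hα)⟩

end H28.ThreeOrbits
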