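import Cfsg.Agent.H1.Hall
import Cfsg.Agent.H3.ComplementCenter
import Cfsg.Agent.H15.Homogeneous

/-!
Lucido's three primes lemma for finite solvable groups.
-/

set_option autoImplicit false
set_option linter.style.haveILetI false

universe u

namespace H28

open Subgroup

theorem exists_dvd_of_prime_dvd {G : Type u} [Group G] [Finite G] {p : ℕ} (hp : p.Prime)
    (H : Subgroup G) (h : p ∣ Nat.card H) : ∃ x ∈ H, orderOf x = p := by
  haveI := Fact.mk hp
  obtain ⟨x, hx⟩ := exists_prime_orderOf_dvd_card' p h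
  exact ⟨x, x.2, by rw [Subgroup.orderOf_coe, hx]⟩

/-- Lucido: among three prime divisors of a solvable group, some product of two is an element
order. -/
theorem exists_orderOf_eq_mul_of_three_primes {G : Type u} [Group G] [Finite G] [Group.IsSolvable G]
    (S : Finset ℕ) (hS : ∀ p ∈ S, p.Prime) (hdvd : ∀ p ∈ S, p ∣ Nat.card G) (h3 : 3 ≤ S.card) :
    ∃ p ∈ S, ∃ q ∈ S, p ≠ q ∧ ∃ g : G, orderOf g = p * q := by
  classical
  by_contra hne
  push Not at hne
  obtain ⟨H, -, hH1, hH2⟩ := H1.hall_pi_exists_ge (G := G) (fun p => p ∈ S) ⊥ (fun p hp hd => by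
    rw [Subgroup.card_bot] at hd
    exact absurd (Nat.eq_one_of_dvd_one hd) hp.ne_one)
  have hdvdH : ∀ p ∈ S, p ∣ Nat.card H := fun p hp =>
    ((hS p hp).dvd_mul.mp (H.card_mul_index.symm ▸ hdvd p hp)).resolve_right
      fun h => hH2 p (hS p hp) h hp
  haveI : Nontrivial H := by
    obtain ⟨p, hp⟩ := Finset.card_pos.mp (show 0 < S.card by omega)
    rw [← Finite.one_lt_card_iff_nontrivial]
    exact lt_of_lt_of_le (hS p hp).one_lt (Nat.le_of_dvd Nat.card_pos (hdvdH p hp))
  obtain ⟨N, s, hNn, hs, hN1, hNs, -, -⟩ := H15.exists_minimal_normal_elementary (G := H)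
  haveI := hNn
  obtain ⟨n₀, hn₀, hn₀1⟩ : ∃ n ∈ N, n ≠ 1 :=
    (Subgroup.ne_bot_iff_exists_ne_one.mp hN1).elim fun n hn =>
      ⟨n, n.2, fun e => hn (Subtype.ext e)⟩
  haveI := Fact.mk hs
  have hon : ∀ n ∈ N, n ≠ 1 → orderOf n = s := fun n hn h1 => orderOf_eq_prime (hNs n hn) h1
  have hsS : s ∈ S := hH1 s hs (hon n₀ hn₀ hn₀1 ▸ orderOf_dvd_natCard n₀)
  obtain ⟨K, -, hK1, hK2⟩ := H1.hall_pi_exists_ge (G := H) (fun p => p ∈ S.erase s) ⊥
    (fun p hp hd => by
      rw [Subgroup.card_bot] at hd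
      exact absurd (Nat.eq_one_of_dvd_one hd) hp.ne_one)
  have hdvdK : ∀ p ∈ S.erase s, p ∣ Nat.card K := fun p hp =>
    ((hS p (Finset.mem_of_mem_erase hp)).dvd_mul.mp
      (K.card_mul_index.symm ▸ hdvdH p (Finset.mem_of_mem_erase hp))).resolve_right
      fun h => hK2 p (hS p (Finset.mem_of_mem_erase hp)) h hp
  have hmul : ∀ (x y : H) (p q : ℕ), p ∈ S → q ∈ S → p ≠ q → Commute x y → orderOf x = p →
      orderOf y = q → False := fun x y p q hp hq hpq hc hx hy =>
    hne p hp q hq hpq (x * y : H) (by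
      rw [Subgroup.orderOf_coe, hc.orderOf_mul_eq_mul_orderOf_of_coprime
        (by rw [hx, hy]; exact (Nat.coprime_primes (hS p hp) (hS q hq)).mpr hpq), hx, hy])
  have hfpf : ∀ h ∈ K, h ≠ 1 → N ⊓ Subgroup.centralizer {h} = ⊥ := by
    intro h hh h1
    rw [Subgroup.eq_bot_iff_forall]
    rintro n ⟨hn, hnc⟩
    by_contra hn1
    obtain ⟨p, hp, hpd⟩ := Nat.exists_prime_and_dvd (n := orderOf h)
      (fun e => h1 (orderOf_eq_one_iff.mp e))
    have hpS : p ∈ S.erase s := hK1 p hp (hpd.trans (Subgroup.orderOf_dvd_natCard K hh))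
    refine hmul (h ^ (orderOf h / p)) n p s (Finset.mem_of_mem_erase hpS) hsS
      (Finset.ne_of_mem_erase hpS) (Commute.pow_left (show Commute h n from
        (Subgroup.mem_centralizer_singleton_iff.mp hnc).symm) _)
      (orderOf_pow_orderOf_div (orderOf_pos h).ne' hpd) (hon n hn hn1)
  have hcyc : ∀ (T : Subgroup H) (p q : ℕ), T ≤ K → p.Prime → q.Prime → Nat.card T = p * q →
      IsCyclic T := fun T p q hT hp hq hc =>
    H3.isCyclic_of_fpf_card_mul hN1 hfpf T hT hp hq hc
  haveI : Nontrivial K := by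
    obtain ⟨p, hp⟩ := Finset.card_pos.mp
      (show 0 < (S.erase s).card by rw [Finset.card_erase_of_mem hsS]; omega)
    rw [← Finite.one_lt_card_iff_nontrivial]
    exact lt_of_lt_of_le (hS p (Finset.mem_of_mem_erase hp)).one_lt
      (Nat.le_of_dvd Nat.card_pos (hdvdK p hp))
  obtain ⟨M, t, hMn, ht, hM1, hMt, -, -⟩ := H15.exists_minimal_normal_elementary (G := K)
  haveI := hMn
  haveI := Fact.mk ht
  have hMp : IsPGroup t M := fun x => ⟨1, by rw [pow_one]; exact Subtype.ext (hMt _ x.2)⟩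
  obtain ⟨d, hd⟩ := IsPGroup.iff_card.mp hMp
  have hMcard : Nat.card M = t := by
    rcases d with _ | _ | d
    · exact absurd (Subgroup.card_eq_one.mp (by rw [hd, pow_zero])) hM1
    · rw [hd, pow_one]
    exfalso
    obtain ⟨E, hE, -⟩ := Sylow.exists_subgroup_card_pow_prime_le t
      (show t ^ 2 ∣ Nat.card M by rw [hd]; exact Nat.pow_dvd_pow t (by omega))
      (⊥ : Subgroup M) (n := 0) (by simp) (by omega)
    set E' := (E.map M.subtype).map K.subtype
    have hE' : Nat.card E' = t * t := by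
      rw [Subgroup.card_map_of_injective K.subtype_injective,
        Subgroup.card_map_of_injective M.subtype_injective, hE, sq]
    obtain ⟨g, hg⟩ := (hcyc E' t t (Subgroup.map_subtype_le _) ht ht hE').exists_generator
    have hog : orderOf g = t * t := by rw [orderOf_eq_card_of_forall_mem_zpowers hg, hE']
    obtain ⟨k, hk, hkg⟩ := g.2
    obtain ⟨m, hm, hmk⟩ := hk
    have h1 : (g : H) ^ t = 1 := by
      rw [← hkg, ← map_pow, ← hmk, ← map_pow, show m ^ t = 1 from Subtype.ext (hMt _ m.2), map_one,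
        map_one]
    have h2 := orderOf_dvd_of_pow_eq_one h1
    rw [Subgroup.orderOf_coe, hog] at h2
    have := Nat.le_of_dvd ht.pos h2
    nlinarith [ht.two_le]
  obtain ⟨a, ha, hao⟩ := exists_dvd_of_prime_dvd ht M (by rw [hMcard])
  have htS : t ∈ S.erase s := hK1 t ht (hao ▸ orderOf_dvd_natCard a)
  obtain ⟨u, hu, hut⟩ : ∃ u ∈ S.erase s, u ≠ t := Finset.exists_mem_ne
    (by rw [Finset.card_erase_of_mem hsS]; omega) t
  have hup := hS u (Finset.mem_of_mem_erase hu)
  haveI := Fact.mk hup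
  obtain ⟨b, hb⟩ := exists_prime_orderOf_dvd_card' (G := K) u (hdvdK u hu)
  have hTcard : Nat.card ↥(M ⊔ Subgroup.zpowers b) = t * u := by
    have hdisj : M ⊓ Subgroup.zpowers b = ⊥ := by
      refine (Subgroup.disjoint_of_coprime_natCard ?_).eq_bot
      rw [hMcard, Nat.card_zpowers, hb]
      exact (Nat.coprime_primes ht hup).mpr hut.symm
    have h1 : (M.subgroupOf (M ⊔ Subgroup.zpowers b)).index = u := by
      change M.relIndex (M ⊔ Subgroup.zpowers b) = u
      rw [sup_comm, Subgroup.relIndex_sup_right, ← Subgroup.inf_relIndex_right, hdisj,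
        Subgroup.relIndex_bot_left, Nat.card_zpowers, hb]
    have h2 := Subgroup.card_mul_index (M.subgroupOf (M ⊔ Subgroup.zpowers b))
    rw [h1, Nat.card_congr (Subgroup.subgroupOfEquivOfLe le_sup_left).toEquiv, hMcard] at h2
    exact h2.symm
  have hT := hcyc ((M ⊔ Subgroup.zpowers b).map K.subtype) t u (Subgroup.map_subtype_le _) ht hup
    (by rw [Subgroup.card_map_of_injective K.subtype_injective, hTcard])
  obtain ⟨g, hg⟩ := hT.exists_generator
  have hog : orderOf g = t * u := by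
    rw [orderOf_eq_card_of_forall_mem_zpowers hg,
      Subgroup.card_map_of_injective K.subtype_injective, hTcard]
  exact hne t (Finset.mem_of_mem_erase htS) u (Finset.mem_of_mem_erase hu) hut.symm ((g : H) : G)
    (by rw [Subgroup.orderOf_coe, Subgroup.orderOf_coe, hog])

end H28
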