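import Cfsg.Agent.H28.CountOrder
import Cfsg.Agent.H28.OrderType
import Cfsg.Agent.H27.SolCount
import Cfsg.Agent.H33.TwoPrime
import Mathlib.Data.ZMod.Basic

/-!
Groups in which the numbers of elements of each order take three values have at most two odd
prime divisors.
-/

set_option autoImplicit false
set_option linter.style.haveILetI false

universe u

namespace H28.ThreeValues

variable {G : Type u} [Group G] [Finite G]

variable (G) in
/-- The number of elements of order `m`. -/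
noncomputable def cnt (m : ℕ) : ℕ := Nat.card {g : G // orderOf g = m}

theorem cnt_one : cnt G 1 = 1 := by
  rw [cnt, Nat.card_congr (Equiv.subtypeEquivRight fun g : G => orderOf_eq_one_iff), Nat.card_unique]

theorem totient_dvd_cnt (m : ℕ) : m.totient ∣ cnt G m :=
  H28.dvd_card_of_gen_closed {g : G | orderOf g = m} _
    (fun x hx y h => by
      have := congrArg (fun H : Subgroup G => Nat.card H) h
      simp only [Nat.card_zpowers] at this
      exact this.trans hx)
    (fun x hx => by rw [show orderOf x = m from hx])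

theorem cnt_ne_zero_iff {m : ℕ} : cnt G m ≠ 0 ↔ ∃ g : G, orderOf g = m := by
  rw [cnt, ← Nat.pos_iff_ne_zero, Nat.card_pos_iff, nonempty_subtype]
  exact ⟨fun h => h.1, fun h => ⟨h, inferInstance⟩⟩

theorem cnt_eq_zero_of_dvd {d m : ℕ} (hdm : d ∣ m) (hd : cnt G d = 0) : cnt G m = 0 := by
  by_contra hne
  obtain ⟨g, hg⟩ := cnt_ne_zero_iff.mp hne
  have hm : 0 < m := hg ▸ orderOf_pos g
  refine cnt_ne_zero_iff.mpr ?_ hd
  refine ⟨g ^ (m / d), ?_⟩
  rw [orderOf_pow_of_dvd (Nat.div_pos (Nat.le_of_dvd hm hdm) (Nat.pos_of_dvd_of_pos hdm hm)).ne'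
    (by rw [hg]; exact Nat.div_dvd_of_dvd hdm), hg, Nat.div_div_self hdm hm.ne']

/-- Frobenius. -/
theorem dvd_sum_cnt {n : ℕ} (hn : n ≠ 0) (h : n ∣ Nat.card G) :
    n ∣ ∑ d ∈ n.divisors, cnt G d := by
  have h1 := H27.gcd_card_dvd_card_pow_eq_one G n
  rw [Nat.gcd_eq_left h, H28.card_pow_eq_one_eq_sum G hn] at h1
  exact h1

theorem sum_divisors_mul_prime {n p : ℕ} (hn : n ≠ 0) (hp : p.Prime) (h : ¬ p ∣ n) (f : ℕ → ℕ) :
    ∑ d ∈ (n * p).divisors, f d = ∑ d ∈ n.divisors, f d + ∑ d ∈ n.divisors, f (d * p) := by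
  classical
  have hu : (n * p).divisors = n.divisors ∪ n.divisors.image (· * p) := by
    ext d
    simp only [Nat.mem_divisors, Finset.mem_union, Finset.mem_image, ne_eq, mul_eq_zero, hn, hp.ne_zero,
      or_self, not_false_eq_true, and_true]
    constructor
    · intro hd
      by_cases hpd : p ∣ d
      · obtain ⟨e, rfl⟩ := hpd
        refine Or.inr ⟨e, ?_, mul_comm e p⟩
        rw [mul_comm n p] at hd
        exact Nat.dvd_of_mul_dvd_mul_left hp.pos hd
      · exact Or.inl ((hp.coprime_iff_not_dvd.mpr hpd).symm.dvd_of_dvd_mul_right hd)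
    · rintro (hd | ⟨e, he, rfl⟩)
      · exact hd.trans (dvd_mul_right n p)
      · exact Nat.mul_dvd_mul_right he p
  rw [hu, Finset.sum_union, Finset.sum_image]
  · intro a _ b _ e
    exact Nat.eq_of_mul_eq_mul_right hp.pos e
  · rw [Finset.disjoint_left]
    intro d hd hd'
    obtain ⟨e, -, rfl⟩ := Finset.mem_image.mp hd'
    exact h ((dvd_mul_left p e).trans (Nat.mem_divisors.mp hd).1)

theorem sum_divisors_prime {p : ℕ} (hp : p.Prime) (f : ℕ → ℕ) :
    ∑ d ∈ p.divisors, f d = f 1 + f p := by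
  rw [hp.sum_divisors, add_comm]

theorem cast_sum_eq_zero {n p : ℕ} (hn : n ≠ 0) (h : n ∣ Nat.card G) (hpn : p ∣ n) :
    ((∑ d ∈ n.divisors, cnt G d : ℕ) : ZMod p) = 0 :=
  (ZMod.natCast_eq_zero_iff _ _).mpr (hpn.trans (dvd_sum_cnt hn h))

theorem two_ne_zero_zmod {p : ℕ} (hp : p.Prime) (hp2 : p ≠ 2) : (2 : ZMod p) ≠ 0 := fun h => by
  have h' : ((2 : ℕ) : ZMod p) = 0 := by rw [Nat.cast_two]; exact h
  rw [ZMod.natCast_eq_zero_iff] at h'
  exact hp2 ((Nat.prime_dvd_prime_iff_eq hp Nat.prime_two).mp h')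

theorem cast_cnt_prime {p : ℕ} (hp : p.Prime) (h : p ∣ Nat.card G) :
    (cnt G p : ZMod p) = -1 := by
  have e := cast_sum_eq_zero (G := G) hp.ne_zero h dvd_rfl
  rw [sum_divisors_prime hp, cnt_one] at e
  push_cast at e
  linear_combination e

theorem sum_pq {p q : ℕ} (hp : p.Prime) (hq : q.Prime) (hpq : p ≠ q) (f : ℕ → ℕ) :
    ∑ d ∈ (p * q).divisors, f d = f 1 + f p + (f q + f (p * q)) := by
  rw [sum_divisors_mul_prime hp.ne_zero hq (fun h => hpq ((Nat.prime_dvd_prime_iff_eq hq hp).mp h).symm),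
    sum_divisors_prime hp, sum_divisors_prime hp (fun d => f (d * q)), one_mul]

/-- Two odd primes with the same count. -/
theorem pair {A B : ℕ} (hv : ∀ m, 3 ≤ m → cnt G m = 0 ∨ cnt G m = A ∨ cnt G m = B) {p q : ℕ}
    (hp : p.Prime) (hq : q.Prime) (hp2 : p ≠ 2) (hq2 : q ≠ 2) (hpq : p ≠ q)
    (hpG : p ∣ Nat.card G) (hqG : q ∣ Nat.card G) (hpA : cnt G p = A) (hqA : cnt G q = A) :
    cnt G (p * q) = B ∧ (B : ZMod p) = 1 ∧ (B : ZMod q) = 1 ∧ B ≠ 0 := by
  have hdiv : p * q ∣ Nat.card G :=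
    ((Nat.coprime_primes hp hq).mpr hpq).mul_dvd_of_dvd_of_dvd hpG hqG
  haveI := Fact.mk hp
  have hX : ∀ l : ℕ, l ∣ p * q → (A : ZMod l) = -1 → (cnt G (p * q) : ZMod l) = 1 := by
    intro l hl hA
    have e := cast_sum_eq_zero (G := G) (Nat.mul_ne_zero hp.ne_zero hq.ne_zero) hdiv hl
    rw [sum_pq hp hq hpq, cnt_one, hpA, hqA] at e
    push_cast at e
    linear_combination e - 2 * hA
  have hAp : (A : ZMod p) = -1 := hpA ▸ cast_cnt_prime hp hpG
  have h1 := hX p (dvd_mul_right p q) hAp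
  have h2 := hX q (dvd_mul_left q p) (hqA ▸ cast_cnt_prime hq hqG)
  have h3 : 3 ≤ p * q := le_trans (by norm_num) (Nat.mul_le_mul hp.two_le hq.two_le)
  rcases hv _ h3 with h | h | h
  · rw [h, Nat.cast_zero] at h1; exact absurd h1 zero_ne_one
  · rw [h, hAp] at h1
    exact absurd (by linear_combination -h1 : (2 : ZMod p) = 0) (two_ne_zero_zmod hp hp2)
  · rw [h] at h1 h2
    refine ⟨h, h1, h2, fun h0 => ?_⟩
    rw [h0, Nat.cast_zero] at h1
    exact zero_ne_one h1

theorem four_dvd_totient_mul {p q : ℕ} (hp : p.Prime) (hq : q.Prime) (hp2 : p ≠ 2) (hq2 : q ≠ 2)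
    (hpq : p ≠ q) : 4 ∣ (p * q).totient := by
  rw [Nat.totient_mul ((Nat.coprime_primes hp hq).mpr hpq), Nat.totient_prime hp, Nat.totient_prime hq]
  obtain ⟨i, hi⟩ := hp.even_sub_one hp2
  obtain ⟨j, hj⟩ := hq.even_sub_one hq2
  exact ⟨i * j, by rw [hi, hj]; ring⟩

/-- Three odd primes are impossible. -/
theorem no_three {A B : ℕ} (hv : ∀ m, 3 ≤ m → cnt G m = 0 ∨ cnt G m = A ∨ cnt G m = B)
    (hs : cnt G 2 ≤ 1 ∨ A = B) {p q r : ℕ} (hp : p.Prime) (hq : q.Prime) (hr : r.Prime)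
    (hp2 : p ≠ 2) (hq2 : q ≠ 2) (hr2 : r ≠ 2) (hpq : p ≠ q) (hpr : p ≠ r) (hqr : q ≠ r)
    (hpG : p ∣ Nat.card G) (hqG : q ∣ Nat.card G) (hrG : r ∣ Nat.card G)
    (hpA : cnt G p = A) (hqA : cnt G q = A) : False := by
  haveI := Fact.mk hp
  haveI := Fact.mk hr
  obtain ⟨hpqB, hBp, hBq, hB0⟩ := pair hv hp hq hp2 hq2 hpq hpG hqG hpA hqA
  have hAp : (A : ZMod p) = -1 := hpA ▸ cast_cnt_prime hp hpG
  have hAB : A ≠ B := fun e => two_ne_zero_zmod hp hp2 (by
    rw [e, hBp] at hAp; linear_combination hAp)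
  have hval : ∀ {l : ℕ}, l.Prime → l ≠ 2 → l ∣ Nat.card G → cnt G l = A ∨ cnt G l = B := by
    intro l hl hl2 hlG
    haveI := Fact.mk hl
    refine (hv l (lt_of_le_of_ne hl.two_le (Ne.symm hl2))).resolve_left fun h => ?_
    have := cast_cnt_prime hl hlG
    rw [h, Nat.cast_zero] at this
    exact neg_ne_zero.mpr one_ne_zero this.symm
  -- all odd primes have the count `A`
  have hallA : ∀ l : ℕ, l.Prime → l ≠ 2 → l ∣ Nat.card G → cnt G l = A := by
    intro l hl hl2 hlG
    refine (hval hl hl2 hlG).resolve_right fun hlB => ?_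
    have hlp : l ≠ p := fun e => hAB (by rw [← hpA, ← e, hlB])
    have hlq : l ≠ q := fun e => hAB (by rw [← hqA, ← e, hlB])
    haveI := Fact.mk hl
    have hBl : (B : ZMod l) = -1 := hlB ▸ cast_cnt_prime hl hlG
    -- products with `l`
    have hone : ∀ s : ℕ, s.Prime → s ≠ l → s ∣ Nat.card G → cnt G s = A → (B : ZMod s) = 1 → s ≠ 2 →
        cnt G (s * l) = A ∧ (2 : ZMod l) * A = 0 := by
      intro s hsp hsl hsG hsA hBs hs2
      haveI := Fact.mk hsp
      have hdiv : s * l ∣ Nat.card G :=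
        ((Nat.coprime_primes hsp hl).mpr hsl).mul_dvd_of_dvd_of_dvd hsG hlG
      have e := cast_sum_eq_zero (G := G) (Nat.mul_ne_zero hsp.ne_zero hl.ne_zero) hdiv
        (dvd_mul_right s l)
      have e' := cast_sum_eq_zero (G := G) (Nat.mul_ne_zero hsp.ne_zero hl.ne_zero) hdiv
        (dvd_mul_left l s)
      rw [sum_pq hsp hl hsl, cnt_one, hsA, hlB] at e e'
      push_cast at e e'
      have hAs : (A : ZMod s) = -1 := hsA ▸ cast_cnt_prime hsp hsG
      have h3 : 3 ≤ s * l := le_trans (by norm_num) (Nat.mul_le_mul hsp.two_le hl.two_le)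
      rcases hv _ h3 with h | h | h
      · rw [h, Nat.cast_zero] at e
        exact absurd (by linear_combination e - hAs - hBs : (1 : ZMod s) = 0) one_ne_zero
      · rw [h] at e'
        exact ⟨h, by linear_combination e' - hBl⟩
      · rw [h] at e
        exact absurd (by linear_combination e - hAs - 2 * hBs : (2 : ZMod s) = 0)
          (two_ne_zero_zmod hsp hs2)
    obtain ⟨hpl, h2A⟩ := hone p hp (Ne.symm hlp) hpG hpA hBp hp2
    obtain ⟨hql, -⟩ := hone q hq (Ne.symm hlq) hqG hqA hBq hq2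
    have hA0 : (A : ZMod l) = 0 :=
      (mul_eq_zero.mp h2A).resolve_left (two_ne_zero_zmod hl hl2)
    have hdiv : p * q * l ∣ Nat.card G := by
      refine Nat.Coprime.mul_dvd_of_dvd_of_dvd ?_
        (((Nat.coprime_primes hp hq).mpr hpq).mul_dvd_of_dvd_of_dvd hpG hqG) hlG
      exact Nat.Coprime.mul_left ((Nat.coprime_primes hp hl).mpr (Ne.symm hlp))
        ((Nat.coprime_primes hq hl).mpr (Ne.symm hlq))
    have hndvd : ¬ l ∣ p * q := fun h => by
      rcases hl.dvd_mul.mp h with h' | h'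
      · exact hlp ((Nat.prime_dvd_prime_iff_eq hl hp).mp h')
      · exact hlq ((Nat.prime_dvd_prime_iff_eq hl hq).mp h')
    have hpq0 : p * q ≠ 0 := Nat.mul_ne_zero hp.ne_zero hq.ne_zero
    have e := cast_sum_eq_zero (G := G) (Nat.mul_ne_zero hpq0 hl.ne_zero) hdiv (dvd_mul_left l _)
    rw [sum_divisors_mul_prime hpq0 hl hndvd, sum_pq hp hq hpq, sum_pq hp hq hpq, cnt_one, one_mul,
      hpA, hqA, hpqB, hlB, hpl, hql] at e
    push_cast at e
    have h3 : 3 ≤ p * q * l :=
      le_trans (by norm_num) (Nat.mul_le_mul (Nat.mul_le_mul hp.two_le hq.two_le) hl.two_le)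
    rcases hv _ h3 with h | h | h <;> rw [h] at e
    · rw [Nat.cast_zero] at e
      exact one_ne_zero (by linear_combination -e + 4 * hA0 + 2 * hBl : (1 : ZMod l) = 0)
    · exact one_ne_zero (by linear_combination -e + 5 * hA0 + 2 * hBl : (1 : ZMod l) = 0)
    · exact two_ne_zero_zmod hl hl2 (by linear_combination -e + 4 * hA0 + 3 * hBl : (2 : ZMod l) = 0)
  have hrA := hallA r hr hr2 hrG
  obtain ⟨hprB, -, hBr, -⟩ := pair hv hp hr hp2 hr2 hpr hpG hrG hpA hrA
  obtain ⟨hqrB, -, -, -⟩ := pair hv hq hr hq2 hr2 hqr hqG hrG hqA hrA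
  -- both values are divisible by four
  have hB4 : 4 ∣ B := hpqB ▸ (four_dvd_totient_mul hp hq hp2 hq2 hpq).trans (totient_dvd_cnt _)
  have hA4 : 4 ∣ A := by
    have hndvd : ¬ r ∣ p * q := fun h => by
      rcases hr.dvd_mul.mp h with h' | h'
      · exact hpr ((Nat.prime_dvd_prime_iff_eq hr hp).mp h').symm
      · exact hqr ((Nat.prime_dvd_prime_iff_eq hr hq).mp h').symm
    have hcop : Nat.Coprime (p * q) r := Nat.Coprime.symm (hr.coprime_iff_not_dvd.mpr hndvd)
    have hdiv : p * q * r ∣ Nat.card G := hcop.mul_dvd_of_dvd_of_dvd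
      (((Nat.coprime_primes hp hq).mpr hpq).mul_dvd_of_dvd_of_dvd hpG hqG) hrG
    have hpq0 : p * q ≠ 0 := Nat.mul_ne_zero hp.ne_zero hq.ne_zero
    have e := cast_sum_eq_zero (G := G) (Nat.mul_ne_zero hpq0 hr.ne_zero) hdiv
      ((dvd_mul_right p q).trans (dvd_mul_right _ r))
    rw [sum_divisors_mul_prime hpq0 hr hndvd, sum_pq hp hq hpq, sum_pq hp hq hpq, cnt_one, one_mul,
      hpA, hqA, hpqB, hrA, hprB, hqrB] at e
    push_cast at e
    have h3 : 3 ≤ p * q * r :=
      le_trans (by norm_num) (Nat.mul_le_mul (Nat.mul_le_mul hp.two_le hq.two_le) hr.two_le)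
    rcases hv _ h3 with h | h | h
    · rw [h, Nat.cast_zero] at e
      exact absurd (by linear_combination e - 3 * hAp - 3 * hBp : (1 : ZMod p) = 0) one_ne_zero
    · rw [← h]
      refine dvd_trans ?_ (totient_dvd_cnt _)
      rw [Nat.totient_mul hcop]
      exact (four_dvd_totient_mul hp hq hp2 hq2 hpq).mul_right _
    · rw [h] at e
      exact absurd (by linear_combination e - 3 * hAp - 4 * hBp : (2 : ZMod p) = 0)
        (two_ne_zero_zmod hp hp2)
  have hs1 : cnt G 2 ≤ 1 := hs.resolve_right hAB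
  -- four does not divide the order
  have h4 : ¬ 4 ∣ Nat.card G := by
    intro h4
    have e := dvd_sum_cnt (G := G) (by norm_num : (4 : ℕ) ≠ 0) h4
    rw [show (4 : ℕ).divisors = {1, 2, 4} by decide] at e
    rw [Finset.sum_insert (by decide), Finset.sum_insert (by decide), Finset.sum_singleton, cnt_one] at e
    have h44 : 4 ∣ cnt G 4 := by
      rcases hv 4 (by norm_num) with h | h | h <;> rw [h]
      · exact dvd_zero 4
      · exact hA4
      · exact hB4
    omega
  -- exponents are prime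
  have hother : ∀ l : ℕ, l.Prime → l ≠ 2 → l ∣ Nat.card G → ∃ s : ℕ, s.Prime ∧ s ≠ 2 ∧ s ≠ l ∧
      s ∣ Nat.card G := by
    intro l hl _ _
    by_cases h : l = p
    · exact ⟨q, hq, hq2, h ▸ Ne.symm hpq, hqG⟩
    · exact ⟨p, hp, hp2, Ne.symm h, hpG⟩
  have hBl : ∀ l : ℕ, l.Prime → l ≠ 2 → l ∣ Nat.card G → (B : ZMod l) = 1 := by
    intro l hl hl2 hlG
    obtain ⟨s, hsp, hs2, hsl, hsG⟩ := hother l hl hl2 hlG
    exact (pair hv hl hsp hl2 hs2 (Ne.symm hsl) hlG hsG (hallA l hl hl2 hlG) (hallA s hsp hs2 hsG)).2.1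
  have hsq : ∀ l : ℕ, l.Prime → l ≠ 2 → l ∣ Nat.card G → cnt G (l ^ 2) = 0 := by
    intro l hl hl2 hlG
    haveI := Fact.mk hl
    have hl' : (cnt G (l ^ 2) : ZMod l) = 0 := (ZMod.natCast_eq_zero_iff _ _).mpr
      (((dvd_mul_right (l ^ (2 - 1)) _).trans (Nat.totient_prime_pow hl two_pos).symm.dvd
        |> fun h => (by simpa using h : l ∣ (l ^ 2).totient)).trans (totient_dvd_cnt _))
    have hAl : (A : ZMod l) = -1 := hallA l hl hl2 hlG ▸ cast_cnt_prime hl hlG
    rcases hv (l ^ 2) (le_trans (by norm_num) (Nat.pow_le_pow_left hl.two_le 2)) with h | h | h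
    · exact h
    · rw [h, hAl] at hl'; exact absurd hl' (neg_ne_zero.mpr one_ne_zero)
    · rw [h, hBl l hl hl2 hlG] at hl'; exact absurd hl' one_ne_zero
  -- the order is at most twice `B - 1`
  have hdvd : ∀ l k : ℕ, l.Prime → l ≠ 2 → l ^ k ∣ Nat.card G → ((B : ℕ) : ZMod (l ^ k)) = 1 := by
    intro l k hl hl2 hlk
    rcases Nat.eq_zero_or_pos k with rfl | hk
    · rw [pow_zero]; exact Subsingleton.elim _ _
    have hlG : l ∣ Nat.card G := (dvd_pow_self l hk.ne').trans hlk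
    obtain ⟨s, hsp, hs2, hsl, hsG⟩ := hother l hl hl2 hlG
    obtain ⟨hlsB, -, -, -⟩ :=
      pair hv hl hsp hl2 hs2 (Ne.symm hsl) hlG hsG (hallA l hl hl2 hlG) (hallA s hsp hs2 hsG)
    have hhi : ∀ i, 2 ≤ i → ∀ m : ℕ, cnt G (l ^ i * m) = 0 := fun i hi m =>
      cnt_eq_zero_of_dvd ((pow_dvd_pow l hi).trans (dvd_mul_right _ m)) (hsq l hl hl2 hlG)
    have hsum : ∀ m : ℕ, ∑ i ∈ Finset.range (k + 1), cnt G (l ^ i * m) = cnt G m + cnt G (l * m) := by
      intro m
      rw [← Finset.sum_subset (show Finset.range 2 ⊆ Finset.range (k + 1) from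
        Finset.range_subset_range.mpr (by omega)) fun i _ hi => hhi i (by simp at hi; omega) m,
        Finset.sum_range_succ, Finset.sum_range_one, pow_zero, pow_one, one_mul]
    have e1 := cast_sum_eq_zero (G := G) (pow_ne_zero k hl.ne_zero) hlk dvd_rfl
    have hcop : Nat.Coprime (l ^ k) s := ((Nat.coprime_primes hl hsp).mpr (Ne.symm hsl)).pow_left k
    have e2 := cast_sum_eq_zero (G := G) (Nat.mul_ne_zero (pow_ne_zero k hl.ne_zero) hsp.ne_zero)
      (hcop.mul_dvd_of_dvd_of_dvd hlk hsG) (dvd_mul_right (l ^ k) s)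
    rw [sum_divisors_mul_prime (pow_ne_zero k hl.ne_zero) hsp
      (fun h => hsl ((Nat.prime_dvd_prime_iff_eq hsp hl).mp (hsp.dvd_of_dvd_pow h)))] at e2
    rw [Nat.sum_divisors_prime_pow hl] at e1
    rw [Nat.sum_divisors_prime_pow hl, Nat.sum_divisors_prime_pow hl] at e2
    have r1 := hsum 1
    simp only [mul_one] at r1
    rw [r1, cnt_one, hallA l hl hl2 hlG] at e1
    rw [r1, hsum s, cnt_one, hallA l hl hl2 hlG, hallA s hsp hs2 hsG, hlsB] at e2
    push_cast at e1 e2
    linear_combination e2 - 2 * e1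
  have hB1 : 1 ≤ B := Nat.pos_of_ne_zero hB0
  have hM : Nat.card G ∣ 2 * (B - 1) := by
    rw [Nat.dvd_iff_prime_pow_dvd_dvd]
    intro l k hl hlk
    by_cases hl2 : l = 2
    · subst hl2
      rcases k with _ | _ | k
      · simp
      · rw [pow_one]; exact dvd_mul_right 2 _
      · exact absurd ((pow_dvd_pow 2 (by omega : 2 ≤ k + 2)).trans hlk) h4
    · refine dvd_mul_of_dvd_right ?_ 2
      rw [← ZMod.natCast_eq_zero_iff, Nat.cast_sub hB1, hdvd l k hl hl2 hlk, Nat.cast_one, sub_self]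
  -- two disjoint sets of size `B`
  have h2B : 2 * B ≤ Nat.card G := by
    have hne : p * q ≠ p * r := fun e => hqr (Nat.eq_of_mul_eq_mul_left hp.pos e)
    have hinj : Function.Injective (Sum.elim (fun g : {g : G // orderOf g = p * q} => g.1)
        (fun g : {g : G // orderOf g = p * r} => g.1)) :=
      Function.Injective.sumElim Subtype.val_injective Subtype.val_injective
        fun a b e => hne (by rw [← a.2, ← b.2]; exact congrArg orderOf e)
    have := Nat.card_le_card_of_injective _ hinj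
    rw [Nat.card_sum, show Nat.card {g : G // orderOf g = p * q} = B from hpqB,
      show Nat.card {g : G // orderOf g = p * r} = B from hprB] at this
    omega
  have hBne : B ≠ 1 := fun e => by rw [e] at hB4; omega
  have := Nat.le_of_dvd (by omega) hM
  omega

theorem sum_four (f : ℕ → ℕ) : ∑ d ∈ (4 : ℕ).divisors, f d = f 1 + (f 2 + f 4) := by
  rw [show (4 : ℕ).divisors = {1, 2, 4} by decide, Finset.sum_insert (by decide),
    Finset.sum_insert (by decide), Finset.sum_singleton]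

theorem sum_four_mul {p : ℕ} (hp : p.Prime) (hp2 : p ≠ 2) (f : ℕ → ℕ) :
    ∑ d ∈ (4 * p).divisors, f d = f 1 + (f 2 + f 4) + (f p + (f (2 * p) + f (4 * p))) := by
  have hn : ¬ p ∣ 4 := fun h => hp2 ((Nat.prime_dvd_prime_iff_eq hp Nat.prime_two).mp
    (hp.dvd_of_dvd_pow (show p ∣ 2 ^ 2 by norm_num; exact h)))
  rw [sum_divisors_mul_prime (by norm_num) hp hn, sum_four,
    sum_four (fun d => f (d * p)), one_mul]

theorem coprime_four {p : ℕ} (hp : p.Prime) (hp2 : p ≠ 2) : Nat.Coprime 4 p :=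
  Nat.Coprime.pow_left 2 ((Nat.coprime_primes Nat.prime_two hp).mpr (Ne.symm hp2))

theorem four_dvd_totient_four_mul {m : ℕ} (hm : Nat.Coprime 4 m) (h : 2 ∣ m.totient) :
    4 ∣ (4 * m).totient := by
  rw [Nat.totient_mul hm]
  obtain ⟨c, hc⟩ := h
  exact ⟨c, by rw [hc, show Nat.totient 4 = 2 by decide]; ring⟩

/-- For a central involution `z` and odd `m`, doubling. -/
theorem cnt_two_mul (hs : cnt G 2 = 1) {m : ℕ} (hm : Odd m) : cnt G (2 * m) = cnt G m := by
  obtain ⟨hsub, ⟨⟨z, hz⟩⟩⟩ : Subsingleton {g : G // orderOf g = 2} ∧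
      Nonempty {g : G // orderOf g = 2} := Nat.card_eq_one_iff_unique.mp hs
  have huniq : ∀ w : G, orderOf w = 2 → w = z := fun w hw =>
    congrArg Subtype.val (Subsingleton.elim (⟨w, hw⟩ : {g : G // orderOf g = 2}) ⟨z, hz⟩)
  have hzc : ∀ g : G, Commute g z := fun g => by
    have h := huniq (g * z * g⁻¹)
      ((orderOf_injective (MulAut.conj g).toMonoidHom (MulAut.conj g).injective z).trans hz)
    exact mul_inv_eq_iff_eq_mul.mp h
  have hz2 : z * z = 1 := by rw [← pow_two, ← hz, pow_orderOf_eq_one]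
  have hm2 : Nat.Coprime m 2 := Nat.coprime_two_right.mpr hm
  refine Nat.card_congr
    { toFun := fun g => ⟨g.1 * z, ?_⟩
      invFun := fun g => ⟨g.1 * z, ?_⟩
      left_inv := fun g => Subtype.ext (by simp [mul_assoc, hz2])
      right_inv := fun g => Subtype.ext (by simp [mul_assoc, hz2]) }
  · obtain ⟨g, hg⟩ := g
    -- `g ^ m` is the involution
    have hgm : g ^ m = z := huniq _ (by
      rw [orderOf_pow_of_dvd (Nat.pos_iff_ne_zero.mp hm.pos) (hg ▸ dvd_mul_left m 2), hg,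
        Nat.mul_div_cancel _ hm.pos])
    have hd : orderOf (g * z) ∣ m := orderOf_dvd_of_pow_eq_one (by
      rw [(hzc g).mul_pow, hgm]
      obtain ⟨j, rfl⟩ := hm
      rw [pow_succ, pow_mul, pow_two, hz2, one_pow, one_mul, hz2])
    refine Nat.dvd_antisymm hd ?_
    have h2 : orderOf g ∣ 2 * orderOf (g * z) := orderOf_dvd_of_pow_eq_one (by
      calc g ^ (2 * orderOf (g * z)) = (g * z * z) ^ (2 * orderOf (g * z)) := by
            rw [mul_assoc g z z, hz2, mul_one]
        _ = (g * z) ^ (2 * orderOf (g * z)) * z ^ (2 * orderOf (g * z)) :=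
            ((hzc g).mul_left (Commute.refl z)).mul_pow _
        _ = 1 := by
            rw [mul_comm 2, pow_mul, pow_orderOf_eq_one, one_pow, one_mul, mul_comm, pow_mul, pow_two,
              hz2, one_pow])
    rw [hg] at h2
    exact Nat.dvd_of_mul_dvd_mul_left two_pos h2
  · obtain ⟨g, hg⟩ := g
    rw [(hzc g).orderOf_mul_eq_mul_orderOf_of_coprime (by rw [hg, hz]; exact hm2), hg, hz, mul_comm]

/-- Two odd primes exclude four. -/
theorem not_four_dvd {A B : ℕ} (hv : ∀ m, 3 ≤ m → cnt G m = 0 ∨ cnt G m = A ∨ cnt G m = B)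
    (hs : cnt G 2 ≤ 1 ∨ A = B) {p q : ℕ} (hp : p.Prime) (hq : q.Prime) (hp2 : p ≠ 2) (hq2 : q ≠ 2)
    (hpq : p ≠ q) (hpG : p ∣ Nat.card G) (hqG : q ∣ Nat.card G) (hpA : cnt G p = A)
    (hqv : cnt G q = A ∨ cnt G q = B) : ¬ 4 ∣ Nat.card G := by
  intro h4
  haveI := Fact.mk hp
  haveI := Fact.mk hq
  have hAp : (A : ZMod p) = -1 := hpA ▸ cast_cnt_prime hp hpG
  by_cases hAB : A = B
  · have hqA : cnt G q = A := hqv.elim id fun e => e.trans hAB.symm
    obtain ⟨-, hBp, -, -⟩ := pair hv hp hq hp2 hq2 hpq hpG hqG hpA hqA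
    rw [hAB, hBp] at hAp
    exact two_ne_zero_zmod hp hp2 (by linear_combination hAp)
  have hs1 : cnt G 2 ≤ 1 := hs.resolve_right hAB
  have hs2 : cnt G 2 = 1 := by
    obtain ⟨g, hg⟩ := exists_prime_orderOf_dvd_card' 2 ((show 2 ∣ 4 by norm_num).trans h4)
    have : cnt G 2 ≠ 0 := cnt_ne_zero_iff.mpr ⟨g, hg⟩
    omega
  have e4 := dvd_sum_cnt (G := G) (by norm_num : (4 : ℕ) ≠ 0) h4
  rw [sum_four, cnt_one, hs2] at e4
  have h2p : cnt G (2 * p) = cnt G p := cnt_two_mul hs2 (hp.odd_of_ne_two hp2)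
  have h2q : cnt G (2 * q) = cnt G q := cnt_two_mul hs2 (hq.odd_of_ne_two hq2)
  have h4p : 4 ∣ cnt G (4 * p) := (four_dvd_totient_four_mul (coprime_four hp hp2)
    (by rw [Nat.totient_prime hp]; exact (hp.even_sub_one hp2).two_dvd)).trans (totient_dvd_cnt _)
  have h4q : 4 ∣ cnt G (4 * q) := (four_dvd_totient_four_mul (coprime_four hq hq2)
    (by rw [Nat.totient_prime hq]; exact (hq.even_sub_one hq2).two_dvd)).trans (totient_dvd_cnt _)
  have hmul : 4 * p ∣ Nat.card G := (coprime_four hp hp2).mul_dvd_of_dvd_of_dvd h4 hpG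
  have hmulq : 4 * q ∣ Nat.card G := (coprime_four hq hq2).mul_dvd_of_dvd_of_dvd h4 hqG
  have h4pq : 4 ∣ cnt G (p * q) := (four_dvd_totient_mul hp hq hp2 hq2 hpq).trans (totient_dvd_cnt _)
  have ep := cast_sum_eq_zero (G := G) (Nat.mul_ne_zero (by norm_num) hp.ne_zero) hmul (dvd_mul_left p 4)
  rw [sum_four_mul hp hp2, cnt_one, hs2, h2p, hpA] at ep
  push_cast at ep
  by_cases hqA : cnt G q = A
  · -- the same class
    obtain ⟨hpqB, hBp, -, -⟩ := pair hv hp hq hp2 hq2 hpq hpG hqG hpA hqA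
    rw [hpqB] at h4pq
    have ha4 : cnt G 4 = A := by
      rcases hv 4 (by norm_num) with h | h | h
      · rw [h] at e4; omega
      · exact h
      · rw [h] at e4; omega
    rw [ha4] at e4 ep
    have hA4 : ¬ 4 ∣ A := by omega
    have h3p : 3 ≤ 4 * p := by have := hp.pos; omega
    have hX : cnt G (4 * p) = B := by
      rcases hv _ h3p with h | h | h
      · rw [h, Nat.cast_zero] at ep
        exact absurd (by linear_combination -ep + 3 * hAp : (1 : ZMod p) = 0) one_ne_zero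
      · exact absurd (h ▸ h4p) hA4
      · exact h
    have hY : cnt G (4 * q) = B := by
      have eq := cast_sum_eq_zero (G := G) (Nat.mul_ne_zero (by norm_num) hq.ne_zero) hmulq
        (dvd_mul_left q 4)
      rw [sum_four_mul hq hq2, cnt_one, hs2, h2q, hqA, ha4] at eq
      push_cast at eq
      have hAq : (A : ZMod q) = -1 := hqA ▸ cast_cnt_prime hq hqG
      rcases hv _ (show 3 ≤ 4 * q by have := hq.pos; omega) with h | h | h
      · rw [h, Nat.cast_zero] at eq
        exact absurd (by linear_combination -eq + 3 * hAq : (1 : ZMod q) = 0) one_ne_zero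
      · exact absurd (h ▸ h4q) hA4
      · exact h
    have hcop : Nat.Coprime (4 * p) q :=
      Nat.Coprime.mul_left (coprime_four hq hq2) ((Nat.coprime_primes hp hq).mpr hpq)
    have hne : 4 * p ≠ 0 := Nat.mul_ne_zero (by norm_num) hp.ne_zero
    have e := cast_sum_eq_zero (G := G) (Nat.mul_ne_zero hne hq.ne_zero)
      (hcop.mul_dvd_of_dvd_of_dvd hmul hqG) ((dvd_mul_left p 4).trans (dvd_mul_right _ q))
    rw [sum_divisors_mul_prime hne hq (hq.coprime_iff_not_dvd.mp hcop.symm), sum_four_mul hp hp2,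
      sum_four_mul hp hp2, cnt_one, hs2, h2p, hpA, ha4, hX, one_mul, hqA, h2q, hqA, hY, hpqB,
      mul_assoc 2 p q, cnt_two_mul hs2 ((hp.odd_of_ne_two hp2).mul (hq.odd_of_ne_two hq2)), hpqB] at e
    push_cast at e
    rcases hv (4 * p * q) (le_trans h3p (Nat.le_mul_of_pos_right _ hq.pos)) with h | h | h
    · rw [h, Nat.cast_zero] at e
      exact one_ne_zero (by linear_combination e - 5 * hAp - 4 * hBp :
        (1 : ZMod p) = 0)
    · refine hA4 (h ▸ (?_ : 4 ∣ (4 * p * q).totient).trans (totient_dvd_cnt _))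
      rw [mul_assoc]
      exact four_dvd_totient_four_mul (Nat.Coprime.mul_right (coprime_four hp hp2) (coprime_four hq hq2))
        ((show 2 ∣ 4 by norm_num).trans (four_dvd_totient_mul hp hq hp2 hq2 hpq))
    · rw [h] at e
      exact two_ne_zero_zmod hp hp2 (by linear_combination e - 5 * hAp - 5 * hBp : (2 : ZMod p) = 0)
  · -- different classes
    have hqB : cnt G q = B := hqv.resolve_left hqA
    have hBq : (B : ZMod q) = -1 := hqB ▸ cast_cnt_prime hq hqG
    have hdiv : p * q ∣ Nat.card G :=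
      ((Nat.coprime_primes hp hq).mpr hpq).mul_dvd_of_dvd_of_dvd hpG hqG
    have hpq0 : p * q ≠ 0 := Nat.mul_ne_zero hp.ne_zero hq.ne_zero
    have f1 := cast_sum_eq_zero (G := G) hpq0 hdiv (dvd_mul_right p q)
    have f2 := cast_sum_eq_zero (G := G) hpq0 hdiv (dvd_mul_left q p)
    rw [sum_pq hp hq hpq, cnt_one, hpA, hqB] at f1 f2
    push_cast at f1 f2
    have eq := cast_sum_eq_zero (G := G) (Nat.mul_ne_zero (by norm_num) hq.ne_zero) hmulq
      (dvd_mul_left q 4)
    rw [sum_four_mul hq hq2, cnt_one, hs2, h2q, hqB] at eq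
    push_cast at eq
    have hXp := hv _ (show 3 ≤ 4 * p by have := hp.pos; omega)
    have hXq := hv _ (show 3 ≤ 4 * q by have := hq.pos; omega)
    have hY := hv _ (show 3 ≤ p * q by exact le_trans (by norm_num) (Nat.mul_le_mul hp.two_le hq.two_le))
    rcases hv 4 (by norm_num) with h | h | h
    · rw [h] at e4; omega
    · rw [h] at e4 ep eq
      have hA4 : ¬ 4 ∣ A := by omega
      rcases hXp with hx | hx | hx
      · rw [hx, Nat.cast_zero] at ep
        exact one_ne_zero (by linear_combination -ep + 3 * hAp : (1 : ZMod p) = 0)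
      · exact hA4 (hx ▸ h4p)
      · rw [hx] at ep
        rcases hY with hy | hy | hy
        · rw [hy, Nat.cast_zero] at f1
          exact one_ne_zero (by linear_combination f1 - ep + 2 * hAp : (1 : ZMod p) = 0)
        · exact hA4 (hy ▸ h4pq)
        · rw [hy] at f1
          exact two_ne_zero_zmod hp hp2 (by linear_combination f1 - 2 * ep + 5 * hAp : (2 : ZMod p) = 0)
    · rw [h] at e4 ep eq
      have hB4 : ¬ 4 ∣ B := by omega
      rcases hXq with hx | hx | hx
      · rw [hx, Nat.cast_zero] at eq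
        exact one_ne_zero (by linear_combination -eq + 3 * hBq : (1 : ZMod q) = 0)
      · rw [hx] at eq
        rcases hY with hy | hy | hy
        · rw [hy, Nat.cast_zero] at f2
          exact one_ne_zero (by linear_combination f2 - eq + 2 * hBq : (1 : ZMod q) = 0)
        · rw [hy] at f2
          exact two_ne_zero_zmod hq hq2 (by linear_combination f2 - 2 * eq + 5 * hBq : (2 : ZMod q) = 0)
        · exact hB4 (hy ▸ h4pq)
      · exact hB4 (hx ▸ h4q)

/-- Order twice an odd number with two odd prime divisors. -/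
theorem solvable_of_not_four {p q : ℕ} (hp : p.Prime) (hq : q.Prime)
    (h : ∀ r : ℕ, r.Prime → r ∣ Nat.card G → r = 2 ∨ r = p ∨ r = q) (h2 : 2 ∣ Nat.card G)
    (h4 : ¬ 4 ∣ Nat.card G) : Group.IsSolvable G := by
  haveI := Fact.mk Nat.prime_two
  obtain ⟨P⟩ : Nonempty (Sylow 2 G) := inferInstance
  have hfac : (Nat.card G).factorization 2 = 1 := by
    have hne : Nat.card G ≠ 0 := Nat.card_pos.ne'
    have a1 := (Nat.prime_two.pow_dvd_iff_le_factorization hne (k := 1)).mp (by simpa using h2)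
    have a2 : ¬ 2 ≤ (Nat.card G).factorization 2 := fun hle =>
      h4 ((Nat.prime_two.pow_dvd_iff_le_factorization hne (k := 2)).mpr hle)
    omega
  have hPc : IsCyclic (P : Subgroup G) :=
    isCyclic_of_prime_card (p := 2) (by rw [P.card_eq_multiplicity, hfac, pow_one])
  have hN := IsCyclic.normalizer_le_centralizer
    ((Nat.minFac_eq_two_iff _).mpr h2) (P := P) hPc
  set N := (MonoidHom.transferSylow P hN).ker with hNdef
  have hc := MonoidHom.ker_transferSylow_isComplement' P hN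
  have hNodd : ¬ 2 ∣ Nat.card N := MonoidHom.not_dvd_card_ker_transferSylow P hN
  haveI : Group.IsSolvable N := H33.isSolvable_of_two_primes hp hq fun r hr hrd =>
    (h r hr (hrd.trans (Subgroup.card_subgroup_dvd_card N))).resolve_left fun e => hNodd (e ▸ hrd)
  haveI : Group.IsSolvable (G ⧸ N) := by
    have hcard : Nat.card (G ⧸ N) = 2 := by
      rw [← Subgroup.index_eq_card, hc.symm.index_eq_card, P.card_eq_multiplicity, hfac, pow_one]
    exact H33.isSolvable_of_two_primes Nat.prime_two Nat.prime_two fun r hr hrd => Or.inl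
      ((Nat.prime_dvd_prime_iff_eq hr Nat.prime_two).mp (hcard ▸ hrd))
  exact Group.isSolvable_of_ker_le_range N.subtype (QuotientGroup.mk' N)
    (by rw [QuotientGroup.ker_mk', Subgroup.range_subtype])

/-- Solvability. -/
theorem isSolvable (h : (((fun m : ℕ => Nat.card {g : G // orderOf g = m}) ''
    Set.range (orderOf : G → ℕ))).ncard = 3) : Group.IsSolvable G := by
  classical
  set V := (fun m : ℕ => Nat.card {g : G // orderOf g = m}) '' Set.range (orderOf : G → ℕ) with hV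
  have hmem : ∀ m, cnt G m ≠ 0 → cnt G m ∈ V := fun m hm => by
    obtain ⟨g, rfl⟩ := cnt_ne_zero_iff.mp hm
    exact ⟨orderOf g, ⟨g, rfl⟩, rfl⟩
  have h1 : 1 ∈ V := cnt_one (G := G) ▸ hmem 1 (by rw [cnt_one]; exact one_ne_zero)
  obtain ⟨u, v, huv, hrest⟩ := Set.ncard_eq_two.mp (show (V \ {1}).ncard = 2 by
    rw [Set.ncard_sdiff_singleton_of_mem h1, h])
  have heven : ∀ m, 3 ≤ m → cnt G m = 0 ∨ (cnt G m ∈ V \ {1} ∧ Even (cnt G m)) := by
    intro m hm
    by_cases h0 : cnt G m = 0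
    · exact Or.inl h0
    have he : Even (cnt G m) :=
      (Nat.totient_even (by omega : 2 < m)).trans_dvd (totient_dvd_cnt m)
    exact Or.inr ⟨⟨hmem m h0, fun e => by
      rw [Set.mem_singleton_iff] at e; rw [e] at he; exact absurd he (by decide)⟩, he⟩
  obtain ⟨A, B, hv, hs⟩ : ∃ A B : ℕ, (∀ m, 3 ≤ m → cnt G m = 0 ∨ cnt G m = A ∨ cnt G m = B) ∧
      (cnt G 2 ≤ 1 ∨ A = B) := by
    by_cases hs : cnt G 2 ≤ 1
    · refine ⟨u, v, fun m hm => (heven m hm).imp_right fun h' => ?_, Or.inl hs⟩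
      rw [hrest] at h'
      simpa using h'.1
    push Not at hs
    have h2G : 2 ∣ Nat.card G := by
      obtain ⟨g, hg⟩ := cnt_ne_zero_iff.mp (show cnt G 2 ≠ 0 by omega)
      exact hg ▸ orderOf_dvd_natCard g
    have hodd : ¬ Even (cnt G 2) := by
      have e := dvd_sum_cnt (G := G) two_ne_zero h2G
      rw [sum_divisors_prime Nat.prime_two, cnt_one] at e
      intro he
      obtain ⟨c, hc⟩ := he
      omega
    have h2V : cnt G 2 ∈ V \ {1} := ⟨hmem 2 (by omega), by simp; omega⟩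
    rw [hrest] at h2V
    rcases h2V with e | e
    · refine ⟨v, v, fun m hm => (heven m hm).imp_right fun h' => Or.inl ?_, Or.inr rfl⟩
      rw [hrest] at h'
      exact h'.1.resolve_left fun e' => hodd (by rw [e, ← e']; exact h'.2)
    · rw [Set.mem_singleton_iff] at e
      refine ⟨u, u, fun m hm => (heven m hm).imp_right fun h' => Or.inl ?_, Or.inr rfl⟩
      rw [hrest] at h'
      refine h'.1.resolve_right fun e' => hodd ?_
      rw [Set.mem_singleton_iff] at e'
      rw [e, ← e']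
      exact h'.2
  -- prime divisors
  have hval : ∀ l : ℕ, l.Prime → l ≠ 2 → l ∣ Nat.card G → cnt G l = A ∨ cnt G l = B := by
    intro l hl hl2 hlG
    haveI := Fact.mk hl
    refine (hv l (lt_of_le_of_ne hl.two_le (Ne.symm hl2))).resolve_left fun h => ?_
    have := cast_cnt_prime hl hlG
    rw [h, Nat.cast_zero] at this
    exact neg_ne_zero.mpr one_ne_zero this.symm
  have hv' : ∀ m, 3 ≤ m → cnt G m = 0 ∨ cnt G m = B ∨ cnt G m = A := fun m hm =>
    (hv m hm).imp_right Or.symm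
  have hs' : cnt G 2 ≤ 1 ∨ B = A := hs.imp_right Eq.symm
  by_cases h3 : ∃ p q r : ℕ, p.Prime ∧ q.Prime ∧ r.Prime ∧ p ≠ 2 ∧ q ≠ 2 ∧ r ≠ 2 ∧ p ≠ q ∧ p ≠ r ∧
      q ≠ r ∧ p ∣ Nat.card G ∧ q ∣ Nat.card G ∧ r ∣ Nat.card G
  · exfalso
    obtain ⟨p, q, r, hp, hq, hr, hp2, hq2, hr2, hpq, hpr, hqr, hpG, hqG, hrG⟩ := h3
    rcases hval p hp hp2 hpG with ep | ep <;> rcases hval q hq hq2 hqG with eq | eq <;>
      rcases hval r hr hr2 hrG with er | er
    · exact no_three hv hs hp hq hr hp2 hq2 hr2 hpq hpr hqr hpG hqG hrG ep eq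
    · exact no_three hv hs hp hq hr hp2 hq2 hr2 hpq hpr hqr hpG hqG hrG ep eq
    · exact no_three hv hs hp hr hq hp2 hr2 hq2 hpr hpq (Ne.symm hqr) hpG hrG hqG ep er
    · exact no_three hv' hs' hq hr hp hq2 hr2 hp2 hqr (Ne.symm hpq) (Ne.symm hpr) hqG hrG hpG eq er
    · exact no_three hv hs hq hr hp hq2 hr2 hp2 hqr (Ne.symm hpq) (Ne.symm hpr) hqG hrG hpG eq er
    · exact no_three hv' hs' hp hr hq hp2 hr2 hq2 hpr hpq (Ne.symm hqr) hpG hrG hqG ep er
    · exact no_three hv' hs' hp hq hr hp2 hq2 hr2 hpq hpr hqr hpG hqG hrG ep eq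
    · exact no_three hv' hs' hp hq hr hp2 hq2 hr2 hpq hpr hqr hpG hqG hrG ep eq
  -- at most two odd primes
  by_cases heven2 : 2 ∣ Nat.card G
  · by_cases h2 : ∃ p q : ℕ, p.Prime ∧ q.Prime ∧ p ≠ 2 ∧ q ≠ 2 ∧ p ≠ q ∧ p ∣ Nat.card G ∧
        q ∣ Nat.card G
    · obtain ⟨p, q, hp, hq, hp2, hq2, hpq, hpG, hqG⟩ := h2
      refine solvable_of_not_four hp hq (fun r hr hrG => ?_) heven2 ?_
      · by_contra hne
        push Not at hne
        exact h3 ⟨p, q, r, hp, hq, hr, hp2, hq2, hne.1, hpq, Ne.symm hne.2.1, Ne.symm hne.2.2, hpG,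
          hqG, hrG⟩
      · rcases hval p hp hp2 hpG with ep | ep
        · exact not_four_dvd hv hs hp hq hp2 hq2 hpq hpG hqG ep (hval q hq hq2 hqG)
        · exact not_four_dvd hv' hs' hp hq hp2 hq2 hpq hpG hqG ep (hval q hq hq2 hqG).symm
    · push Not at h2
      by_cases h1 : ∃ p : ℕ, p.Prime ∧ p ≠ 2 ∧ p ∣ Nat.card G
      · obtain ⟨p, hp, hp2, hpG⟩ := h1
        refine H33.isSolvable_of_two_primes Nat.prime_two hp fun r hr hrG => ?_
        by_contra hne
        push Not at hne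
        exact h2 r p hr hp hne.1 hp2 hne.2 hrG hpG
      · refine H33.isSolvable_of_two_primes Nat.prime_two Nat.prime_two fun r hr hrG => Or.inl ?_
        by_contra hne
        exact h1 ⟨r, hr, hne, hrG⟩
  · push Not at h3
    by_cases h2 : ∃ p q : ℕ, p.Prime ∧ q.Prime ∧ p ≠ q ∧ p ∣ Nat.card G ∧ q ∣ Nat.card G
    · obtain ⟨p, q, hp, hq, hpq, hpG, hqG⟩ := h2
      refine H33.isSolvable_of_two_primes hp hq fun r hr hrG => ?_
      by_contra hne
      push Not at hne
      exact h3 p q r hp hq hr (fun e => heven2 (e ▸ hpG)) (fun e => heven2 (e ▸ hqG))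
        (fun e => heven2 (e ▸ hrG)) hpq (Ne.symm hne.1) (Ne.symm hne.2) hpG hqG hrG
    · push Not at h2
      by_cases h1 : ∃ p : ℕ, p.Prime ∧ p ∣ Nat.card G
      · obtain ⟨p, hp, hpG⟩ := h1
        refine H33.isSolvable_of_two_primes hp hp fun r hr hrG => Or.inl ?_
        by_contra hne
        exact h2 r p hr hp hne hrG hpG
      · refine H33.isSolvable_of_two_primes Nat.prime_two Nat.prime_two fun r hr hrG => ?_
        exact absurd ⟨r, hr, hrG⟩ h1

end H28.ThreeValues
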