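import Cfsg.Agent.S0042
import Cfsg.Agent.H2.FPFSubgroup
import Cfsg.Agent.H3.ComplementCenter
import Cfsg.Agent.H82.PRankOne
import Cfsg.Agent.H81.Fitting
import Cfsg.Agent.H1.Wielandt
import Cfsg.Agent.H1.Cores
import Cfsg.Agent.H1.SchurZassenhausConj

/-!
The structure of 2-Frobenius groups.
-/

set_option autoImplicit false
set_option linter.style.haveILetI false

universe u

namespace H28.TwoFrob

variable {G : Type u} [Group G] [Finite G]

/-- A nilpotent group acting fixed-point-freely, of odd order, is cyclic. -/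
theorem isCyclic_of_fpf_nilpotent (V C : Subgroup G) [V.Normal] [IsMulCommutative V] (hV : V ≠ ⊥)
    (hfpf : ∀ c ∈ C, c ≠ 1 → V ⊓ Subgroup.centralizer {c} = ⊥) (hnil : Group.IsNilpotent C)
    (hodd : Odd (Nat.card C)) : IsCyclic C := by
  have hZ : IsZGroup C := by
    refine ⟨fun p hp P => ?_⟩
    haveI := Fact.mk hp
    by_contra hnc
    have hp2 : p ≠ 2 := by
      rintro rfl
      refine hnc ?_
      have h1 : Nat.card P = 1 := by
        obtain ⟨n, hn⟩ := IsPGroup.iff_card.mp P.isPGroup'
        rcases n with _ | n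
        · exact hn
        · exfalso
          have h2 : 2 ∣ Nat.card C :=
            (hn ▸ dvd_pow_self 2 n.succ_ne_zero : 2 ∣ Nat.card P).trans
              (Subgroup.card_subgroup_dvd_card _)
          exact (Nat.not_even_iff_odd.mpr hodd) (even_iff_two_dvd.mpr h2)
      haveI : Subsingleton P := (Nat.card_eq_one_iff_unique.mp h1).1
      infer_instance
    obtain ⟨A, -, hA, hcard⟩ := H82.exists_elemAb_sq hp2 P.isPGroup' hnc
    haveI := hA.1
    have hcyc : IsCyclic (A.map C.subtype) :=
      H2.isCyclic_of_fpf_subgroup (A := A.map C.subtype) (V := V)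
        (by rw [Subgroup.normalizer_eq_top]; exact le_top) hV
        (fun a ha => hfpf a (Subgroup.map_subtype_le A ha))
        (Or.inl inferInstance)
    obtain ⟨g, hg⟩ := hcyc.exists_generator
    have h1 : orderOf g = p ^ 2 := by
      rw [orderOf_eq_card_of_forall_mem_zpowers hg,
        Subgroup.card_map_of_injective C.subtype_injective, hcard]
    obtain ⟨a, ha, hag⟩ := g.2
    have h2 : (g : G) ^ p = 1 := by
      rw [← hag, ← map_pow, hA.2 a ha, map_one]
    rw [← Subgroup.orderOf_coe] at h1
    have h3 := orderOf_dvd_of_pow_eq_one h2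
    rw [h1] at h3
    have := Nat.le_of_dvd hp.pos h3
    nlinarith [hp.two_le]
  haveI := hZ
  haveI := hnil
  infer_instance

/-- An element of the complement action commuting with a nontrivial kernel element. -/
theorem mem_kernel_of_commute {K D : Subgroup G} [K.Normal] (hc : Subgroup.IsComplement' K D)
    (hcomm : IsMulCommutative K)
    (hfpf : ∀ d ∈ D, d ≠ 1 → K ⊓ Subgroup.centralizer {d} = ⊥) {a b : G} (ha : a ∈ K) (ha1 : a ≠ 1)
    (hab : Commute a b) : b ∈ K := by
  obtain ⟨k, hk, d, hd, rfl⟩ := H2.complement_decomp hc b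
  by_cases hd1 : d = 1
  · rw [hd1, mul_one]; exact hk
  exfalso
  have hak : Commute a k := by
    haveI := hcomm
    exact congrArg Subtype.val (mul_comm' (⟨a, ha⟩ : K) ⟨k, hk⟩)
  have had : Commute a d := by
    have h := (hak.inv_right).mul_right hab
    rwa [inv_mul_cancel_left] at h
  have h1 : a ∈ K ⊓ Subgroup.centralizer {d} :=
    ⟨ha, Subgroup.mem_centralizer_singleton_iff.mpr had.eq⟩
  rw [hfpf d hd hd1, Subgroup.mem_bot] at h1
  exact ha1 h1

theorem exists_orderOf_eq_mul {p q : ℕ} (hp : p.Prime) (hq : q.Prime) (hpq : p ≠ q) {a b : G}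
    (ha : orderOf a = p) (hb : orderOf b = q) (hab : Commute a b) :
    ∃ g : G, orderOf g = p * q :=
  ⟨a * b, by rw [hab.orderOf_mul_eq_mul_orderOf_of_coprime
    (by rw [ha, hb]; exact (Nat.coprime_primes hp hq).mpr hpq), ha, hb]⟩

end H28.TwoFrob
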