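import Mathlib

/-!
Odd automorphisms of 2-groups and elementary abelian subgroups of order eight.
-/

set_option autoImplicit false
set_option linter.style.haveILetI false

universe u

namespace H28.Rank3

variable {X : Type u} [Group X] [Finite X]

theorem mem_normalizer_of_conj {Q : Subgroup X} {g : X} (h : ∀ x ∈ Q, g * x * g⁻¹ ∈ Q) :
    g ∈ Subgroup.normalizer (Q : Set X) := by
  haveI : Finite (Q : Set X) := Subtype.finite
  exact Subgroup.mem_normalizer_fintype h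

theorem conj_closure_sq {Q : Subgroup X} {g : X} (hg : ∀ x ∈ Q, g * x * g⁻¹ ∈ Q) :
    ∀ z ∈ Subgroup.closure {y : X | ∃ x ∈ Q, x ^ 2 = y},
      g * z * g⁻¹ ∈ Subgroup.closure {y : X | ∃ x ∈ Q, x ^ 2 = y} := by
  intro z hz
  induction hz using Subgroup.closure_induction with
  | mem y hy =>
    obtain ⟨x, hx, rfl⟩ := hy
    exact Subgroup.subset_closure ⟨g * x * g⁻¹, hg x hx, conj_pow⟩
  | one => simp
  | mul a b _ _ ha hb =>
    rw [show g * (a * b) * g⁻¹ = (g * a * g⁻¹) * (g * b * g⁻¹) by group]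
    exact Subgroup.mul_mem _ ha hb
  | inv a _ ha =>
    rw [show g * a⁻¹ * g⁻¹ = (g * a * g⁻¹)⁻¹ by group]
    exact Subgroup.inv_mem _ ha

/-- A minimal subgroup on which the automorphism `t` of order 3 acts nontrivially. -/
theorem exists_min (P : Subgroup X) (hP : IsPGroup 2 P) (d t : X)
    (hdP : d ∈ Subgroup.normalizer (P : Set X)) (htd : t ∈ Subgroup.zpowers d) (ht3 : t ^ 3 = 1)
    (hne : ∃ x ∈ P, t * x ≠ x * t) :
    ∃ Q Φ : Subgroup X, Q ≤ P ∧ Φ ≤ Q ∧ d ∈ Subgroup.normalizer (Q : Set X) ∧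
      d ∈ Subgroup.normalizer (Φ : Set X) ∧
      (∀ z ∈ Φ, ∀ q ∈ Q, z * q = q * z) ∧ (∀ z ∈ Φ, z ^ 2 = 1) ∧ (∀ x ∈ Q, x ^ 2 ∈ Φ) ∧
      (∀ x ∈ Q, t * x = x * t → x ∈ Φ) ∧ (∀ z ∈ Φ, t * z = z * t) ∧
      ∃ x ∈ Q, t * x ≠ x * t := by
  classical
  haveI := Fact.mk Nat.prime_two
  set S := {Q : Subgroup X | Q ≤ P ∧ d ∈ Subgroup.normalizer (Q : Set X) ∧
    ∃ x ∈ Q, t * x ≠ x * t}
  obtain ⟨Q, hQmem, hQmin⟩ := Set.exists_min_image S (fun Q => Nat.card Q) (Set.toFinite S)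
    ⟨P, le_rfl, hdP, hne⟩
  obtain ⟨hQP, hdQ, hneQ⟩ := hQmem
  have htN : ∀ R : Subgroup X, d ∈ Subgroup.normalizer (R : Set X) →
      ∀ x ∈ R, t * x * t⁻¹ ∈ R := fun R hR x hx =>
    (Subgroup.mem_normalizer_iff.mp ((Subgroup.zpowers_le.mpr hR) htd) x).mp hx
  have hdQc : ∀ x ∈ Q, d * x * d⁻¹ ∈ Q := fun x hx =>
    (Subgroup.mem_normalizer_iff.mp hdQ x).mp hx
  have hdt : Commute d t := by
    obtain ⟨k, rfl⟩ := Subgroup.mem_zpowers_iff.mp htd
    exact Commute.self_zpow d k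
  have hsmall : ∀ R : Subgroup X, R ≤ Q → R ≠ Q → d ∈ Subgroup.normalizer (R : Set X) →
      ∀ r ∈ R, t * r = r * t := by
    intro R hle hneR hR r hr
    by_contra hc
    exact hneR (Subgroup.eq_of_le_of_card_ge hle (hQmin R ⟨hle.trans hQP, hR, r, hr, hc⟩))
  have hcomm3 : ∀ q w : X, t * q * t⁻¹ = q * w → t * w = w * t → w ^ 3 = 1 := by
    intro q w h hw
    have hw' : t * w * t⁻¹ = w := by rw [hw, mul_inv_cancel_right]
    have h2 : t ^ 2 * q * (t ^ 2)⁻¹ = q * w ^ 2 := by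
      rw [show t ^ 2 * q * (t ^ 2)⁻¹ = t * (t * q * t⁻¹) * t⁻¹ by rw [pow_two]; group, h,
        show t * (q * w) * t⁻¹ = (t * q * t⁻¹) * (t * w * t⁻¹) by group, h, hw', pow_two, mul_assoc]
    have h3 : t ^ 3 * q * (t ^ 3)⁻¹ = q * w ^ 3 := by
      rw [show t ^ 3 * q * (t ^ 3)⁻¹ = t * (t ^ 2 * q * (t ^ 2)⁻¹) * t⁻¹ by
          rw [pow_succ' t 2]; group, h2,
        show t * (q * w ^ 2) * t⁻¹ = (t * q * t⁻¹) * ((t * w * t⁻¹) * (t * w * t⁻¹)) by
          rw [pow_two]; group, h, hw', pow_succ' w 2, pow_two, mul_assoc]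
    rw [ht3, one_mul, inv_one, mul_one, eq_comm, mul_eq_left] at h3
    exact h3
  -- the commutators with `t` generate
  set T := Subgroup.closure {y : X | ∃ q ∈ Q, q⁻¹ * (t * q * t⁻¹) = y} with hT
  have hTQ : T ≤ Q := (Subgroup.closure_le Q).mpr (by
    rintro _ ⟨q, hq, rfl⟩
    exact Q.mul_mem (Q.inv_mem hq) (htN Q hdQ q hq))
  have hdT : d ∈ Subgroup.normalizer (T : Set X) := by
    refine mem_normalizer_of_conj fun x hx => ?_
    induction hx using Subgroup.closure_induction with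
    | mem y hy =>
      obtain ⟨q, hq, rfl⟩ := hy
      refine Subgroup.subset_closure ⟨d * q * d⁻¹, hdQc q hq, ?_⟩
      calc (d * q * d⁻¹)⁻¹ * (t * (d * q * d⁻¹) * t⁻¹) = d * q⁻¹ * d⁻¹ * ((t * d) * q * (t * d)⁻¹) := by
            group
        _ = d * q⁻¹ * d⁻¹ * ((d * t) * q * (d * t)⁻¹) := by rw [hdt.eq]
        _ = d * (q⁻¹ * (t * q * t⁻¹)) * d⁻¹ := by group
    | one => simp
    | mul a b _ _ ha hb =>
      rw [show d * (a * b) * d⁻¹ = (d * a * d⁻¹) * (d * b * d⁻¹) by group]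
      exact T.mul_mem ha hb
    | inv a _ ha =>
      rw [show d * a⁻¹ * d⁻¹ = (d * a * d⁻¹)⁻¹ by group]
      exact T.inv_mem ha
  have hodd : ∀ x ∈ Q, x ^ 3 = 1 → x = 1 := by
    intro x hx h
    obtain ⟨k, hk⟩ := hP ⟨x, hQP hx⟩
    rw [← orderOf_eq_one_iff]
    refine Nat.eq_one_of_dvd_coprimes (k := x |> orderOf) ?_
      (orderOf_dvd_of_pow_eq_one (n := 2 ^ k) (congrArg Subtype.val hk))
      (orderOf_dvd_of_pow_eq_one h)
    exact Nat.Coprime.pow_left k (by norm_num)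
  have hTeq : T = Q := by
    by_contra h
    obtain ⟨q, hq, hqt⟩ := hneQ
    have hw : q⁻¹ * (t * q * t⁻¹) ∈ T := Subgroup.subset_closure ⟨q, hq, rfl⟩
    have h1 := hodd _ (hTQ hw) (hcomm3 q _ (by group) (hsmall T hTQ h hdT _ hw))
    rw [inv_mul_eq_one] at h1
    exact hqt (mul_inv_eq_iff_eq_mul.mp h1.symm)
  have hcentral : ∀ R : Subgroup X, R ≤ Q → R ≠ Q → d ∈ Subgroup.normalizer (R : Set X) →
      (∀ q ∈ Q, ∀ r ∈ R, q * r * q⁻¹ ∈ R) → ∀ r ∈ R, ∀ q ∈ Q, r * q = q * r := by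
    intro R hle hneR hR hn r hr q hq
    rw [← hTeq] at hq
    induction hq using Subgroup.closure_induction with
    | mem y hy =>
      obtain ⟨q, hq, rfl⟩ := hy
      have h1 := hsmall R hle hneR hR r hr
      have h2 := hsmall R hle hneR hR _ (hn q hq r hr)
      have e : t⁻¹ * r * t = r := by rw [mul_assoc, ← h1, inv_mul_cancel_left]
      have h3 : t * q * t⁻¹ * r * (t * q * t⁻¹)⁻¹ = q * r * q⁻¹ := by
        calc t * q * t⁻¹ * r * (t * q * t⁻¹)⁻¹ = t * (q * (t⁻¹ * r * t) * q⁻¹) * t⁻¹ := by group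
          _ = t * (q * r * q⁻¹) * t⁻¹ := by rw [e]
          _ = q * r * q⁻¹ := by rw [h2, mul_inv_cancel_right]
      set s := t * q * t⁻¹
      calc r * (q⁻¹ * s) = q⁻¹ * (q * r * q⁻¹) * s := by group
        _ = q⁻¹ * (s * r * s⁻¹) * s := by rw [h3]
        _ = q⁻¹ * s * r := by group
    | one => simp
    | mul a b _ _ ha hb => rw [← mul_assoc, ha, mul_assoc, hb, mul_assoc]
    | inv a _ ha => exact (show Commute r a from ha).inv_right.eq
  -- squares
  set Φ := Subgroup.closure {y : X | ∃ x ∈ Q, x ^ 2 = y} with hΦ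
  have hΦQ : Φ ≤ Q := (Subgroup.closure_le Q).mpr (by
    rintro _ ⟨q, hq, rfl⟩; exact Q.pow_mem hq 2)
  have hQ2 : IsPGroup 2 Q := hP.to_le hQP
  have hQ1 : Nat.card Q ≠ 1 := by
    intro h
    obtain ⟨q, hq, hqt⟩ := hneQ
    rw [Subgroup.card_eq_one.mp h, Subgroup.mem_bot] at hq
    exact hqt (by rw [hq, mul_one, one_mul])
  obtain ⟨k, hk⟩ := IsPGroup.iff_card.mp hQ2
  have hk0 : k ≠ 0 := fun h => hQ1 (by rw [hk, h, pow_zero])
  obtain ⟨M, hM⟩ := Sylow.exists_subgroup_card_pow_prime (G := Q) 2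
    (n := k - 1) (hk ▸ pow_dvd_pow 2 (by omega))
  have hMidx : M.index = 2 := by
    have h := Subgroup.card_mul_index M
    rw [hM, hk] at h
    refine Nat.eq_of_mul_eq_mul_left (Nat.two_pow_pos (k - 1)) ?_
    rw [h, ← pow_succ, Nat.sub_add_cancel (Nat.pos_of_ne_zero hk0)]
  have hΦne : Φ ≠ Q := by
    intro h
    have hle : Φ ≤ M.map Q.subtype := (Subgroup.closure_le _).mpr (by
      rintro _ ⟨q, hq, rfl⟩
      exact ⟨(⟨q, hq⟩ : Q) ^ 2, Subgroup.sq_mem_of_index_two hMidx _, rfl⟩)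
    rw [h] at hle
    have h1 := Subgroup.card_le_of_le hle
    rw [Subgroup.card_map_of_injective Q.subtype_injective, hM, hk] at h1
    exact absurd ((Nat.pow_le_pow_iff_right (by norm_num)).mp h1) (by omega)
  have hdΦ : d ∈ Subgroup.normalizer (Φ : Set X) :=
    mem_normalizer_of_conj (conj_closure_sq hdQc)
  have hΦn : ∀ q ∈ Q, ∀ r ∈ Φ, q * r * q⁻¹ ∈ Φ := fun q hq =>
    conj_closure_sq fun x hx => Q.mul_mem (Q.mul_mem hq hx) (Q.inv_mem hq)
  have hcen := hcentral Φ hΦQ hΦne hdΦ hΦn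
  have htΦ := hsmall Φ hΦQ hΦne hdΦ
  have hsq : ∀ x ∈ Q, x ^ 2 ∈ Φ := fun x hx => Subgroup.subset_closure ⟨x, hx, rfl⟩
  have hcomm : ∀ x ∈ Q, ∀ y ∈ Q, x * y * x⁻¹ * y⁻¹ ∈ Φ := by
    intro x hx y hy
    rw [show x * y * x⁻¹ * y⁻¹ = x ^ 2 * (x⁻¹ * y) ^ 2 * (y⁻¹) ^ 2 by
      simp only [pow_two]; group]
    exact Φ.mul_mem (Φ.mul_mem (hsq x hx) (hsq _ (Q.mul_mem (Q.inv_mem hx) hy)))
      (hsq _ (Q.inv_mem hy))
  have hc2 : ∀ x ∈ Q, ∀ y ∈ Q, (x * y * x⁻¹ * y⁻¹) ^ 2 = 1 := by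
    intro x hx y hy
    set c := x * y * x⁻¹ * y⁻¹ with hc
    have e := hcen _ (hcomm x hx y hy) x hx
    have h1 : x ^ 2 * y * (x ^ 2)⁻¹ * y⁻¹ = c ^ 2 := by
      calc x ^ 2 * y * (x ^ 2)⁻¹ * y⁻¹ = x * (x * y * x⁻¹ * y⁻¹) * x⁻¹ * (x * y * x⁻¹ * y⁻¹) := by
            rw [pow_two]; group
        _ = c * c := by rw [← hc, ← e, mul_inv_cancel_right]
        _ = c ^ 2 := (pow_two c).symm
    rw [← h1, hcen _ (hsq x hx) y hy, mul_inv_cancel_right, mul_inv_cancel]
  have h4 : ∀ x ∈ Q, x ^ 4 = 1 := by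
    intro x hx
    rw [← hTeq] at hx
    induction hx using Subgroup.closure_induction with
    | mem y hy =>
      obtain ⟨q, hq, rfl⟩ := hy
      set w := q⁻¹ * (t * q * t⁻¹) with hw
      have hwQ : w ∈ Q := hTQ (Subgroup.subset_closure ⟨q, hq, rfl⟩)
      have h1 : (q * w) ^ 2 = q ^ 2 := by
        rw [hw, mul_inv_cancel_left, conj_pow, htΦ _ (hsq q hq), mul_inv_cancel_right]
      set c := w * q * w⁻¹ * q⁻¹ with hc
      have hcq := hcen _ (hcomm w hwQ q hq) q hq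
      have h2 : (q * w) ^ 2 = c * (q ^ 2 * w ^ 2) := by
        calc (q * w) ^ 2 = q * (w * q * w⁻¹ * q⁻¹) * q * w * w := by rw [pow_two]; group
          _ = c * q * q * w * w := by rw [← hc, ← hcq]
          _ = c * (q ^ 2 * w ^ 2) := by simp only [pow_two]; group
      rw [h2] at h1
      have h3 : w ^ 2 = c⁻¹ := by
        have h5 : c * w ^ 2 * q ^ 2 = 1 * q ^ 2 := by
          rw [one_mul, mul_assoc, hcen _ (hsq w hwQ) _ (Q.pow_mem hq 2)]; exact h1
        exact eq_inv_of_mul_eq_one_right (mul_right_cancel h5)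
      rw [show (4 : ℕ) = 2 * 2 by norm_num, pow_mul, h3, inv_pow, hc2 w hwQ q hq, inv_one]
    | one => simp
    | mul a b ha hb iha ihb =>
      have haQ : a ∈ Q := hTQ ha
      have hbQ : b ∈ Q := hTQ hb
      set c := b * a * b⁻¹ * a⁻¹ with hc
      have hca := hcen _ (hcomm b hbQ a haQ) a haQ
      have e : (a * b) ^ 2 = c * (a ^ 2 * b ^ 2) := by
        calc (a * b) ^ 2 = a * (b * a * b⁻¹ * a⁻¹) * a * b * b := by rw [pow_two]; group
          _ = c * a * a * b * b := by rw [← hc, ← hca]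
          _ = c * (a ^ 2 * b ^ 2) := by simp only [pow_two]; group
      have e1 : Commute c (a ^ 2 * b ^ 2) :=
        hcen _ (hcomm b hbQ a haQ) _ (Q.mul_mem (Q.pow_mem haQ 2) (Q.pow_mem hbQ 2))
      have e2 : Commute (a ^ 2) (b ^ 2) := hcen _ (hsq a haQ) _ (Q.pow_mem hbQ 2)
      rw [show (4 : ℕ) = 2 * 2 by norm_num, pow_mul, e, e1.mul_pow, e2.mul_pow, hc2 b hbQ a haQ,
        ← pow_mul, ← pow_mul, iha, ihb, one_mul, one_mul]
    | inv a _ iha => rw [inv_pow, iha, inv_one]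
  have hΦ2 : ∀ z ∈ Φ, z ^ 2 = 1 := by
    intro z hz
    induction hz using Subgroup.closure_induction with
    | mem y hy =>
      obtain ⟨x, hx, rfl⟩ := hy
      rw [← pow_mul]; exact h4 x hx
    | one => simp
    | mul a b ha _ iha ihb =>
      rw [(show Commute a b from hcen a ha b (hΦQ ‹_›)).mul_pow, iha, ihb, one_mul]
    | inv a _ iha => rw [inv_pow, iha, inv_one]
  refine ⟨Q, Φ, hQP, hΦQ, hdQ, hdΦ, hcen, hΦ2, hsq, ?_, htΦ, hneQ⟩
  -- fixed points
  haveI : (Φ.subgroupOf Q).Normal := ⟨fun n hn g => by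
    rw [Subgroup.mem_subgroupOf] at hn ⊢
    exact hΦn g g.2 n hn⟩
  let π := QuotientGroup.mk' (Φ.subgroupOf Q)
  have hab : ∀ x y : Q, π x * π y = π y * π x := by
    intro x y
    have h : π (x * y * x⁻¹ * y⁻¹) = 1 :=
      (QuotientGroup.eq_one_iff _).mpr (Subgroup.mem_subgroupOf.mpr (hcomm x x.2 y y.2))
    simp only [map_mul, map_inv] at h
    calc π x * π y = π x * π y * (π x)⁻¹ * (π y)⁻¹ * (π y * π x) := by group
      _ = π y * π x := by rw [h, one_mul]
  let t1 : Q →* Q :=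
    { toFun := fun x => ⟨t * x * t⁻¹, htN Q hdQ x x.2⟩
      map_one' := Subtype.ext (by simp)
      map_mul' := fun x y => Subtype.ext (by push_cast; group) }
  let ψ : Q →* Q ⧸ Φ.subgroupOf Q :=
    { toFun := fun x => π x * π (t1 x) * π (t1 (t1 x))
      map_one' := by simp
      map_mul' := fun x y => by
        simp only [map_mul]
        have c1 : ∀ a b : Q, Commute (π a) (π b) := hab
        calc π x * π y * (π (t1 x) * π (t1 y)) * (π (t1 (t1 x)) * π (t1 (t1 y)))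
            = π x * π (t1 x) * (π y * π (t1 y)) * (π (t1 (t1 x)) * π (t1 (t1 y))) := by
              rw [(c1 y (t1 x)).mul_mul_mul_comm]
          _ = π x * π (t1 x) * π (t1 (t1 x)) * (π y * π (t1 y) * π (t1 (t1 y))) := by
              rw [← map_mul π y, (c1 (y * t1 y) (t1 (t1 x))).mul_mul_mul_comm, map_mul] }
  have hψ : ∀ x : Q, ψ x = 1 := by
    have hgen : ∀ y ∈ T, ∀ hy : y ∈ Q, ψ ⟨y, hy⟩ = 1 := by
      intro y hy
      induction hy using Subgroup.closure_induction with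
      | mem y hy =>
        obtain ⟨q, hq, rfl⟩ := hy
        intro hyQ
        show π _ * π _ * π _ = 1
        rw [← map_mul, ← map_mul]
        convert map_one π
        refine Subtype.ext ?_
        show q⁻¹ * (t * q * t⁻¹) * (t * (q⁻¹ * (t * q * t⁻¹)) * t⁻¹) *
          (t * (t * (q⁻¹ * (t * q * t⁻¹)) * t⁻¹) * t⁻¹) = 1
        rw [show q⁻¹ * (t * q * t⁻¹) * (t * (q⁻¹ * (t * q * t⁻¹)) * t⁻¹) *
          (t * (t * (q⁻¹ * (t * q * t⁻¹)) * t⁻¹) * t⁻¹) = q⁻¹ * (t ^ 3 * q * (t ^ 3)⁻¹) by simp only [pow_succ, pow_zero]; group,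
          ht3, one_mul, inv_one, mul_one, inv_mul_cancel]
      | one => intro _; exact map_one ψ
      | mul a b ha hb iha ihb =>
        intro _
        rw [show (⟨a * b, _⟩ : Q) = ⟨a, hTQ ha⟩ * ⟨b, hTQ hb⟩ from rfl, map_mul, iha, ihb, one_mul]
      | inv a ha iha =>
        intro _
        rw [show (⟨a⁻¹, _⟩ : Q) = ⟨a, hTQ ha⟩⁻¹ from rfl, map_inv, iha, inv_one]
    exact fun x => hgen x (hTeq.symm ▸ x.2) x.2
  intro x hx hfix
  have ht1 : t1 ⟨x, hx⟩ = ⟨x, hx⟩ := Subtype.ext (by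
    show t * x * t⁻¹ = x; rw [hfix, mul_inv_cancel_right])
  have h := hψ ⟨x, hx⟩
  change π _ * π _ * π _ = 1 at h
  rw [ht1, ht1, ← map_mul, ← map_mul] at h
  have h3 : x * x * x ∈ Φ := Subgroup.mem_subgroupOf.mp ((QuotientGroup.eq_one_iff _).mp h)
  have := Φ.mul_mem (Φ.inv_mem (hsq x hx)) h3
  rwa [pow_two, inv_mul_cancel_left] at this

/-- The squaring map of a 2-group with central squares takes the value one on many elements. -/
theorem sum_sq_dvd [Fintype X] (Q Z Z0 : Subgroup X) [Fintype Q] (hZQ : Z ≤ Q) (hZ0 : Z0 ≤ Z)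
    (hcen : ∀ z ∈ Z, ∀ q ∈ Q, z * q = q * z) (hsq : ∀ x ∈ Q, x ^ 2 ∈ Z0)
    (hZ2 : ∀ z ∈ Z, z ^ 2 = 1) (χ : X → ℤ) (h1 : χ 1 = 1)
    (hχ : ∀ a ∈ Z0, ∀ b ∈ Z0, χ (a * b) = χ a * χ b) :
    ((Nat.card Q : ℤ) * Nat.card Z) ∣ (∑ x : Q, χ ((x : X) ^ 2)) ^ 2 := by
  classical
  have hpm : ∀ a ∈ Z0, χ a * χ a = 1 := by
    intro a ha
    rw [← hχ a ha a ha, ← pow_two, hZ2 a (hZ0 ha), h1]
  let br : Q → Q → X := fun w x => (w : X) * x * (w : X)⁻¹ * (x : X)⁻¹
  have hbr : ∀ w x : Q, br w x ∈ Z0 := by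
    intro w x
    show (w : X) * x * (w : X)⁻¹ * (x : X)⁻¹ ∈ Z0
    rw [show (w : X) * x * (w : X)⁻¹ * (x : X)⁻¹ =
      (w : X) ^ 2 * ((w : X)⁻¹ * x) ^ 2 * ((x : X)⁻¹) ^ 2 by simp only [pow_two]; group]
    exact Z0.mul_mem (Z0.mul_mem (hsq w w.2) (hsq _ (Q.mul_mem (Q.inv_mem w.2) x.2)))
      (hsq _ (Q.inv_mem x.2))
  have hsqmul : ∀ x w : Q, ((x * w : Q) : X) ^ 2 = br w x * ((x : X) ^ 2 * (w : X) ^ 2) := by
    intro x w
    have h := hcen _ (hZ0 (hbr w x)) x x.2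
    calc ((x * w : Q) : X) ^ 2 = (x : X) * br w x * x * w * w := by
          show ((x : X) * w) ^ 2 = _
          simp only [br, pow_two]; group
      _ = br w x * x * x * w * w := by rw [h]
      _ = br w x * ((x : X) ^ 2 * (w : X) ^ 2) := by simp only [pow_two]; group
  have hbr_mul : ∀ w x y : Q, br w (x * y) = br w x * br w y := by
    intro w x y
    have h := hcen _ (hZ0 (hbr w y)) x x.2
    calc br w (x * y) = br w x * ((x : X) * br w y * (x : X)⁻¹) := by
          simp only [br]; push_cast; group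
      _ = br w x * br w y := by rw [← h, mul_inv_cancel_right]
  have hbr_z : ∀ w x z : Q, (z : X) ∈ Z → br (w * z) x = br w x := by
    intro w x z hz
    have h := hcen _ hz x x.2
    calc br (w * z) x = (w : X) * ((z : X) * x * (z : X)⁻¹) * (w : X)⁻¹ * (x : X)⁻¹ := by
          simp only [br]; push_cast; group
      _ = br w x := by rw [h, mul_inv_cancel_right]
  set f : Q → ℤ := fun x => χ ((x : X) ^ 2) with hf
  set T : Q → ℤ := fun w => ∑ x : Q, χ (br w x) with hT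
  have hS : (∑ x : Q, f x) ^ 2 = ∑ w : Q, f w * T w := by
    calc (∑ x : Q, f x) ^ 2 = ∑ x : Q, ∑ y : Q, f x * f y := by rw [pow_two, Finset.sum_mul_sum]
      _ = ∑ x : Q, ∑ w : Q, f w * χ (br w x) := by
          refine Finset.sum_congr rfl fun x _ => ?_
          rw [← Equiv.sum_comp (Equiv.mulLeft x) (fun y => f x * f y)]
          refine Finset.sum_congr rfl fun w _ => ?_
          show χ ((x : X) ^ 2) * χ (((x * w : Q) : X) ^ 2) = χ ((w : X) ^ 2) * χ (br w x)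
          rw [hsqmul, hχ _ (hbr w x) _ (Z0.mul_mem (hsq x x.2) (hsq w w.2)),
            hχ _ (hsq x x.2) _ (hsq w w.2)]
          linear_combination (χ (br w x) * χ ((w : X) ^ 2)) * hpm _ (hsq x x.2)
      _ = ∑ w : Q, ∑ x : Q, f w * χ (br w x) := Finset.sum_comm
      _ = ∑ w : Q, f w * T w := by simp only [hT, Finset.mul_sum]
  have hTdvd : ∀ w, (Nat.card Q : ℤ) ∣ T w := by
    intro w
    by_cases h : ∀ x : Q, χ (br w x) = 1
    · simp [hT, h, Nat.card_eq_fintype_card]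
    · push Not at h
      obtain ⟨y, hy⟩ := h
      have e : T w = χ (br w y) * T w := by
        calc T w = ∑ x : Q, χ (br w (y * x)) :=
              (Equiv.sum_comp (Equiv.mulLeft y) (fun x => χ (br w x))).symm
          _ = χ (br w y) * T w := by
              simp only [hbr_mul, hT, Finset.mul_sum]
              exact Finset.sum_congr rfl fun x _ => hχ _ (hbr w y) _ (hbr w x)
      rcases mul_right_eq_self₀.mp (show T w * χ (br w y) = T w by rw [mul_comm]; exact e.symm)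
        with h' | h'
      · exact absurd h' hy
      · simp [h']
  rw [hS]
  set g : Q → ℤ := fun w => f w * T w with hg
  have hgz : ∀ w : Q, ∀ z ∈ Z.subgroupOf Q, g (w * z) = g w := by
    intro w z hz
    rw [Subgroup.mem_subgroupOf] at hz
    have e1 : T (w * z) = T w := Finset.sum_congr rfl fun x _ => by rw [hbr_z w x z hz]
    have e2 : f (w * z) = f w := by
      show χ (((w * z : Q) : X) ^ 2) = χ ((w : X) ^ 2)
      push_cast
      rw [(show Commute (w : X) z from (hcen _ hz w w.2).symm).mul_pow, hZ2 _ hz, mul_one]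
    show f (w * z) * T (w * z) = f w * T w
    rw [e1, e2]
  show ((Nat.card Q : ℤ) * Nat.card Z) ∣ ∑ w : Q, g w
  have hfib : ∑ w : Q, g w = ∑ c : Q ⧸ Z.subgroupOf Q, (Nat.card Z : ℤ) * g c.out := by
    rw [← Equiv.sum_comp (Subgroup.groupEquivQuotientProdSubgroup (s := Z.subgroupOf Q)).symm g,
      Fintype.sum_prod_type]
    refine Finset.sum_congr rfl fun c _ => ?_
    have hconst : ∀ z : Z.subgroupOf Q,
        g ((Subgroup.groupEquivQuotientProdSubgroup (s := Z.subgroupOf Q)).symm (c, z)) =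
          g c.out := by
      intro z
      set w := (Subgroup.groupEquivQuotientProdSubgroup (s := Z.subgroupOf Q)).symm (c, z) with hw
      have hmk : (QuotientGroup.mk w : Q ⧸ Z.subgroupOf Q) = QuotientGroup.mk c.out := by
        rw [QuotientGroup.out_eq']
        exact congrArg Prod.fst
          ((Subgroup.groupEquivQuotientProdSubgroup (s := Z.subgroupOf Q)).apply_symm_apply (c, z))
      have h := hgz c.out _ (QuotientGroup.eq.mp hmk.symm)
      rwa [mul_inv_cancel_left] at h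
    simp only [hconst, Finset.sum_const, Finset.card_univ, nsmul_eq_mul]
    rw [← Nat.card_eq_fintype_card, Nat.card_congr (Subgroup.subgroupOfEquivOfLe hZQ).toEquiv]
  rw [hfib]
  refine Finset.dvd_sum fun c _ => ?_
  rw [mul_comm (Nat.card Q : ℤ)]
  exact mul_dvd_mul_left _ ((hTdvd _).mul_left _)

theorem two_pow_dvd_of_sq (m : ℕ) (S : ℤ) (h : (2 : ℤ) ^ (2 * m + 1) ∣ S ^ 2) :
    (2 : ℤ) ^ (m + 1) ∣ S := by
  obtain ⟨k, rfl⟩ : (2 : ℤ) ^ m ∣ S := (Int.pow_dvd_pow_iff (n := 2) (by norm_num)).mp (by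
    rw [← pow_mul, mul_comm]; exact dvd_trans (pow_dvd_pow _ (Nat.le_succ _)) h)
  rw [mul_pow, ← pow_mul, mul_comm m 2, pow_succ] at h
  exact (pow_succ (2 : ℤ) m).symm ▸ mul_dvd_mul_left _
    (Int.prime_two.dvd_of_dvd_pow ((mul_dvd_mul_iff_left (pow_ne_zero _ two_ne_zero)).mp h))

/-- An involution outside `Z`. -/
theorem exists_involution_outside (Q Z Z0 : Subgroup X) (hQ : IsPGroup 2 Q) (hZQ : Z ≤ Q)
    (hcen : ∀ z ∈ Z, ∀ q ∈ Q, z * q = q * z) (hZ2 : ∀ z ∈ Z, z ^ 2 = 1) (hZ0 : Z0 ≤ Z)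
    (hsq : ∀ x ∈ Q, x ^ 2 ∈ Z0) (hZcard : Nat.card Z ≤ 4)
    (hcase : (Nat.card Z0 ≤ 2 ∧ 2 ^ 8 ≤ Nat.card Q * Nat.card Z) ∨
      (Nat.card Z0 = 4 ∧ 2 ^ 9 ≤ Nat.card Q * Nat.card Z)) :
    ∃ x ∈ Q, x ∉ Z ∧ x ^ 2 = 1 := by
  classical
  haveI := Fintype.ofFinite X
  haveI := Fact.mk Nat.prime_two
  obtain ⟨a, ha⟩ := IsPGroup.iff_card.mp hQ
  obtain ⟨b, hb⟩ := IsPGroup.iff_card.mp (hQ.to_le hZQ)
  have hb2 : b ≤ 2 := (Nat.pow_le_pow_iff_right (by norm_num)).mp (hb ▸ hZcard)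
  by_contra hno
  push Not at hno
  have hcount : ((Finset.univ : Finset Q).filter fun x : Q => (x : X) ^ 2 = 1).card =
      Nat.card Z := by
    rw [← Nat.card_congr (Subgroup.subgroupOfEquivOfLe hZQ).toEquiv, Nat.card_eq_fintype_card,
      ← Fintype.card_subtype]
    refine Fintype.card_congr (Equiv.subtypeEquivRight fun x => ?_)
    refine ⟨fun h => Subgroup.mem_subgroupOf.mpr ?_, fun h => hZ2 _ (Subgroup.mem_subgroupOf.mp h)⟩
    by_contra hx
    exact hno x x.2 hx h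
  have hsum : ∀ φ : X → ℤ, (∀ x : Q, φ ((x : X) ^ 2) = if (x : X) ^ 2 = 1 then 1 else 0) →
      ∑ x : Q, φ ((x : X) ^ 2) = Nat.card Z := by
    intro φ hφ
    simp only [hφ, Finset.sum_boole, hcount]
  have hS : ∀ (χ : X → ℤ) (m : ℕ), χ 1 = 1 → (∀ a ∈ Z0, ∀ b ∈ Z0, χ (a * b) = χ a * χ b) →
      2 ^ (2 * m + 1) ≤ Nat.card Q * Nat.card Z → (2 : ℤ) ^ (m + 1) ∣ ∑ x : Q, χ ((x : X) ^ 2) := by
    intro χ m h1 hmul hle
    refine two_pow_dvd_of_sq m _ ?_
    have h := sum_sq_dvd Q Z Z0 hZQ hZ0 hcen hsq hZ2 χ h1 hmul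
    rw [ha, hb, ← pow_add] at hle
    have hle' := (Nat.pow_le_pow_iff_right (by norm_num)).mp hle
    refine dvd_trans ?_ h
    rw [ha, hb, Nat.cast_pow, Nat.cast_pow, ← pow_add]
    exact pow_dvd_pow _ hle'
  have hQpos : 16 ∣ Nat.card Q := by
    have hab : 8 ≤ a + b := by
      refine (Nat.pow_le_pow_iff_right (a := 2) (by norm_num)).mp ?_
      rw [pow_add, ← ha, ← hb]
      rcases hcase with h | h
      · exact h.2
      · exact le_trans (by norm_num) h.2
    rw [ha]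
    exact (pow_dvd_pow 2 (show 4 ≤ a by omega))
  have hZpos : 0 < Nat.card Z := Nat.card_pos
  have hcardQ : ((Finset.univ : Finset Q).card : ℤ) = Nat.card Q := by
    rw [Finset.card_univ, Nat.card_eq_fintype_card]
  rcases hcase with ⟨h2, hle⟩ | ⟨h4, hle⟩
  · let χ : X → ℤ := fun y => if y = 1 then 1 else -1
    have h1 : χ 1 = 1 := if_pos rfl
    have hmul : ∀ u ∈ Z0, ∀ v ∈ Z0, χ (u * v) = χ u * χ v := by
      intro u hu v hv
      by_cases hu1 : u = 1
      · simp [χ, hu1]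
      by_cases hv1 : v = 1
      · simp [χ, hv1]
      have hne : Nat.card Z0 ≠ 1 := fun h => hu1 (by
        rw [Subgroup.card_eq_one.mp h] at hu; exact hu)
      have h2' : Nat.card Z0 = 2 := by
        have := Nat.card_pos (α := Z0); omega
      have huv : u = v := by
        obtain ⟨y, z, hyz, huniv⟩ := Nat.card_eq_two_iff.mp h2'
        have mem : ∀ w : Z0, w = y ∨ w = z := fun w => by
          have := Set.ext_iff.mp huniv w; simpa using this
        rcases mem 1 with e1 | e1 <;> rcases mem ⟨u, hu⟩ with e2 | e2 <;>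
          rcases mem ⟨v, hv⟩ with e3 | e3 <;>
          first
            | exact congrArg Subtype.val (e2.trans e3.symm)
            | exact absurd (congrArg Subtype.val (e2.trans e1.symm)) hu1
            | exact absurd (congrArg Subtype.val (e3.trans e1.symm)) hv1
      subst huv
      simp [χ, hu1, ← pow_two, hZ2 u (hZ0 hu)]
    have hdvd := hS χ 3 h1 hmul (le_trans (by norm_num) hle)
    have heq : (∑ x : Q, (2 : ℤ) * if (x : X) ^ 2 = 1 then 1 else 0) =
        (Nat.card Q : ℤ) + ∑ x : Q, χ ((x : X) ^ 2) := by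
      rw [← hcardQ, Finset.cast_card, ← Finset.sum_add_distrib]
      exact Finset.sum_congr rfl fun x _ => by simp only [χ]; split_ifs <;> norm_num
    rw [← Finset.mul_sum, Finset.sum_boole, hcount] at heq
    omega
  · have hZZ0 : Z0 = Z := Subgroup.eq_of_le_of_card_ge hZ0 (by omega)
    let χ : X → X → ℤ := fun c y => if y ∈ Subgroup.zpowers c then 1 else -1
    have hord : ∀ c ∈ Z0, c ≠ 1 → orderOf c = 2 := fun c hc hc1 =>
      orderOf_eq_prime (hZ2 c (hZ0 hc)) hc1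
    set s := ((Finset.univ : Finset X).filter fun c => c ∈ Z0 ∧ c ≠ 1) with hs
    have hscard : s.card = 3 := by
      have h : s = ((Finset.univ : Finset X).filter fun c => c ∈ Z0).erase 1 := by
        ext c; simp [hs, and_comm]
      rw [h, Finset.card_erase_of_mem (by simp), ← Fintype.card_subtype,
        ← Nat.card_eq_fintype_card, h4]
    have hmul : ∀ c ∈ s, ∀ u ∈ Z0, ∀ v ∈ Z0, χ c (u * v) = χ c u * χ c v := by
      intro c hc u hu v hv
      obtain ⟨hc, hc1⟩ := (Finset.mem_filter.mp hc).2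
      have hidx : ((Subgroup.zpowers c).subgroupOf Z0).index = 2 := by
        have h := Subgroup.card_mul_index ((Subgroup.zpowers c).subgroupOf Z0)
        rw [Nat.card_congr (Subgroup.subgroupOfEquivOfLe (Subgroup.zpowers_le.mpr hc)).toEquiv,
          Nat.card_zpowers, hord c hc hc1, h4] at h
        omega
      have h := Subgroup.mul_mem_iff_of_index_two hidx (a := ⟨u, hu⟩) (b := ⟨v, hv⟩)
      simp only [Subgroup.mem_subgroupOf, MulMemClass.coe_mul] at h
      by_cases hu' : u ∈ Subgroup.zpowers c <;> by_cases hv' : v ∈ Subgroup.zpowers c <;>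
        simp [χ, h, hu', hv']
    have hdvd : (32 : ℤ) ∣ ∑ c ∈ s, ∑ x : Q, χ c ((x : X) ^ 2) :=
      Finset.dvd_sum fun c hc => by
        exact hS (χ c) 4 (if_pos (one_mem _)) (hmul c hc) (le_trans (by norm_num) hle)
    have hQ32 : 32 ∣ Nat.card Q := by
      have hb' : Nat.card Z = 4 := hZZ0 ▸ h4
      rw [hb', ha, show (2 : ℕ) ^ 9 = 2 ^ 7 * 4 by norm_num] at hle
      rw [ha]
      exact pow_dvd_pow 2 (le_trans (by norm_num : 5 ≤ 7)
        ((Nat.pow_le_pow_iff_right (by norm_num)).mp (Nat.le_of_mul_le_mul_right hle (by norm_num))))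
    have hpt : ∀ y ∈ Z0, (1 : ℤ) + ∑ c ∈ s, χ c y = 4 * if y = 1 then 1 else 0 := by
      intro y hy
      by_cases hy1 : y = 1
      · simp [hy1, χ, hscard]
      · have hys : y ∈ s := by simp [hs, hy, hy1]
        rw [← Finset.add_sum_erase s _ hys]
        have hrest : ∀ c ∈ s.erase y, χ c y = -1 := by
          intro c hc
          obtain ⟨hcy, hcs⟩ := Finset.mem_erase.mp hc
          obtain ⟨hc, hc1⟩ := (Finset.mem_filter.mp hcs).2
          refine if_neg fun h => ?_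
          obtain ⟨k, hk⟩ := (mem_powers_iff_mem_zpowers.mpr h)
          have hk' : c ^ (k % 2) = y := by rw [← hord c hc hc1, pow_mod_orderOf]; exact hk
          rcases Nat.mod_two_eq_zero_or_one k with e | e <;> rw [e] at hk'
          · exact hy1 (by rw [← hk', pow_zero])
          · exact hcy (by rw [← hk', pow_one])
        rw [Finset.sum_congr rfl hrest, Finset.sum_const, Finset.card_erase_of_mem hys, hscard,
          if_neg hy1]
        simp [χ, Subgroup.mem_zpowers]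
    have heq : (∑ x : Q, (4 : ℤ) * if (x : X) ^ 2 = 1 then 1 else 0) =
        (Nat.card Q : ℤ) + ∑ c ∈ s, ∑ x : Q, χ c ((x : X) ^ 2) := by
      rw [← hcardQ, Finset.cast_card, Finset.sum_comm, ← Finset.sum_add_distrib]
      exact Finset.sum_congr rfl fun x _ => (hpt _ (hsq x x.2)).symm
    rw [← Finset.mul_sum, Finset.sum_boole, hcount, show Nat.card Z = 4 from hZZ0 ▸ h4] at heq
    omega

/-- Adjoining a commuting involution. -/
theorem exists_elem_adjoin (Z : Subgroup X) (x : X) (hZc : ∀ a ∈ Z, ∀ b ∈ Z, a * b = b * a)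
    (hZ2 : ∀ a ∈ Z, a ^ 2 = 1) (hx : ∀ a ∈ Z, a * x = x * a) (hx2 : x ^ 2 = 1) (hxZ : x ∉ Z) :
    ∃ E : Subgroup X, Z ≤ E ∧ x ∈ E ∧ (∀ a ∈ E, ∀ b ∈ E, a * b = b * a) ∧
      (∀ a ∈ E, a ^ 2 = 1) ∧ 2 * Nat.card Z ≤ Nat.card E ∧
      ∀ R : Subgroup X, Z ≤ R → x ∈ R → E ≤ R := by
  have hxx : x * x = 1 := (pow_two x).symm.trans hx2
  let E : Subgroup X :=
    { carrier := {y | y ∈ Z ∨ y * x ∈ Z}
      one_mem' := Or.inl Z.one_mem
      mul_mem' := by
        rintro a b (ha | ha) (hb | hb)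
        · exact Or.inl (Z.mul_mem ha hb)
        · exact Or.inr (by rw [mul_assoc]; exact Z.mul_mem ha hb)
        · refine Or.inr ?_
          rw [mul_assoc, hx b hb, ← mul_assoc]
          exact Z.mul_mem ha hb
        · refine Or.inl ?_
          have e := hx _ hb
          rw [mul_assoc b x x, hxx, mul_one] at e
          have : a * b = a * x * (b * x) := by
            rw [mul_assoc a x, ← mul_assoc x b x]
            rw [show x * b * x = b by
              calc x * b * x = x * (b * x) := mul_assoc _ _ _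
                _ = b := e.symm]
          rw [this]
          exact Z.mul_mem ha hb
      inv_mem' := by
        rintro a (ha | ha)
        · exact Or.inl (Z.inv_mem ha)
        · refine Or.inr ?_
          have e := hx _ ha
          rw [mul_assoc a x x, hxx, mul_one] at e
          have h2 := hZ2 _ ha
          rw [pow_two] at h2
          have : a⁻¹ * x = a * x := by
            rw [inv_mul_eq_iff_eq_mul]
            calc x = (a * x * (a * x)) * x := by rw [h2, one_mul]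
              _ = a * (x * (a * x) * x) := by group
              _ = a * (a * x) := by rw [← e]
          rw [this]; exact ha }
  refine ⟨E, fun a ha => Or.inl ha, Or.inr (by rw [hxx]; exact Z.one_mem), ?_, ?_, ?_, ?_⟩
  · have hrep : ∀ a ∈ E, ∃ z ∈ Z, a = z ∨ a = z * x := by
      rintro a (ha | ha)
      · exact ⟨a, ha, Or.inl rfl⟩
      · exact ⟨a * x, ha, Or.inr (by rw [mul_assoc, hxx, mul_one])⟩
    have hcx : ∀ a ∈ Z, Commute a x := hx
    intro a ha b hb
    obtain ⟨u, hu, e | e⟩ := hrep a ha <;> obtain ⟨v, hv, e' | e'⟩ := hrep b hb <;>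
      rw [e, e']
    · exact hZc _ hu _ hv
    · exact ((show Commute u v from hZc _ hu _ hv).mul_right (hcx u hu)).eq
    · exact ((show Commute u v from hZc _ hu _ hv).mul_left (hcx v hv).symm).eq
    · exact (((show Commute u v from hZc _ hu _ hv).mul_left (hcx v hv).symm).mul_right
        ((hcx u hu).mul_left (Commute.refl x))).eq
  · rintro a (ha | ha)
    · exact hZ2 a ha
    · have e : Commute (a * x) x := hx _ ha
      rw [show a = a * x * x by rw [mul_assoc, hxx, mul_one], e.mul_pow, hZ2 _ ha, hx2, mul_one]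
  · obtain ⟨k, hk⟩ := Subgroup.card_dvd_of_le (show Z ≤ E from fun a ha => Or.inl ha)
    have h1 : k ≠ 1 := fun h => hxZ (by
      have := Subgroup.eq_of_le_of_card_ge (show Z ≤ E from fun a ha => Or.inl ha)
        (by rw [hk, h, mul_one])
      rw [this]; exact Or.inr (by rw [hxx]; exact Z.one_mem))
    have h0 : k ≠ 0 := fun h => by rw [h, mul_zero] at hk; exact Nat.card_pos.ne' hk
    rw [hk, mul_comm 2]
    exact Nat.mul_le_mul_left _ (by omega)
  · rintro R hZR hxR a (ha | ha)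
    · exact hZR ha
    · have := R.mul_mem (hZR ha) hxR
      rwa [mul_assoc, hxx, mul_one] at this

theorem sub_two_pow_nine {a b : ℕ} (hba : b < a) (h : 9 ∣ 2 ^ a - 2 ^ b) : b + 6 ≤ a := by
  by_contra hlt
  push Not at hlt
  obtain ⟨k, rfl⟩ := Nat.exists_eq_add_of_lt hba
  have hcop : Nat.Coprime 9 (2 ^ b) := Nat.Coprime.pow_right b (by norm_num)
  rw [show 2 ^ (b + k + 1) - 2 ^ b = 2 ^ b * (2 ^ (k + 1) - 1) by
    rw [Nat.mul_sub, mul_one, ← pow_add, add_assoc]] at h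
  have h' := hcop.dvd_of_dvd_mul_left h
  have hk : k < 5 := by omega
  interval_cases k <;> norm_num at h'

/-- A faithful 3-element on a 2-group without elementary abelian subgroups of order 8 has
order 3. -/
theorem order_eq_three (P : Subgroup X) (hP : IsPGroup 2 P) (d : X) (n : ℕ) (hn : 1 ≤ n)
    (hd : orderOf d = 3 ^ n) (hdP : d ∈ Subgroup.normalizer (P : Set X))
    (hfaith : Subgroup.zpowers d ⊓ Subgroup.centralizer (P : Set X) = ⊥)
    (hrank : ∀ E : Subgroup X, E ≤ P → (∀ a ∈ E, ∀ b ∈ E, a * b = b * a) → (∀ a ∈ E, a ^ 2 = 1) →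
      Nat.card E ≤ 4) :
    orderOf d = 3 := by
  classical
  by_contra hne3
  haveI := Fact.mk Nat.prime_two
  haveI := Fact.mk Nat.prime_three
  set t := d ^ 3 ^ (n - 1) with ht
  have ht3 : orderOf t = 3 := by
    rw [ht, orderOf_pow_of_dvd (pow_ne_zero _ (by norm_num)) (hd ▸ pow_dvd_pow 3 (Nat.sub_le n 1)),
      hd, Nat.pow_div (Nat.sub_le n 1) (by norm_num), show n - (n - 1) = 1 by omega, pow_one]
  have htd : t ∈ Subgroup.zpowers d := Subgroup.pow_mem _ (Subgroup.mem_zpowers d) _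
  have hne : ∃ x ∈ P, t * x ≠ x * t := by
    by_contra hall
    push Not at hall
    have h1 : t ∈ (⊥ : Subgroup X) := hfaith ▸
      ⟨htd, Subgroup.mem_centralizer_iff.mpr fun x hx => (hall x hx).symm⟩
    rw [Subgroup.mem_bot.mp h1, orderOf_one] at ht3
    exact absurd ht3 (by norm_num)
  obtain ⟨Q, Φ, hQP, hΦQ, hdQ, hdΦ, hcen, hΦ2, hsq, hfix, htΦ, q0, hq0, hq0t⟩ :=
    exists_min P hP d t hdP htd (ht3 ▸ pow_orderOf_eq_one t) hne
  have hΦc : ∀ a ∈ Φ, ∀ b ∈ Φ, a * b = b * a := fun a ha b hb => hcen a ha b (hΦQ hb)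
  have hΦ4 := hrank Φ (hΦQ.trans hQP) hΦc hΦ2
  -- a free action
  set K := Subgroup.zpowers d
  have hKQ : ∀ g ∈ K, g ∈ Subgroup.normalizer (Q : Set X) := fun g hg =>
    (Subgroup.zpowers_le.mpr hdQ) hg
  let U := {x : X // x ∈ Q ∧ x ∉ Φ}
  letI : MulAction K U :=
    { smul := fun g x => ⟨(g : X) * x.1 * (g : X)⁻¹,
        (Subgroup.mem_normalizer_iff.mp (hKQ g g.2) _).mp x.2.1, fun h => x.2.2
          ((Subgroup.mem_normalizer_iff.mp ((Subgroup.zpowers_le.mpr hdΦ) g.2) _).mpr h)⟩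
      one_smul := fun x => Subtype.ext (by
        show ((1 : K) : X) * x.1 * ((1 : K) : X)⁻¹ = x.1
        simp)
      mul_smul := fun g h x => Subtype.ext (by
        show ((g * h : K) : X) * x.1 * ((g * h : K) : X)⁻¹ =
          (g : X) * ((h : X) * x.1 * (h : X)⁻¹) * (g : X)⁻¹
        push_cast; group) }
  have hfree : ∀ x : U, MulAction.stabilizer K x = ⊥ := by
    intro x
    rw [Subgroup.eq_bot_iff_forall]
    intro g hg
    by_contra hg1
    have hgx : (g : X) * x.1 * (g : X)⁻¹ = x.1 := congrArg Subtype.val (MulAction.mem_stabilizer_iff.mp hg)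
    have hgord : orderOf (g : X) ∣ 3 ^ n := hd ▸ orderOf_dvd_of_mem_zpowers g.2
    obtain ⟨j, hj, hgj⟩ := (Nat.dvd_prime_pow Nat.prime_three).mp hgord
    have hj0 : j ≠ 0 := fun h => hg1 (Subtype.ext (by
      rw [h, pow_zero] at hgj; exact orderOf_eq_one_iff.mp hgj))
    set y := (g : X) ^ 3 ^ (j - 1) with hy
    have hy3 : orderOf y = 3 := by
      rw [hy, orderOf_pow_of_dvd (pow_ne_zero _ (by norm_num)) (hgj ▸ pow_dvd_pow 3 (Nat.sub_le j 1)),
        hgj, Nat.pow_div (Nat.sub_le j 1) (by norm_num), show j - (j - 1) = 1 by omega, pow_one]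
    have hyd : y ∈ Subgroup.zpowers d := Subgroup.pow_mem _ g.2 _
    obtain ⟨i, hi⟩ := mem_powers_iff_mem_zpowers.mpr hyd
    have hi' : d ^ i = y := hi
    have h3i : 3 ^ n ∣ 3 * i := by
      rw [← hd]; refine orderOf_dvd_of_pow_eq_one ?_
      rw [mul_comm, pow_mul, hi', ← hy3, pow_orderOf_eq_one]
    have hit : y ∈ Subgroup.zpowers t := by
      rw [← Nat.succ_pred_eq_of_pos (show 0 < n by omega), pow_succ', ← Nat.sub_one] at h3i
      obtain ⟨m, hm⟩ := Nat.dvd_of_mul_dvd_mul_left (by norm_num) h3i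
      rw [← hi', hm, pow_mul, ← ht]
      exact Subgroup.pow_mem _ (Subgroup.mem_zpowers t) _
    have ht' : t ∈ Subgroup.zpowers y := by
      rw [Subgroup.eq_of_le_of_card_ge (Subgroup.zpowers_le.mpr hit)
        (by rw [Nat.card_zpowers, Nat.card_zpowers, hy3, ht3])]
      exact Subgroup.mem_zpowers t
    have hcx : y ∈ Subgroup.centralizer ({x.1} : Set X) :=
      Subgroup.pow_mem _ (Subgroup.mem_centralizer_singleton_iff.mpr
        (mul_inv_eq_iff_eq_mul.mp hgx)) _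
    exact x.2.2 (hfix _ x.2.1
      (Subgroup.mem_centralizer_singleton_iff.mp ((Subgroup.zpowers_le.mpr hcx) ht')))
  have hdvd : 3 ^ n ∣ Nat.card U := by
    rw [Nat.card_congr (MulAction.selfEquivOrbitsQuotientProd hfree), Nat.card_prod,
      Nat.card_zpowers, hd]
    exact dvd_mul_left _ _
  obtain ⟨a, ha⟩ := IsPGroup.iff_card.mp (hP.to_le hQP)
  obtain ⟨b, hb⟩ := IsPGroup.iff_card.mp (hP.to_le (hΦQ.trans hQP))
  have hUcard : Nat.card U + Nat.card Φ = Nat.card Q := by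
    rw [Nat.card_congr (Equiv.subtypeSubtypeEquivSubtypeInter (fun x => x ∈ Q) fun x => x ∉ Φ).symm,
      ← Nat.card_congr (Subgroup.subgroupOfEquivOfLe hΦQ).toEquiv, add_comm,
      ← Nat.card_congr (Equiv.sumCompl (fun x : Q => (x : X) ∈ Φ)), Nat.card_sum]
    rfl
  have hUpos : 0 < Nat.card U := by
    haveI : Nonempty U := ⟨⟨q0, hq0, fun h => hq0t (htΦ q0 h)⟩⟩
    exact Nat.card_pos
  have hba : b < a := by
    refine (Nat.pow_lt_pow_iff_right (show 1 < 2 by norm_num)).mp ?_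
    rw [← ha, ← hb]; omega
  have hn2 : 2 ≤ n := by
    by_contra h
    exact hne3 (by rw [hd, show n = 1 by omega, pow_one])
  have hab : b + 6 ≤ a := sub_two_pow_nine hba (by
    rw [← ha, ← hb, ← hUcard, Nat.add_sub_cancel]
    exact dvd_trans (show 9 ∣ 3 ^ n from (show (9 : ℕ) = 3 ^ 2 by norm_num) ▸ pow_dvd_pow 3 hn2)
      hdvd)
  have hb2 : b ≤ 2 := (Nat.pow_le_pow_iff_right (show 1 < 2 by norm_num)).mp (hb ▸ hΦ4)
  have hQbig : 2 ^ (b + 6) ≤ Nat.card Q := ha ▸ Nat.pow_le_pow_right (by norm_num) hab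
  have hcase : b = 0 ∨ b = 1 ∨ b = 2 := by omega
  rcases hcase with rfl | rfl | rfl
  · -- elementary
    have hΦ1 : Φ = ⊥ := Subgroup.card_eq_one.mp hb
    have hQ2 : ∀ x ∈ Q, x ^ 2 = 1 := fun x hx => by
      have := hsq x hx; rwa [hΦ1, Subgroup.mem_bot] at this
    have hQc : ∀ x ∈ Q, ∀ y ∈ Q, x * y = y * x := by
      intro x hx y hy
      have h1 := hQ2 x hx
      have h2 := hQ2 y hy
      have h3 := hQ2 _ (Q.mul_mem hx hy)
      rw [pow_two] at h1 h2 h3
      calc x * y = x * (x * y * (x * y)) * y := by rw [h3, mul_one]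
        _ = (x * x) * (y * x) * (y * y) := by group
        _ = y * x := by rw [h1, h2, one_mul, mul_one]
    exact absurd (hQbig.trans (hrank Q hQP hQc hQ2)) (by norm_num)
  · obtain ⟨x, hxQ, hxΦ, hx2⟩ := exists_involution_outside Q Φ Φ (hP.to_le hQP) hΦQ hcen hΦ2
      le_rfl hsq hΦ4 (Or.inl ⟨by rw [hb]; norm_num, by
        rw [hb]; exact le_trans (by norm_num) (Nat.mul_le_mul_right _ hQbig)⟩)
    have hxc : ∀ z ∈ Φ, z * x = x * z := fun z hz => hcen z hz x hxQ
    obtain ⟨E, hΦE, hxE, hEc, hE2, hEcard, hEmin⟩ := exists_elem_adjoin Φ x hΦc hΦ2 hxc hx2 hxΦ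
    have hEQ : E ≤ Q := hEmin Q hΦQ hxQ
    have hE4 := hrank E (hEQ.trans hQP) hEc hE2
    set Q1 := Q ⊓ Subgroup.centralizer ({x} : Set X) with hQ1
    have hcommΦ : ∀ y ∈ Q, y * x * y⁻¹ * x⁻¹ ∈ Φ := by
      intro y hy
      rw [show y * x * y⁻¹ * x⁻¹ = y ^ 2 * (y⁻¹ * x) ^ 2 * (x⁻¹) ^ 2 by
        simp only [pow_two]; group]
      exact Φ.mul_mem (Φ.mul_mem (hsq y hy) (hsq _ (Q.mul_mem (Q.inv_mem hy) hxQ)))
        (hsq _ (Q.inv_mem hxQ))
    let φ : Q →* Φ :=
      { toFun := fun y => ⟨(y : X) * x * (y : X)⁻¹ * x⁻¹, hcommΦ y y.2⟩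
        map_one' := Subtype.ext (by simp)
        map_mul' := fun y z => Subtype.ext (by
          show ((y * z : Q) : X) * x * ((y * z : Q) : X)⁻¹ * x⁻¹ =
            (y : X) * x * (y : X)⁻¹ * x⁻¹ * ((z : X) * x * (z : X)⁻¹ * x⁻¹)
          push_cast
          set c := (z : X) * x * (z : X)⁻¹ * x⁻¹ with hc
          have h := hcen c (hcommΦ z z.2)
          calc (y : X) * z * x * ((y : X) * z)⁻¹ * x⁻¹ = (y : X) * c * x * (y : X)⁻¹ * x⁻¹ := by
                rw [hc]; group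
            _ = c * ((y : X) * x * (y : X)⁻¹ * x⁻¹) := by rw [← h y y.2]; group
            _ = (y : X) * x * (y : X)⁻¹ * x⁻¹ * c := h _ (hΦQ (hcommΦ y y.2))) }
    have hker : φ.ker.map Q.subtype ≤ Q1 := by
      rintro _ ⟨y, hy, rfl⟩
      refine ⟨y.2, Subgroup.mem_centralizer_singleton_iff.mpr ?_⟩
      have h : (y : X) * x * (y : X)⁻¹ * x⁻¹ = 1 := congrArg Subtype.val (MonoidHom.mem_ker.mp hy)
      rw [mul_inv_eq_one] at h
      exact mul_inv_eq_iff_eq_mul.mp h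
    have hQ1card : Nat.card Q ≤ Nat.card Q1 * 2 := by
      rw [← Subgroup.card_mul_index φ.ker, Subgroup.index_ker]
      refine Nat.mul_le_mul ?_ ((Subgroup.card_le_card_group _).trans (by rw [hb]; norm_num))
      rw [← Subgroup.card_map_of_injective Q.subtype_injective]
      exact Subgroup.card_le_of_le hker
    have hEQ1 : E ≤ Q1 := fun e he =>
      ⟨hEQ he, Subgroup.mem_centralizer_singleton_iff.mpr (hEc e he x hxE)⟩
    have hEcen : ∀ z ∈ E, ∀ q ∈ Q1, z * q = q * z := by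
      intro z hz q hq
      have : E ≤ Subgroup.centralizer ({q} : Set X) := hEmin _
        (fun w hw => Subgroup.mem_centralizer_singleton_iff.mpr (hcen w hw q hq.1))
        (Subgroup.mem_centralizer_singleton_iff.mpr
          (Subgroup.mem_centralizer_singleton_iff.mp hq.2).symm)
      exact Subgroup.mem_centralizer_singleton_iff.mp (this hz)
    obtain ⟨y, hy, hyE, hy2⟩ := exists_involution_outside Q1 E Φ (hP.to_le (inf_le_left.trans hQP))
      hEQ1 hEcen hE2 hΦE (fun w hw => hsq w hw.1) hE4 (Or.inl ⟨by rw [hb]; norm_num, by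
        rw [hb] at hEcard
        calc 2 ^ 8 ≤ 2 ^ 6 * 4 := by norm_num
          _ ≤ Nat.card Q1 * Nat.card E := Nat.mul_le_mul (by
              have := hQbig.trans hQ1card
              omega) (by omega)⟩)
    obtain ⟨E', -, -, hE'c, hE'2, hE'card, hE'min⟩ := exists_elem_adjoin E y hEc hE2
      (fun z hz => hEcen z hz y hy) hy2 hyE
    have := hrank E' ((hE'min Q hEQ hy.1).trans hQP) hE'c hE'2
    rw [hb] at hEcard
    omega
  · obtain ⟨x, hxQ, hxΦ, hx2⟩ := exists_involution_outside Q Φ Φ (hP.to_le hQP) hΦQ hcen hΦ2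
      le_rfl hsq hΦ4 (Or.inr ⟨by rw [hb]; norm_num, by
        rw [hb]; exact le_trans (by norm_num) (Nat.mul_le_mul_right _ hQbig)⟩)
    obtain ⟨E, -, -, hEc, hE2, hEcard, hEmin⟩ := exists_elem_adjoin Φ x hΦc hΦ2
      (fun z hz => hcen z hz x hxQ) hx2 hxΦ
    have := hrank E ((hEmin Q hΦQ hxQ).trans hQP) hEc hE2
    rw [hb] at hEcard
    omega

end H28.Rank3
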